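-- A semisimple element of prime order commuting with a nontrivial unipotent element of SL_n(q)
-- lives in small degree (helper40).
import Mathlib
import Cfsg.Agent.Lib.Helper40.Semisimple
import Cfsg.Agent.Lib.Helper40.SLSylow

set_option autoImplicit false

namespace Cfsg.Agent.Lib.Helper40

open Polynomial

universe u v

section core

variable {K : Type u} [Field K] {V : Type v} [AddCommGroup V] [Module K V]

theorem commute_aeval (f g : Module.End K V) (hfg : Commute f g) (h : K[X]) :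
    Commute (aeval f h) g := by
  induction h using Polynomial.induction_on' with
  | add p q hp hq =>
    rw [map_add]
    exact hp.add_left hq
  | monomial n a =>
    rw [aeval_monomial]
    exact (Algebra.commute_algebraMap_left a g).mul_left (hfg.pow_left n)

theorem apply_aeval_comm (f g : Module.End K V) (hfg : Commute f g) (h : K[X]) (x : V) :
    g (aeval f h x) = aeval f h (g x) := by
  have h1 := (commute_aeval f g hfg h).eq
  have h2 := congrArg (fun φ : Module.End K V => φ x) h1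
  exact h2.symm

/-- If `h(f)` kills a nonzero vector, some irreducible factor of `h` kills a nonzero vector. -/
theorem exists_irreducible_factor_kills (f : Module.End K V) (h : K[X]) :
    h ≠ 0 → ∀ w : V, w ≠ 0 → aeval f h w = 0 →
      ∃ π : K[X], Irreducible π ∧ π ∣ h ∧ ∃ v : V, v ≠ 0 ∧ aeval f π v = 0 := by
  induction h using WfDvdMonoid.induction_on_irreducible with
  | zero => exact fun hh => absurd rfl hh
  | unit u hu =>
    intro _ w hw hkill
    exfalso
    obtain ⟨c, hc, rfl⟩ := Polynomial.isUnit_iff.1 hu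
    rw [aeval_C, Module.algebraMap_end_apply] at hkill
    rcases smul_eq_zero.1 hkill with h1 | h1
    · exact hc.ne_zero h1
    · exact hw h1
  | mul a i ha hi ih =>
    intro _ w hw hkill
    by_cases h0 : aeval f a w = 0
    · obtain ⟨π, hπ, hdvd, v, hv, hv0⟩ := ih ha w hw h0
      exact ⟨π, hπ, dvd_mul_of_dvd_right hdvd i, v, hv, hv0⟩
    · refine ⟨i, hi, dvd_mul_right i a, aeval f a w, h0, ?_⟩
      rw [← Module.End.mul_apply, ← map_mul]
      exact hkill

variable [FiniteDimensional K V]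

/-- An irreducible polynomial `π` with `π(f)` killing a nonzero vector has degree at most `n - 2`
when `f` commutes with a nonzero nilpotent endomorphism of the `n`-dimensional space, `n ≥ 4`. -/
theorem natDegree_le_of_commute_nilpotent (f g : Module.End K V) (hfg : Commute f g)
    (hg : IsNilpotent g) (hg0 : g ≠ 0) (hn : 4 ≤ Module.finrank K V)
    (π : K[X]) (hπ : Irreducible π) (v : V) (hv : v ≠ 0) (h0 : aeval f π v = 0) :
    π.natDegree ≤ Module.finrank K V - 2 := by
  classical
  set n := Module.finrank K V with hn'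
  have : Fact (Irreducible π) := ⟨hπ⟩
  have hZ : Module.finrank K (cyc f v) = π.natDegree := by
    rw [← (cycEquiv f v π hπ hv h0).finrank_eq, (AdjoinRoot.powerBasis hπ.ne_zero).finrank,
      AdjoinRoot.powerBasis_dim]
  have hcomm : ∀ (h : K[X]) (x : V), g (aeval f h x) = aeval f h (g x) :=
    apply_aeval_comm f g hfg
  by_cases hgv : g v = 0
  · -- the cyclic subspace lies in the kernel
    by_contra hcon
    have hcon' : n - 2 < π.natDegree := not_le.1 hcon
    have hZker : cyc f v ≤ LinearMap.ker g := by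
      rintro x ⟨k, rfl⟩
      rw [LinearMap.mem_ker, evalAt_apply, hcomm, hgv, map_zero]
    obtain ⟨x, hx⟩ : ∃ x, g x ≠ 0 := by
      by_contra h
      push Not at h
      exact hg0 (LinearMap.ext h)
    have hrk := LinearMap.finrank_range_add_finrank_ker g
    have hr1 : 1 ≤ Module.finrank K (LinearMap.range g) := by
      rw [Nat.succ_le_iff, Module.finrank_pos_iff_exists_ne_zero]
      exact ⟨⟨g x, x, rfl⟩, fun h => hx (congrArg Subtype.val h)⟩
    have hmono : Module.finrank K (cyc f v) ≤ Module.finrank K (LinearMap.ker g) :=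
      Submodule.finrank_mono hZker
    have hZeq : cyc f v = LinearMap.ker g :=
      Submodule.eq_of_le_of_finrank_le hZker (by omega)
    have hrange : Module.finrank K (LinearMap.range g) ≤ 1 := by omega
    obtain ⟨⟨u₀, hu₀⟩, hgen⟩ := finrank_le_one_iff.1 hrange
    have hmult : ∀ y ∈ LinearMap.range g, ∃ c : K, c • g x = y := by
      intro y hy
      obtain ⟨c₁, hc₁⟩ := hgen ⟨g x, x, rfl⟩
      obtain ⟨c₂, hc₂⟩ := hgen ⟨y, hy⟩
      have hc₁' : c₁ • u₀ = g x := congrArg Subtype.val hc₁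
      have hc₂' : c₂ • u₀ = y := congrArg Subtype.val hc₂
      have hc₁0 : c₁ ≠ 0 := by
        rintro rfl
        rw [zero_smul] at hc₁'
        exact hx hc₁'.symm
      refine ⟨c₂ * c₁⁻¹, ?_⟩
      rw [← hc₁', smul_smul, mul_assoc, inv_mul_cancel₀ hc₁0, mul_one, hc₂']
    obtain ⟨c, hc⟩ := hmult (g (g x)) ⟨g x, rfl⟩
    obtain ⟨c', hc'⟩ := hmult (f (g x)) ⟨f x, by
      have h1 := congrArg (fun φ : Module.End K V => φ x) hfg.eq
      exact h1.symm⟩
    obtain ⟨m, hm⟩ := hg
    have hpow : ∀ i : ℕ, (g ^ i) (g x) = c ^ i • g x := by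
      intro i
      induction i with
      | zero => simp
      | succ i ih =>
        rw [pow_succ, Module.End.mul_apply, ← hc, map_smul, ih, smul_smul, pow_succ, mul_comm]
    have hc0 : c = 0 := by
      have h1 := hpow m
      rw [hm, LinearMap.zero_apply] at h1
      by_contra hc0
      rcases smul_eq_zero.1 h1.symm with h2 | h2
      · exact pow_ne_zero _ hc0 h2
      · exact hx h2
    have hgu : g (g x) = 0 := by rw [← hc, hc0, zero_smul]
    have huZ : g x ∈ cyc f v := by
      rw [hZeq, LinearMap.mem_ker]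
      exact hgu
    obtain ⟨k, hk⟩ := huZ
    have hπu : aeval f π (g x) = 0 := by
      rw [← hk, evalAt_apply, ← Module.End.mul_apply, ← map_mul, mul_comm, map_mul,
        Module.End.mul_apply, h0, map_zero]
    have hlin : aeval f (X - C c') (g x) = 0 := by
      rw [map_sub, aeval_X, aeval_C, LinearMap.sub_apply, Module.algebraMap_end_apply, hc', sub_self]
    have hdvd := (aeval_eq_zero_iff_dvd f (g x) π hπ hx hπu (X - C c')).1 hlin
    have hdeg := natDegree_le_of_dvd hdvd (X_sub_C_ne_zero c')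
    rw [natDegree_X_sub_C] at hdeg
    omega
  · -- the cyclic subspace and its image are independent
    obtain ⟨M, hM⟩ := hg
    have hex : ∃ m, (g ^ m) v = 0 := ⟨M, by rw [hM]; rfl⟩
    have hm : (g ^ Nat.find hex) v = 0 := Nat.find_spec hex
    have hm0 : Nat.find hex ≠ 0 := by
      intro h
      rw [h, pow_zero] at hm
      exact hv hm
    have hm1 : Nat.find hex ≠ 1 := by
      intro h
      rw [h, pow_one] at hm
      exact hgv hm
    obtain ⟨m, hmm⟩ : ∃ m, Nat.find hex = m + 2 := ⟨Nat.find hex - 2, by omega⟩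
    rw [hmm] at hm
    have hm2 : (g ^ (m + 1)) v ≠ 0 := Nat.find_min hex (by omega)
    have hGcomm : ∀ (h : K[X]) (x : V), (g ^ (m + 1)) (aeval f h x) = aeval f h ((g ^ (m + 1)) x) :=
      apply_aeval_comm f (g ^ (m + 1)) (hfg.pow_right (m + 1))
    have hinjG : ∀ k : K[X], (g ^ (m + 1)) (aeval f k v) = 0 → aeval f k v = 0 := by
      intro k hk
      by_contra hz
      have hnd : ¬ π ∣ k := fun hd => hz ((aeval_eq_zero_iff_dvd f v π hπ hv h0 k).2 hd)
      obtain ⟨a, b, hab⟩ := (Irreducible.coprime_iff_not_dvd hπ).2 hnd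
      have h1 : aeval f (a * π + b * k) v = v := by
        rw [hab]
        simp
      rw [map_add, map_mul, map_mul, LinearMap.add_apply, Module.End.mul_apply,
        Module.End.mul_apply, h0, map_zero, zero_add] at h1
      apply hm2
      rw [← h1, hGcomm, hk, map_zero]
    let T : (cyc f v × cyc f v) →ₗ[K] V :=
      (cyc f v).subtype.coprod (g ∘ₗ (cyc f v).subtype)
    have hT : Function.Injective T := by
      rw [← LinearMap.ker_eq_bot, LinearMap.ker_eq_bot']
      rintro ⟨⟨z1, k1, rfl⟩, ⟨z2, k2, rfl⟩⟩ hz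
      have hz' : aeval f k1 v + g (aeval f k2 v) = 0 := hz
      have h2 : (g ^ (m + 1)) (aeval f k1 v) = 0 := by
        have h3 := congrArg (g ^ (m + 1)) hz'
        rw [map_add, map_zero] at h3
        have h4 : (g ^ (m + 1)) (g (aeval f k2 v)) = 0 := by
          rw [← Module.End.mul_apply, ← pow_succ,
            apply_aeval_comm f (g ^ (m + 1 + 1)) (hfg.pow_right _), hm, map_zero]
        rw [h4, add_zero] at h3
        exact h3
      have h5 : aeval f k1 v = 0 := hinjG k1 h2
      rw [h5, zero_add] at hz'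
      have h6 : (g ^ (m + 1)) (aeval f k2 v) = 0 := by
        rw [pow_succ, Module.End.mul_apply, hz', map_zero]
      have h7 : aeval f k2 v = 0 := hinjG k2 h6
      apply Prod.ext
      · exact Subtype.ext h5
      · exact Subtype.ext h7
    have hle := LinearMap.finrank_le_finrank_of_injective hT
    rw [Module.finrank_prod, hZ] at hle
    omega

end core

section matrices

variable {F : Type u} [Field F] [Fintype F]

/-- Matrix form: a matrix `B` of prime order `r ≠ p` commuting with a unipotent `A ≠ 1` of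
`GL_n(q)`, `n ≥ 4`, has `r ∣ q^j - 1` for some `1 ≤ j ≤ n - 2`. -/
theorem exists_dvd_pow_sub_one (p : ℕ) [Fact p.Prime] [CharP F p] {n : ℕ} (hn : 4 ≤ n)
    (r : ℕ) (hr : r.Prime) (hrp : r ≠ p) (A B : Matrix (Fin n) (Fin n) F)
    (hAB : A * B = B * A) (hA : A ^ p = 1) (hA1 : A ≠ 1) (hB : B ^ r = 1) (hB1 : B ≠ 1) :
    ∃ j, 1 ≤ j ∧ j ≤ n - 2 ∧ r ∣ Fintype.card F ^ j - 1 := by
  classical
  have hpp : p.Prime := Fact.out
  have : Nonempty (Fin n) := ⟨⟨0, by omega⟩⟩
  set f : Module.End F (Fin n → F) := Matrix.toLin' B with hf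
  set g : Module.End F (Fin n → F) := Matrix.toLin' (A - 1) with hg
  have hfg : Commute f g := by
    change f * g = g * f
    rw [hf, hg]
    change Matrix.toLinAlgEquiv' B * Matrix.toLinAlgEquiv' (A - 1) =
      Matrix.toLinAlgEquiv' (A - 1) * Matrix.toLinAlgEquiv' B
    rw [← map_mul, ← map_mul, mul_sub, sub_mul, mul_one, one_mul, hAB]
  have hgnil : IsNilpotent g := by
    refine ⟨p, ?_⟩
    rw [hg]
    change Matrix.toLinAlgEquiv' (A - 1) ^ p = 0
    rw [← map_pow, sub_pow_char_of_commute _ (Commute.one_right A), hA, one_pow, sub_self, map_zero]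
  have hg0 : g ≠ 0 := by
    rw [hg]
    intro h
    apply hA1
    have h2 : A - 1 = 0 := Matrix.toLin'.injective (h.trans (map_zero _).symm)
    exact sub_eq_zero.1 h2
  have hfin : Module.finrank F (Fin n → F) = n := by
    rw [Module.finrank_pi, Fintype.card_fin]
  have hfr : f ^ r = 1 := by
    rw [hf]
    change Matrix.toLinAlgEquiv' B ^ r = 1
    rw [← map_pow, hB, map_one]
  have hf1 : f ≠ 1 := by
    rw [hf]
    intro h
    apply hB1
    exact Matrix.toLin'.injective (h.trans Matrix.toLin'_one.symm)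
  obtain ⟨w₀, hw₀⟩ : ∃ w₀, f w₀ ≠ w₀ := by
    by_contra h
    push Not at h
    exact hf1 (LinearMap.ext h)
  set Φ : F[X] := ∑ i ∈ Finset.range r, X ^ i with hΦ
  have hΦmul : Φ * (X - 1) = X ^ r - 1 := geom_sum_mul X r
  have hcop : r.Coprime p := (Nat.coprime_primes hr hpp).2 hrp
  have hrF : (r : F) ≠ 0 := natCast_ne_zero_of_coprime p r hcop
  have hΦ1 : Φ.eval 1 = (r : F) := by
    rw [hΦ, eval_geom_sum]
    simp
  have hΦ0 : Φ ≠ 0 := by
    intro h
    rw [h, eval_zero] at hΦ1
    exact hrF hΦ1.symm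
  have hkill : aeval f Φ (f w₀ - w₀) = 0 := by
    have h1 : aeval f (Φ * (X - 1)) w₀ = 0 := by
      rw [hΦmul, map_sub, map_pow, aeval_X, map_one, hfr, sub_self, LinearMap.zero_apply]
    rw [map_mul, Module.End.mul_apply, map_sub, aeval_X, map_one, LinearMap.sub_apply,
      Module.End.one_apply] at h1
    exact h1
  obtain ⟨π, hπ, hπΦ, v, hv, hv0⟩ :=
    exists_irreducible_factor_kills f Φ hΦ0 (f w₀ - w₀) (sub_ne_zero.2 hw₀) hkill
  have hdeg := natDegree_le_of_commute_nilpotent f g hfg hgnil hg0 (by rw [hfin]; exact hn) π hπ v hv hv0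
  rw [hfin] at hdeg
  refine ⟨π.natDegree, hπ.natDegree_pos, hdeg, ?_⟩
  have : Fact (Irreducible π) := ⟨hπ⟩
  have hπr : π ∣ X ^ r - 1 := by
    rw [← hΦmul]
    exact dvd_mul_of_dvd_left hπΦ _
  let α : AdjoinRoot π := AdjoinRoot.root π
  have hαr : α ^ r = 1 := by
    have h := AdjoinRoot.mk_eq_zero.2 hπr
    simpa [sub_eq_zero, α] using h
  have hα1 : α ≠ 1 := by
    intro h
    have h1 : AdjoinRoot.mk π (X - 1) = 0 := by
      simp only [map_sub, AdjoinRoot.mk_X, map_one]
      exact sub_eq_zero.2 h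
    have h2 : π ∣ X - C (1 : F) := by
      rw [C_1]
      exact AdjoinRoot.mk_eq_zero.1 h1
    have h3 : π ∣ Φ - C (Φ.eval 1) := h2.trans X_sub_C_dvd_sub_C_eval
    have h4 : π ∣ C (Φ.eval 1) := by
      have h5 := dvd_sub hπΦ h3
      rwa [sub_sub_cancel] at h5
    rw [hΦ1] at h4
    exact hπ.not_isUnit (isUnit_of_dvd_unit h4 (Polynomial.isUnit_C.2 (isUnit_iff_ne_zero.2 hrF)))
  have hα0 : α ≠ 0 := by
    intro h
    rw [h, zero_pow hr.ne_zero] at hαr
    exact zero_ne_one hαr
  have hfinE : Module.Finite F (AdjoinRoot π) := (AdjoinRoot.powerBasis hπ.ne_zero).finite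
  have : Finite (AdjoinRoot π) := Module.finite_of_finite F
  have hcard : Nat.card (AdjoinRoot π) = Fintype.card F ^ π.natDegree := by
    rw [Module.natCard_eq_pow_finrank (K := F), (AdjoinRoot.powerBasis hπ.ne_zero).finrank,
      AdjoinRoot.powerBasis_dim, Nat.card_eq_fintype_card]
  have : Fact r.Prime := ⟨hr⟩
  have hord : orderOf (Units.mk0 α hα0) = r := by
    apply orderOf_eq_prime
    · apply Units.ext
      simpa using hαr
    · intro h
      apply hα1
      have := congrArg Units.val h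
      simpa using this
  have hdvd : orderOf (Units.mk0 α hα0) ∣ Nat.card (AdjoinRoot π)ˣ := orderOf_dvd_natCard _
  rw [hord, Nat.card_units, hcard] at hdvd
  exact hdvd

/-- `r` divides the order of `SL_m(q)`, `m ≥ 2`, if it is `p` or divides some `q^j - 1`,
`1 ≤ j ≤ m`. -/
theorem dvd_card_SL_of (p : ℕ) [Fact p.Prime] [CharP F p] (m : ℕ) (hm : 2 ≤ m) (r : ℕ)
    (h : r = p ∨ ∃ j, 1 ≤ j ∧ j ≤ m ∧ r ∣ Fintype.card F ^ j - 1) :
    r ∣ Nat.card (Matrix.SpecialLinearGroup (Fin m) F) := by
  classical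
  set q := Fintype.card F with hq
  have hq2 : 2 ≤ q := Fintype.one_lt_card
  obtain ⟨m', rfl⟩ : ∃ m', m = m' + 1 := ⟨m - 1, by omega⟩
  have hGL := card_GL_eq_card_SL_mul (F := F) (m' + 1) (by omega)
  rw [Matrix.card_GL_field, ← hq, Fin.prod_univ_castSucc] at hGL
  have hlast : q ^ (m' + 1) - q ^ ((Fin.last m' : Fin (m' + 1)) : ℕ) = q ^ m' * (q - 1) := by
    rw [Fin.val_last, pow_succ, Nat.mul_sub, mul_one]
  rw [hlast, ← mul_assoc] at hGL
  have hS : Nat.card (Matrix.SpecialLinearGroup (Fin (m' + 1)) F) =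
      (∏ i : Fin m', (q ^ (m' + 1) - q ^ ((i.castSucc : Fin (m' + 1)) : ℕ))) * q ^ m' :=
    (Nat.eq_of_mul_eq_mul_right (by omega : 0 < q - 1) hGL).symm
  rw [hS]
  rcases h with rfl | ⟨j, hj1, hjm, hjdvd⟩
  · apply dvd_mul_of_dvd_right
    obtain ⟨k, hk⟩ : ∃ k : ℕ, q = r ^ k := by
      obtain ⟨k, _, hk⟩ := FiniteField.card F r
      exact ⟨k, hk⟩
    have hk0 : k ≠ 0 := by
      rintro rfl
      rw [pow_zero] at hk
      omega
    have h1 : r ∣ q := by
      rw [hk]
      exact dvd_pow_self r hk0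
    exact dvd_pow h1 (by omega)
  · apply dvd_mul_of_dvd_left
    obtain ⟨j', hj'2, hj'm, hj'dvd⟩ : ∃ j', 2 ≤ j' ∧ j' ≤ m' + 1 ∧ r ∣ q ^ j' - 1 := by
      rcases Nat.lt_or_ge j 2 with hj | hj
      · have hj1' : j = 1 := by omega
        subst hj1'
        refine ⟨2, le_refl _, hm, hjdvd.trans ?_⟩
        have h2 : q ^ 2 - 1 = (q + 1) * (q - 1) := by
          obtain ⟨t, ht⟩ : ∃ t, q = t + 1 := ⟨q - 1, by omega⟩
          rw [ht]
          have h3 : (t + 1) ^ 2 = (t + 1 + 1) * t + 1 := by ring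
          rw [h3]
          simp
        rw [h2, pow_one]
        exact dvd_mul_left _ _
      · exact ⟨j, hj, hjm, hjdvd⟩
    have hi : m' + 1 - j' < m' := by omega
    have hmem : (⟨m' + 1 - j', hi⟩ : Fin m') ∈ Finset.univ := Finset.mem_univ _
    apply dvd_trans _ (Finset.dvd_prod_of_mem _ hmem)
    have hfac : q ^ (m' + 1) - q ^ (((⟨m' + 1 - j', hi⟩ : Fin m').castSucc : Fin (m' + 1)) : ℕ) =
        q ^ (m' + 1 - j') * (q ^ j' - 1) := by
      change q ^ (m' + 1) - q ^ (m' + 1 - j') = _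
      rw [Nat.mul_sub, mul_one, ← pow_add]
      congr 2
      omega
    rw [hfac]
    exact dvd_mul_of_dvd_right hj'dvd _

end matrices

section psl

variable {F : Type u} [Field F] [Fintype F]

/-- Central elements of `SL_n(q)` have order dividing `q - 1`. -/
theorem sl_center_pow (n : ℕ) (hn : 1 ≤ n) (C : Matrix.SpecialLinearGroup (Fin n) F)
    (hC : C ∈ Subgroup.center (Matrix.SpecialLinearGroup (Fin n) F)) :
    C ^ (Fintype.card F - 1) = 1 := by
  rw [Matrix.SpecialLinearGroup.mem_center_iff] at hC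
  obtain ⟨c, hc, hcC⟩ := hC
  have hc0 : c ≠ 0 := by
    rintro rfl
    rw [Fintype.card_fin, zero_pow (by omega)] at hc
    exact zero_ne_one hc
  apply Subtype.ext
  rw [Matrix.SpecialLinearGroup.coe_pow, ← hcC, ← map_pow, FiniteField.pow_card_sub_one_eq_one c hc0,
    map_one]
  rfl

theorem sl_lift_pow (n : ℕ) (hn : 1 ≤ n) (X : Matrix.SpecialLinearGroup (Fin n) F) (e : ℕ)
    (h : (QuotientGroup.mk X : Matrix.ProjectiveSpecialLinearGroup (Fin n) F) ^ e = 1) :
    (X ^ (Fintype.card F - 1)) ^ e = 1 := by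
  rw [← QuotientGroup.mk_pow, QuotientGroup.eq_one_iff] at h
  rw [← pow_mul, mul_comm, pow_mul]
  exact sl_center_pow n hn _ h

/-- In `PSL_n(q)`, `n ≥ 4`, the primes dividing the order of an element commuting with an element
of order `p` divide the order of `SL_{n-2}(q)`. -/
theorem psl_commute_primeFactors (p : ℕ) [Fact p.Prime] [CharP F p] (n : ℕ) (hn : 4 ≤ n)
    (a b : Matrix.ProjectiveSpecialLinearGroup (Fin n) F) (ha : orderOf a = p) (hab : Commute a b) :
    (orderOf b).primeFactors ⊆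
      (Nat.card (Matrix.SpecialLinearGroup (Fin (n - 2)) F)).primeFactors := by
  classical
  intro r hr
  rw [Nat.mem_primeFactors] at hr
  obtain ⟨hrprime, hrdvd, hb0⟩ := hr
  rw [Nat.mem_primeFactors]
  refine ⟨hrprime, ?_, Nat.card_pos.ne'⟩
  have hpp : p.Prime := Fact.out
  set q := Fintype.card F with hq
  have hq2 : 2 ≤ q := Fintype.one_lt_card
  have hpq : p ∣ q := by
    obtain ⟨k, _, hk⟩ := FiniteField.card F p
    rw [hq, hk]
    exact dvd_pow_self p k.ne_zero
  apply dvd_card_SL_of p (n - 2) (by omega) r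
  by_cases hrp : r = p
  · exact Or.inl hrp
  right
  by_cases hrq : r ∣ q - 1
  · exact ⟨1, le_refl _, by omega, by rwa [pow_one]⟩
  set b₁ := b ^ (orderOf b / r) with hb₁
  have hb₁ord : orderOf b₁ = r := orderOf_pow_orderOf_div hb0 hrdvd
  obtain ⟨A₀, hA₀⟩ := QuotientGroup.mk_surjective a
  obtain ⟨B₀, hB₀⟩ := QuotientGroup.mk_surjective b₁
  set A := A₀ ^ (q - 1) with hA
  set B := B₀ ^ (q - 1) with hB
  have hAp : A ^ p = 1 := sl_lift_pow n (by omega) A₀ p (by
    rw [hA₀, ← ha]
    exact pow_orderOf_eq_one a)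
  have hBr : B ^ r = 1 := sl_lift_pow n (by omega) B₀ r (by
    rw [hB₀, ← hb₁ord]
    exact pow_orderOf_eq_one b₁)
  have hmkA : (QuotientGroup.mk A : Matrix.ProjectiveSpecialLinearGroup (Fin n) F) = a ^ (q - 1) := by
    rw [hA, QuotientGroup.mk_pow, hA₀]
  have hmkB : (QuotientGroup.mk B : Matrix.ProjectiveSpecialLinearGroup (Fin n) F) = b₁ ^ (q - 1) := by
    rw [hB, QuotientGroup.mk_pow, hB₀]
  have hA1 : A ≠ 1 := by
    intro h
    have h2 : a ^ (q - 1) = 1 := by
      rw [← hmkA, h]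
      rfl
    have h3 := orderOf_dvd_of_pow_eq_one h2
    rw [ha] at h3
    have h4 : p ∣ 1 := by
      have h5 := Nat.dvd_sub hpq h3
      have h6 : q - (q - 1) = 1 := by omega
      rwa [h6] at h5
    exact hpp.one_lt.ne' (Nat.dvd_one.1 h4)
  have hB1 : B ≠ 1 := by
    intro h
    have h2 : b₁ ^ (q - 1) = 1 := by
      rw [← hmkB, h]
      rfl
    have h3 := orderOf_dvd_of_pow_eq_one h2
    rw [hb₁ord] at h3
    exact hrq h3
  have hcomm : A * B = B * A := by
    have hab₁ : Commute a b₁ := hab.pow_right _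
    have hC : A * B * A⁻¹ * B⁻¹ ∈ Subgroup.center (Matrix.SpecialLinearGroup (Fin n) F) := by
      rw [← QuotientGroup.eq_one_iff, QuotientGroup.mk_mul, QuotientGroup.mk_mul,
        QuotientGroup.mk_mul, QuotientGroup.mk_inv, QuotientGroup.mk_inv, hmkA, hmkB]
      have hc : Commute (a ^ (q - 1)) (b₁ ^ (q - 1)) := (hab₁.pow_left _).pow_right _
      rw [hc.eq]
      group
    obtain ⟨C, hCdef⟩ : ∃ C, C = A * B * A⁻¹ * B⁻¹ := ⟨_, rfl⟩
    rw [← hCdef] at hC
    have hC1 : C ^ (q - 1) = 1 := sl_center_pow n (by omega) C hC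
    have hCr : C ^ r = 1 := by
      have h1 : A * B * A⁻¹ = C * B := by
        rw [hCdef]
        group
      have h2 : (A * B * A⁻¹) ^ r = 1 := by
        rw [conj_pow, hBr]
        group
      rw [h1] at h2
      have hCB : Commute C B := (Subgroup.mem_center_iff.1 hC B).symm
      rw [hCB.mul_pow, hBr, mul_one] at h2
      exact h2
    have hgcd : Nat.gcd r (q - 1) = 1 := (Nat.Prime.coprime_iff_not_dvd hrprime).2 hrq
    have hC1' : C = 1 := by
      have h3 := pow_gcd_eq_one.2 ⟨hCr, hC1⟩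
      rwa [hgcd, pow_one] at h3
    have h4 : A * B = C * (B * A) := by
      rw [hCdef]
      group
    rw [h4, hC1', one_mul]
  have hAm : (A : Matrix (Fin n) (Fin n) F) ^ p = 1 := by
    rw [← Matrix.SpecialLinearGroup.coe_pow, hAp]
    rfl
  have hBm : (B : Matrix (Fin n) (Fin n) F) ^ r = 1 := by
    rw [← Matrix.SpecialLinearGroup.coe_pow, hBr]
    rfl
  have hA1m : (A : Matrix (Fin n) (Fin n) F) ≠ 1 := fun h => hA1 (Subtype.ext h)
  have hB1m : (B : Matrix (Fin n) (Fin n) F) ≠ 1 := fun h => hB1 (Subtype.ext h)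
  have hcm : (A : Matrix (Fin n) (Fin n) F) * (B : Matrix (Fin n) (Fin n) F) =
      (B : Matrix (Fin n) (Fin n) F) * (A : Matrix (Fin n) (Fin n) F) := by
    rw [← Matrix.SpecialLinearGroup.coe_mul, ← Matrix.SpecialLinearGroup.coe_mul, hcomm]
  obtain ⟨j, hj1, hj2, hj3⟩ := exists_dvd_pow_sub_one p hn r hrprime hrp _ _ hcm hAm hA1m hBm hB1m
  exact ⟨j, hj1, hj2, hj3⟩

end psl

end Cfsg.Agent.Lib.Helper40
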