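import Mathlib
import Cfsg.Agent.Lib.Helper40.DualFactor
import Cfsg.Agent.Lib.Helper40.SUClasses

/-!
# Classes of elements of prime order in `GU_n(q)`

Classes of elements of prime order `r ≠ p` in `GU_n(q)` correspond to non-zero multiplicity
functions on the irreducible factors of the `r`-th cyclotomic polynomial over `F_{q²}` which are
invariant under duality.
-/

set_option autoImplicit false
set_option linter.unusedSectionVars false
set_option linter.style.haveILetI false

namespace Cfsg.Agent.Lib.Helper40.GUPrimeOrder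

open Polynomial UniqueFactorizationMonoid Cfsg.Agent.Lib.Helper40.PrimeOrderGL
  Cfsg.Agent.Lib.Helper40.DualPoly Cfsg.Agent.Lib.Helper40.UnitaryWall Cfsg.Agent.Lib.Helper45

section tuples

theorem sum_invol {T : Type*} [Fintype T] [DecidableEq T] (τ : T → T) (hτ2 : ∀ x, τ (τ x) = x)
    (P : T → Prop) [DecidablePred P] (hP : ∀ x, P (τ x) ↔ ¬ P x) (a : T → ℕ)
    (ha : ∀ x, a (τ x) = a x) : ∑ x, a x = 2 * ∑ x : {x // P x}, a x.1 := by
  have h1 : ∑ x, a x = ∑ x ∈ Finset.univ.filter P, a x +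
      ∑ x ∈ Finset.univ.filter (fun x => ¬ P x), a x :=
    (Finset.sum_filter_add_sum_filter_not _ _ _).symm
  have h2 : ∑ x ∈ Finset.univ.filter (fun x => ¬ P x), a x =
      ∑ x ∈ Finset.univ.filter P, a x := by
    apply Finset.sum_nbij' τ τ
    · intro x hx
      rw [Finset.mem_filter] at hx ⊢
      exact ⟨Finset.mem_univ _, (hP x).mpr hx.2⟩
    · intro x hx
      rw [Finset.mem_filter] at hx ⊢
      refine ⟨Finset.mem_univ _, ?_⟩
      rw [hP]
      exact not_not.mpr hx.2
    · intro x _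
      exact hτ2 x
    · intro x _
      exact hτ2 x
    · intro x _
      exact (ha x).symm
  rw [h1, h2, ← two_mul, Finset.sum_subtype (Finset.univ.filter P) (p := P) (fun x => by simp) a]

/-- Counting non-zero tuples of bounded sum invariant under a fixed-point-free involution. -/
theorem card_tuples_invol (T : Type*) [Fintype T] [DecidableEq T] (τ : T → T)
    (hτ2 : ∀ x, τ (τ x) = x) (hτ : ∀ x, τ x ≠ x) (m : ℕ) :
    Nat.card {a : T → ℕ // a ≠ 0 ∧ (∀ x, a (τ x) = a x) ∧ ∑ x, a x ≤ m} =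
      Nat.choose (m / 2 + Fintype.card T / 2) (Fintype.card T / 2) - 1 := by
  classical
  obtain ⟨P, hP⟩ : ∃ P : T → Prop, ∀ x, P (τ x) ↔ ¬ P x := by
    refine ⟨fun x => Fintype.equivFin T x < Fintype.equivFin T (τ x), ?_⟩
    intro x
    simp only [hτ2]
    have hne : Fintype.equivFin T (τ x) ≠ Fintype.equivFin T x :=
      fun h => hτ x ((Fintype.equivFin T).injective h)
    constructor
    · intro h h'
      exact absurd (lt_trans h h') (lt_irrefl _)
    · intro h
      exact lt_of_le_of_ne (not_lt.mp h) hne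
  have hcard : Fintype.card T = 2 * Fintype.card {x // P x} := by
    have := sum_invol τ hτ2 P hP (fun _ => 1) (fun _ => rfl)
    simpa using this
  have hsum := sum_invol τ hτ2 P hP
  let ext' : ({x // P x} → ℕ) → T → ℕ := fun ā x =>
    if h : P x then ā ⟨x, h⟩ else ā ⟨τ x, (hP x).mpr h⟩
  have hext_inv : ∀ ā x, ext' ā (τ x) = ext' ā x := by
    intro ā x
    by_cases h : P x
    · have h' : ¬ P (τ x) := by rw [hP]; exact not_not.mpr h
      simp only [ext', dif_pos h, dif_neg h']
      congr 1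
      exact Subtype.ext (hτ2 x)
    · have h' : P (τ x) := (hP x).mpr h
      simp only [ext', dif_pos h', dif_neg h]
  have hext_res : ∀ ā (x : {x // P x}), ext' ā x.1 = ā x := by
    intro ā x
    simp only [ext', dif_pos x.2]
  have hres_ext : ∀ a : T → ℕ, (∀ x, a (τ x) = a x) → ext' (fun x => a x.1) = a := by
    intro a ha
    funext x
    by_cases h : P x
    · simp only [ext', dif_pos h]
    · simp only [ext', dif_neg h]
      exact ha x
  have e1 : {a : T → ℕ // a ≠ 0 ∧ (∀ x, a (τ x) = a x) ∧ ∑ x, a x ≤ m} ≃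
      {ā : {x // P x} → ℕ // ā ≠ 0 ∧ ∑ x, ā x ≤ m / 2} :=
    { toFun := fun a => ⟨fun x => a.1 x.1, by
        refine ⟨?_, ?_⟩
        · intro h0
          apply a.2.1
          rw [← hres_ext a.1 a.2.2.1, h0]
          funext x
          by_cases h : P x
          · simp only [ext', dif_pos h]; rfl
          · simp only [ext', dif_neg h]; rfl
        · have h1 := hsum a.1 a.2.2.1
          have h2 := a.2.2.2
          rw [Nat.le_div_iff_mul_le two_pos]
          show (∑ x : {x // P x}, a.1 x.1) * 2 ≤ m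
          omega⟩
      invFun := fun ā => ⟨ext' ā.1, by
        refine ⟨?_, hext_inv ā.1, ?_⟩
        · intro h0
          apply ā.2.1
          funext x
          rw [← hext_res ā.1 x, h0]
          rfl
        · have h1 := hsum (ext' ā.1) (hext_inv ā.1)
          have h2 : ∑ x : {x // P x}, ext' ā.1 x.1 = ∑ x, ā.1 x :=
            Finset.sum_congr rfl (fun x _ => hext_res ā.1 x)
          have h3 := ā.2.2
          rw [Nat.le_div_iff_mul_le two_pos] at h3
          omega⟩
      left_inv := fun a => Subtype.ext (hres_ext a.1 a.2.2.1)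
      right_inv := fun ā => Subtype.ext (funext fun x => hext_res ā.1 x) }
  rw [Nat.card_congr e1, card_tuples, hcard, Nat.mul_div_cancel_left _ two_pos]

end tuples

section factors

variable {F : Type*} [Field F] [DecidableEq F]

theorem Factors.coeff_zero_ne {S : Finset F[X]} {r i : ℕ} (hS : Factors S r i) (hr0 : 0 < r)
    (π : F[X]) (hπ : π ∈ S) : π.coeff 0 ≠ 0 := by
  intro h0
  obtain ⟨c, hc⟩ := hS.dvd π hπ
  have h1 := congrArg (fun f : F[X] => f.coeff 0) hc
  simp only [mul_coeff_zero, h0, zero_mul, coeff_sub, coeff_X_pow, coeff_one_zero] at h1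
  rw [if_neg hr0.ne] at h1
  simp at h1

theorem chi_inj {S : Finset F[X]} {r i : ℕ} (hS : Factors S r i) (a a' : S → ℕ) (k k' : ℕ)
    (h : chi S a k = chi S a' k') : a = a' := by
  classical
  funext π
  rw [← count_ms hS a k π, ← nf_chi hS, h, nf_chi hS, count_ms hS]

/-- A semisimple matrix whose characteristic polynomial divides a power of `X ^ r - 1` has
`r`-th power one. -/
theorem pow_eq_one_of_charpoly_dvd {n : ℕ} (M : Matrix (Fin n) (Fin n) F)
    (hss : Module.End.IsSemisimple (Matrix.toLin' M)) (r m : ℕ)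
    (hdvd : M.charpoly ∣ (X ^ r - 1 : F[X]) ^ m) : M ^ r = 1 := by
  have hsq := hss.minpoly_squarefree
  have hmin : minpoly F (Matrix.toLin' M) ∣ (X ^ r - 1 : F[X]) ^ (m + 1) := by
    refine (LinearMap.minpoly_dvd_charpoly _).trans ?_
    rw [Matrix.charpoly_toLin']
    exact hdvd.trans (pow_dvd_pow _ (Nat.le_succ _))
  have hmin' : minpoly F (Matrix.toLin' M) ∣ (X ^ r - 1 : F[X]) :=
    (hsq.dvd_pow_iff_dvd (Nat.succ_ne_zero _)).1 hmin
  have h1 : aeval (Matrix.toLin' M) (X ^ r - 1 : F[X]) = 0 := by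
    obtain ⟨c, hc⟩ := hmin'
    rw [hc, map_mul, minpoly.aeval, zero_mul]
  rw [Diag.aeval_toLin'] at h1
  have h2 : aeval M (X ^ r - 1 : F[X]) = 0 := by
    apply Matrix.toLin'.injective
    rw [h1, map_zero]
  simp only [map_sub, map_pow, aeval_X, map_one] at h2
  exact sub_eq_zero.1 h2

/-- The irreducible factors of the `r`-th cyclotomic polynomial over a finite field. -/
theorem exists_factors [Fintype F] {p Q : ℕ} [Fact p.Prime] [CharP F p]
    (hF : Fintype.card F = Q) (r d t : ℕ) (hr : r.Prime) (hrp : r ≠ p)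
    (hd : d = orderOf (Q : ZMod r)) (ht : t * d = r - 1) :
    ∃ S : Finset F[X], Factors S r d ∧ S.card = t ∧ (r : F) ≠ 0 := by
  classical
  have hp : p.Prime := Fact.out
  have : Fact r.Prime := ⟨hr⟩
  obtain ⟨f, -, hf⟩ := FiniteField.card F p
  have hcop : p.Coprime r := (Nat.coprime_primes hp hr).2 (Ne.symm hrp)
  have hK : Fintype.card F = p ^ (f : ℕ) := hf
  have hrF : (r : F) ≠ 0 := by
    intro h
    rw [CharP.cast_eq_zero_iff F p r] at h
    exact hrp ((Nat.prime_dvd_prime_iff_eq hp hr).1 h).symm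
  have hord : orderOf (ZMod.unitOfCoprime _ (hcop.pow_left f)) = d := by
    rw [hd, ← orderOf_units, ZMod.coe_unitOfCoprime, ← hF, hK]
  have hi0 : 0 < d := by
    rw [← hord]
    exact orderOf_pos _
  obtain ⟨S, hSdef⟩ : ∃ S : Finset F[X], S = (normalizedFactors (cyclotomic r F)).toFinset :=
    ⟨_, rfl⟩
  have hScard : S.card = t := by
    rw [hSdef, normalizedFactors_cyclotomic_card hK hcop, hord, Nat.totient_prime hr, ← ht,
      Nat.mul_div_cancel _ hi0]
  have hQ : cyclotomic r F * (X - C 1) = X ^ r - 1 := by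
    rw [C_1]
    exact cyclotomic_prime_mul_X_sub_one F r
  refine ⟨S, ?_, hScard, hrF⟩
  exact
    { monic := fun π hπ => monic_of_mem_nf _ π (Multiset.mem_toFinset.1 (hSdef ▸ hπ))
      irred := fun π hπ => irreducible_of_normalized_factor π (Multiset.mem_toFinset.1 (hSdef ▸ hπ))
      dvd := fun π hπ =>
        (dvd_of_mem_normalizedFactors (Multiset.mem_toFinset.1 (hSdef ▸ hπ))).trans
          ⟨X - C 1, hQ.symm⟩
      deg := fun π hπ => by
        rw [natDegree_of_mem_normalizedFactors_cyclotomic hK hcop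
          (Multiset.mem_toFinset.1 (hSdef ▸ hπ)), hord]
      one_dvd := ⟨cyclotomic r F, by rw [← hQ, mul_comm]⟩
      notMem := by
        intro h
        have h1 := dvd_of_mem_normalizedFactors (Multiset.mem_toFinset.1 (hSdef ▸ h))
        rw [dvd_iff_isRoot, IsRoot, eval_one_cyclotomic_prime] at h1
        exact hrF h1
      cover := fun m hm hirr hdvd => by
        rw [← hQ] at hdvd
        rcases hirr.prime.dvd_or_dvd hdvd with h | h
        · right
          rw [hSdef, Multiset.mem_toFinset, mem_normalizedFactors_iff' (cyclotomic_ne_zero r F)]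
          exact ⟨hirr, hm.normalize_eq_self, h⟩
        · left
          exact eq_of_monic_of_associated hm (monic_X_sub_C 1)
            (hirr.associated_of_dvd (irreducible_X_sub_C 1) h) }

end factors

section GUgeneric

variable {K : Type*} [Field K] [Fintype K] [DecidableEq K] {q : ℕ} {S : Finset K[X]} {r b : ℕ}

theorem dual_chi (σ : K →+* K) (dg : S → S) (hdd : ∀ π, dg (dg π) = π)
    (hdg : ∀ π : S, (dg π : K[X]) = dual σ π.1) (a : S → ℕ) (k : ℕ) :
    dual σ (chi S a k) = chi S (fun π => a (dg π)) k := by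
  unfold chi
  rw [dual_mul, dual_pow, dual_X_sub_one, dual_prod]
  congr 1
  let e : S ≃ S := ⟨dg, dg, hdd, hdd⟩
  have h1 : ∏ π : S, dual σ (π.1 ^ a π) = ∏ π : S, (fun π : S => π.1 ^ a (dg π)) (e π) := by
    apply Finset.prod_congr rfl
    intro π _
    show dual σ (π.1 ^ a π) = (dg π).1 ^ a (dg (dg π))
    rw [dual_pow, hdg, hdd]
  rw [h1]
  exact Equiv.prod_comp e (fun π : S => π.1 ^ a (dg π))

/-- Classes of elements of order `r` in `GU_n(q)` correspond to non-zero duality-invariant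
multiplicity functions. -/
theorem card_classes_GU_generic (hK : Fintype.card K = q ^ 2) (p : ℕ) [Fact p.Prime] [CharP K p]
    (hS : Factors S r b) (hr : r.Prime) (hrK : (r : K) ≠ 0) (n : ℕ)
    (dg : S → S) (hdg : ∀ π : S, (dg π : K[X]) = dual (sigmaQ hK) π.1) :
    Nat.card {C : ConjClasses ↥(Cfsg.GU n K q) //
      ∃ g : ↥(Cfsg.GU n K q), ConjClasses.mk g = C ∧ orderOf g = r} =
      Nat.card {a : S → ℕ // a ≠ 0 ∧ (∀ π, a (dg π) = a π) ∧ b * ∑ π, a π ≤ n} := by
  classical
  have : Fact r.Prime := ⟨hr⟩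
  have hσ2 := conj_conj hK
  have hdd : ∀ π, dg (dg π) = π := by
    intro π
    apply Subtype.ext
    rw [hdg, hdg, dual_dual (sigmaQ hK) hσ2 π.1 (hS.monic π π.2)
      (Factors.coeff_zero_ne hS hr.pos π π.2)]
  have hex : ∀ a : {a : S → ℕ // a ≠ 0 ∧ (∀ π, a (dg π) = a π) ∧ b * ∑ π, a π ≤ n},
      ∃ g : ↥(Cfsg.GU n K q), g ^ r = 1 ∧
        ((g : GL (Fin n) K) : Matrix (Fin n) (Fin n) K).charpoly =
          chi S a.1 (n - b * ∑ π, a.1 π) := by
    intro a
    have hmon := monic_chi hS a.1 (n - b * ∑ π, a.1 π)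
    have hdeg : (chi S a.1 (n - b * ∑ π, a.1 π)).natDegree = n := by
      rw [natDegree_chi hS]
      have := a.2.2.2
      omega
    have hdvd := chi_dvd hS a.1 (n - b * ∑ π, a.1 π)
    have h0 : (chi S a.1 (n - b * ∑ π, a.1 π)).coeff 0 ≠ 0 := by
      rw [coeff_zero_eq_eval_zero]
      intro h
      have h1 := eval_dvd (x := (0 : K)) hdvd
      rw [h, zero_dvd_iff] at h1
      simp [hr.pos.ne'] at h1
    have hdual : dual (sigmaQ hK) (chi S a.1 (n - b * ∑ π, a.1 π)) =
        chi S a.1 (n - b * ∑ π, a.1 π) := by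
      rw [dual_chi (sigmaQ hK) dg hdd hdg]
      congr 1
      funext π
      exact a.2.2.1 π
    obtain ⟨B, hBc, N, hN, hco, hBN⟩ := exists_gu_charpoly hK p n _ hmon hdeg h0 hdual
    refine ⟨B, ?_, hBc⟩
    have hMN : ((B : GL (Fin n) K) : Matrix (Fin n) (Fin n) K) ^ N = 1 := by
      have h2 := congrArg
        (fun x : ↥(Cfsg.GU n K q) => ((x : GL (Fin n) K) : Matrix (Fin n) (Fin n) K)) hBN
      simpa using h2
    have hss := isSemisimple_of_pow_eq_one _ N (natCast_ne_zero_of_coprime p N hco) hMN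
    have hMr := pow_eq_one_of_charpoly_dvd _ hss r _ (hBc ▸ hdvd)
    apply Subtype.ext
    apply Units.ext
    rw [SubmonoidClass.coe_pow, Units.val_pow_eq_pow_val, hMr]
    rfl
  choose rep hrep1 hrep2 using hex
  let f : {a : S → ℕ // a ≠ 0 ∧ (∀ π, a (dg π) = a π) ∧ b * ∑ π, a π ≤ n} →
      ConjClasses ↥(Cfsg.GU n K q) := fun a => ConjClasses.mk (rep a)
  have hmat : ∀ g : ↥(Cfsg.GU n K q), g ^ r = 1 →
      ((g : GL (Fin n) K) : Matrix (Fin n) (Fin n) K) ^ r = 1 := by
    intro g hg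
    have h2 := congrArg
      (fun x : ↥(Cfsg.GU n K q) => ((x : GL (Fin n) K) : Matrix (Fin n) (Fin n) K)) hg
    simpa using h2
  have hss : ∀ g : ↥(Cfsg.GU n K q), g ^ r = 1 →
      Module.End.IsSemisimple (Matrix.toLin' ((g : GL (Fin n) K) : Matrix (Fin n) (Fin n) K)) :=
    fun g hg => isSemisimple_of_pow_eq_one _ r hrK (hmat g hg)
  have hfinj : Function.Injective f := by
    intro a a' hab
    have hc : IsConj ((rep a : ↥(Cfsg.GU n K q)) : GL (Fin n) K)
        ((rep a' : ↥(Cfsg.GU n K q)) : GL (Fin n) K) :=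
      (Cfsg.GU n K q).subtype.map_isConj (ConjClasses.mk_eq_mk_iff_isConj.1 hab)
    have h1 := charpoly_eq_of_isConj hc
    rw [hrep2, hrep2] at h1
    exact Subtype.ext (chi_inj hS _ _ _ _ h1)
  have hrange : ∀ C, C ∈ Set.range f ↔
      ∃ g : ↥(Cfsg.GU n K q), ConjClasses.mk g = C ∧ orderOf g = r := by
    intro C
    constructor
    · rintro ⟨a, rfl⟩
      refine ⟨rep a, rfl, ?_⟩
      apply orderOf_eq_prime (hrep1 a)
      intro h1
      apply a.2.1
      funext π
      by_contra hπ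
      have hmem : π.1 ∈ normalizedFactors
          ((rep a : GL (Fin n) K) : Matrix (Fin n) (Fin n) K).charpoly := by
        rw [hrep2, nf_chi hS, ← Multiset.count_pos, count_ms hS]
        exact Nat.pos_of_ne_zero hπ
      have hd := dvd_of_mem_nf ((rep a : GL (Fin n) K) : Matrix (Fin n) (Fin n) K)
        (X - C 1) (by rw [h1]; simp) π.1 hmem
      have h2 := eq_of_monic_of_associated (hS.monic π π.2) (monic_X_sub_C 1)
        ((hS.irred π π.2).associated_of_dvd (irreducible_X_sub_C 1) hd)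
      exact hS.notMem (by rw [← h2]; exact π.2)
    · rintro ⟨g, rfl, hg⟩
      have hgr : g ^ r = 1 := by
        rw [← hg]
        exact pow_orderOf_eq_one g
      have hg1 : g ≠ 1 := by
        rintro rfl
        rw [orderOf_one] at hg
        exact hr.one_lt.ne hg
      obtain ⟨a, ha, hχ⟩ := charpoly_eq_chi hS
        ((g : GL (Fin n) K) : Matrix (Fin n) (Fin n) K) (hmat g hgr)
      have ha0 : a ≠ 0 := by
        rintro rfl
        apply hg1
        apply Subtype.ext
        apply Units.ext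
        apply eq_one_of_charpoly _ (hss g hgr)
        rw [hχ]
        simp [chi]
      have hinv : ∀ π, a (dg π) = a π := by
        have hu := (mem_GU_iff_cstar hK (g : GL (Fin n) K)).mp g.2
        have h1 := dual_charpoly_of_unitary (sigmaQ hK) hσ2 _ hu
        rw [hχ, dual_chi (sigmaQ hK) dg hdd hdg] at h1
        have h2 := chi_inj hS _ _ _ _ h1
        intro π
        exact congrFun h2 π
      refine ⟨⟨a, ha0, hinv, ha⟩, ?_⟩
      show ConjClasses.mk (rep ⟨a, ha0, hinv, ha⟩) = ConjClasses.mk g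
      rw [ConjClasses.mk_eq_mk_iff_isConj]
      apply gu_conj_of_gl_conj hK
      exact isConj_GL_of_semisimple _ _ (hss _ (hrep1 _)) (hss g hgr) (by rw [hrep2, hχ])
  rw [← Nat.card_range_of_injective hfinj]
  exact Nat.card_congr (Equiv.subtypeEquivRight (fun C => (hrange C).symm))

end GUgeneric

section final

variable {K : Type*} [Field K] [Fintype K] {q : ℕ}

theorem dual_X_pow_sub_one (σ : K →+* K) (r : ℕ) (hr : 0 < r) :
    dual σ (X ^ r - 1 : K[X]) = X ^ r - 1 := by
  have hdeg : (X ^ r - 1 : K[X]).natDegree = r := by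
    rw [← C_1]; exact natDegree_X_pow_sub_C
  have hc : ∀ j, (X ^ r - 1 : K[X]).coeff j =
      (if j = r then 1 else 0) - (if j = 0 then 1 else 0) := by
    intro j
    rw [coeff_sub, coeff_X_pow, coeff_one]
  rw [dual_eq_self_iff]
  intro j hj
  rw [hdeg] at hj ⊢
  rw [hc, hc, hc]
  have e0 : (if (0 : ℕ) = r then (1 : K) else 0) = 0 := if_neg hr.ne
  rw [e0, if_pos rfl, zero_sub, map_neg, map_one, inv_neg, inv_one]
  rcases Nat.eq_zero_or_pos j with rfl | hjpos
  · rw [e0, if_pos rfl, Nat.sub_zero, if_pos rfl, if_neg hr.ne']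
    simp
  · rcases Nat.lt_or_ge j r with hlt | hge
    · rw [if_neg hlt.ne, if_neg hjpos.ne', if_neg (by omega), if_neg (by omega)]
      simp
    · have hjr : j = r := by omega
      rw [hjr, if_pos rfl, if_neg hr.ne', Nat.sub_self, e0, if_pos rfl]
      simp

/-- The number of classes of elements of odd prime order `r ≠ p` in `GU_n(q)`. -/
theorem card_classes_GU (hK : Fintype.card K = q ^ 2) {p n r i b s : ℕ} [Fact p.Prime]
    [CharP K p] (hr : r.Prime) (hr2 : r ≠ 2) (hrp : r ≠ p) (hi : i = orderOf (q : ZMod r))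
    (hb : b = if Odd i then i else i / 2) (hs : s * b = r - 1) :
    Nat.card {C : ConjClasses ↥(Cfsg.GU n K q) //
      ∃ g : ↥(Cfsg.GU n K q), ConjClasses.mk g = C ∧ orderOf g = r} =
      if i % 4 = 2 then Nat.choose (2 * n / i + s) s - 1
      else Nat.choose (n / (2 * b) + s / 2) (s / 2) - 1 := by
  classical
  have hp : p.Prime := Fact.out
  obtain ⟨f, -, hf⟩ := FiniteField.card K p
  obtain ⟨m, hqm⟩ : ∃ m, q = p ^ m := by
    have h1 : q ∣ p ^ (f : ℕ) := by
      rw [← hf, hK]
      exact dvd_pow_self q two_ne_zero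
    obtain ⟨m, -, hm⟩ := (Nat.dvd_prime_pow hp).1 h1
    exact ⟨m, hm⟩
  have hrq : ¬ r ∣ q := by
    rw [hqm]
    intro h
    exact hrp ((Nat.prime_dvd_prime_iff_eq hr hp).1 (hr.dvd_of_dvd_pow h))
  have hb' : b = orderOf ((q ^ 2 : ℕ) : ZMod r) := by
    push_cast
    rw [orderOf_pow' _ two_ne_zero, ← hi, hb]
    split_ifs with hodd
    · rw [Nat.Coprime.gcd_eq_one hodd.coprime_two_right, Nat.div_one]
    · have heven : Even i := Nat.not_odd_iff_even.mp hodd
      rw [Nat.gcd_eq_right heven.two_dvd]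
  obtain ⟨S, hS, hScard, hrK⟩ := exists_factors hK r b s hr hrp hb' hs
  have hσ2 := conj_conj hK
  have hmemS : ∀ π : S, dual (sigmaQ hK) π.1 ∈ S := by
    intro π
    have h0 := Factors.coeff_zero_ne hS hr.pos π π.2
    have hmon := monic_dual (sigmaQ hK) π.1 h0
    have hirr := irreducible_dual (sigmaQ hK) hσ2 π.1 (hS.monic π π.2) h0 (hS.irred π π.2)
    have hdvd : dual (sigmaQ hK) π.1 ∣ X ^ r - 1 := by
      obtain ⟨c, hc⟩ := hS.dvd π π.2
      have h1 := congrArg (dual (sigmaQ hK)) hc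
      rw [dual_X_pow_sub_one (sigmaQ hK) r hr.pos, dual_mul] at h1
      exact ⟨_, h1⟩
    rcases hS.cover _ hmon hirr hdvd with h | h
    · exfalso
      have h2 := dual_dual (sigmaQ hK) hσ2 π.1 (hS.monic π π.2) h0
      rw [h, dual_X_sub_one] at h2
      exact hS.notMem (h2 ▸ π.2)
    · exact h
  obtain ⟨dg, hdg⟩ : ∃ dg : S → S, ∀ π : S, (dg π : K[X]) = dual (sigmaQ hK) π.1 :=
    ⟨fun π => ⟨dual (sigmaQ hK) π.1, hmemS π⟩, fun π => rfl⟩
  have hdd : ∀ π, dg (dg π) = π := by
    intro π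
    apply Subtype.ext
    rw [hdg, hdg, dual_dual (sigmaQ hK) hσ2 π.1 (hS.monic π π.2)
      (Factors.coeff_zero_ne hS hr.pos π π.2)]
  rw [card_classes_GU_generic hK p hS hr hrK n dg hdg]
  have hcrit : ∀ π : S, dual (sigmaQ hK) π.1 = π.1 ↔ i % 4 = 2 := by
    intro π
    rw [dual_eq_self_iff_exists (sigmaQ hK) p hσ2 q m hqm (fun x => sigmaQ_apply hK x) r hr π.1
      (hS.monic π π.2) (hS.irred π π.2) (hS.dvd π π.2) (fun h => hS.notMem (h ▸ π.2)), hK, hi]
    exact exists_dvd_add_sq_pow_iff r hr hr2 q hrq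
  have hb0 : 0 < b := by
    rcases Nat.eq_zero_or_pos b with h | h
    · rw [h, mul_zero] at hs
      have := hr.two_le
      omega
    · exact h
  split_ifs with h4
  · have hdgid : ∀ π, dg π = π := fun π => Subtype.ext (by rw [hdg]; exact (hcrit π).mpr h4)
    have e : {a : S → ℕ // a ≠ 0 ∧ (∀ π, a (dg π) = a π) ∧ b * ∑ π, a π ≤ n} ≃
        {a : S → ℕ // a ≠ 0 ∧ ∑ π, a π ≤ n / b} :=
      Equiv.subtypeEquivRight (fun a => by
        rw [Nat.le_div_iff_mul_le hb0, mul_comm]
        constructor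
        · rintro ⟨h1, -, h3⟩
          exact ⟨h1, h3⟩
        · rintro ⟨h1, h3⟩
          exact ⟨h1, fun π => by rw [hdgid], h3⟩)
    rw [Nat.card_congr e, card_tuples, Fintype.card_coe, hScard]
    have hnb : n / b = 2 * n / i := by
      have hi_even : ¬ Odd i := by
        intro ho
        obtain ⟨t, ht⟩ := ho
        omega
      rw [hb, if_neg hi_even]
      obtain ⟨t, ht⟩ : ∃ t, i = 2 * t := ⟨i / 2, by omega⟩
      rw [ht, Nat.mul_div_cancel_left _ two_pos, Nat.mul_div_mul_left _ _ two_pos]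
    rw [hnb]
  · have hdgne : ∀ π, dg π ≠ π := fun π h =>
      h4 ((hcrit π).mp (by rw [← hdg, h]))
    have e : {a : S → ℕ // a ≠ 0 ∧ (∀ π, a (dg π) = a π) ∧ b * ∑ π, a π ≤ n} ≃
        {a : S → ℕ // a ≠ 0 ∧ (∀ π, a (dg π) = a π) ∧ ∑ π, a π ≤ n / b} :=
      Equiv.subtypeEquivRight (fun a => by rw [Nat.le_div_iff_mul_le hb0, mul_comm])
    rw [Nat.card_congr e, card_tuples_invol S dg hdd hdgne, Fintype.card_coe, hScard,
      Nat.div_div_eq_div_mul, mul_comm b 2]

end final

end Cfsg.Agent.Lib.Helper40.GUPrimeOrder
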