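import Mathlib
import Cfsg.Agent.Lib.Helper40.CommNilp
import Cfsg.Agent.Lib.Helper40.GUPrimeOrder
import Cfsg.Agent.Lib.Helper40.SURegUnip
import Cfsg.Agent.Lib.Helper40.GUUnip
import Cfsg.Agent.Lib.Helper45.HermCenter

/-!
# Elements of `PSU_m(q)` commuting with an element of order `p`

If a semisimple endomorphism commutes with a non-zero nilpotent one, its characteristic polynomial
is divisible by the square of an irreducible polynomial.  For unitary matrices of prime order this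
bounds the "degree" of the prime, and yields: the primes dividing the order of an element of
`PSU_m(q)` commuting with an element of order `p` divide `|SU_{m-2}(q)|`.
-/

set_option autoImplicit false
set_option linter.unusedSectionVars false
set_option linter.style.haveILetI false

namespace Cfsg.Agent.Lib.Helper40.PSUCommute

open Polynomial Module Cfsg.Agent.Lib.Helper40

universe u v

section core

variable {K : Type u} [Field K] {V : Type v} [AddCommGroup V] [Module K V]

/-- If `h(f)` kills a vector not killed by `g`, with `h` squarefree and `f`, `g` commuting, then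
some irreducible factor `π` of `h` has `π(f)` killing a vector not killed by `g`. -/
theorem exists_irreducible_kills_not_ker (f g : Module.End K V) (h : K[X]) :
    Squarefree h → ∀ w : V, aeval f h w = 0 → g w ≠ 0 →
      ∃ π : K[X], Irreducible π ∧ π ∣ h ∧ ∃ y : V, aeval f π y = 0 ∧ g y ≠ 0 := by
  induction h using WfDvdMonoid.induction_on_irreducible with
  | zero => intro hsq; exact absurd hsq not_squarefree_zero
  | unit u hu =>
    intro _ w hw hgw
    exfalso
    obtain ⟨c, hc, rfl⟩ := Polynomial.isUnit_iff.1 hu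
    rw [aeval_C, Module.algebraMap_end_apply] at hw
    rcases smul_eq_zero.1 hw with h1 | h1
    · exact hc.ne_zero h1
    · exact hgw (by rw [h1, map_zero])
  | mul a i ha hi ih =>
    intro hsq w hw hgw
    have hcop : IsCoprime i a := by
      rw [hi.coprime_iff_not_dvd]
      rintro ⟨c, rfl⟩
      exact hi.not_isUnit (hsq i ⟨c, by ring⟩)
    obtain ⟨α, β, hαβ⟩ := hcop
    obtain ⟨w₁, hw₁⟩ : ∃ w₁ : V, w₁ = aeval f (β * a) w := ⟨_, rfl⟩
    obtain ⟨w₂, hw₂⟩ : ∃ w₂ : V, w₂ = aeval f (α * i) w := ⟨_, rfl⟩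
    have hw12 : w₂ + w₁ = w := by
      rw [hw₁, hw₂, ← LinearMap.add_apply, ← map_add, hαβ, map_one]
      rfl
    have h1 : aeval f i w₁ = 0 := by
      rw [hw₁, ← Module.End.mul_apply, ← map_mul]
      have e : i * (β * a) = β * (i * a) := by ring
      rw [e, map_mul, Module.End.mul_apply, hw, map_zero]
    have h2 : aeval f a w₂ = 0 := by
      rw [hw₂, ← Module.End.mul_apply, ← map_mul]
      have e : a * (α * i) = α * (i * a) := by ring
      rw [e, map_mul, Module.End.mul_apply, hw, map_zero]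
    by_cases hg1 : g w₁ = 0
    · have hg2 : g w₂ ≠ 0 := by
        intro h
        apply hgw
        rw [← hw12, map_add, hg1, h, add_zero]
      obtain ⟨π, hπ, hdvd, y, hy, hgy⟩ := ih hsq.of_mul_right w₂ h2 hg2
      exact ⟨π, hπ, dvd_mul_of_dvd_right hdvd i, y, hy, hgy⟩
    · exact ⟨i, hi, dvd_mul_right i a, w₁, h1, hg1⟩

theorem aeval_restrict_apply (f : Module.End K V) (p : Submodule K V)
    (hp : p ∈ f.invtSubmodule) (h : K[X]) (w : p) :
    ((aeval (f.restrict (p := p) (q := p) hp) h w : p) : V) = aeval f h (w : V) := by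
  induction h using Polynomial.induction_on' with
  | add a b ha hb =>
    rw [map_add, map_add, LinearMap.add_apply, LinearMap.add_apply, Submodule.coe_add, ha, hb]
  | monomial n a =>
    rw [aeval_monomial, aeval_monomial, Module.End.mul_apply, Module.End.mul_apply,
      Module.algebraMap_end_apply, Module.algebraMap_end_apply, Submodule.coe_smul]
    congr 1
    induction n generalizing w with
    | zero => simp
    | succ n ih =>
      rw [pow_succ, pow_succ, Module.End.mul_apply, Module.End.mul_apply, ih]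
      rfl

variable [FiniteDimensional K V]

/-- If `π(f)` kills a vector not killed by the nilpotent `g` commuting with `f`, the kernel of
`π(f)` has dimension at least `2 deg π`. -/
theorem two_mul_natDegree_le_finrank_ker (f g : Module.End K V) (hfg : Commute f g)
    (hg : IsNilpotent g) (π : K[X]) (hπ : Irreducible π) (y : V) (hy : aeval f π y = 0)
    (hgy : g y ≠ 0) : 2 * π.natDegree ≤ finrank K (LinearMap.ker (aeval f π)) := by
  classical
  obtain ⟨n, hn⟩ := hg
  have hex : ∃ j, (g ^ j) y = 0 := ⟨n, by rw [hn]; rfl⟩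
  obtain ⟨j₀, hj₀spec, hj₀min⟩ : ∃ j₀, (g ^ j₀) y = 0 ∧ ∀ j < j₀, (g ^ j) y ≠ 0 :=
    ⟨Nat.find hex, Nat.find_spec hex, fun j hj => Nat.find_min hex hj⟩
  have hy0 : y ≠ 0 := by rintro rfl; exact hgy (map_zero g)
  have hj2 : 2 ≤ j₀ := by
    by_contra hlt
    have h01 : j₀ = 0 ∨ j₀ = 1 := by omega
    rcases h01 with h | h
    · rw [h, pow_zero] at hj₀spec; exact hy0 hj₀spec
    · rw [h, pow_one] at hj₀spec; exact hgy hj₀spec
  obtain ⟨j, rfl⟩ : ∃ j, j₀ = j + 2 := ⟨j₀ - 2, by omega⟩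
  obtain ⟨y', hy'⟩ : ∃ y' : V, y' = (g ^ j) y := ⟨_, rfl⟩
  obtain ⟨v, hv⟩ : ∃ v : V, v = g y' := ⟨_, rfl⟩
  have hv_eq : v = (g ^ (j + 1)) y := by rw [hv, hy', pow_succ', Module.End.mul_apply]
  have hv0 : v ≠ 0 := by rw [hv_eq]; exact hj₀min (j + 1) (by omega)
  have hgv : g v = 0 := by
    rw [hv_eq, ← Module.End.mul_apply, ← pow_succ']; exact hj₀spec
  have hcomm : ∀ (h : K[X]) (x : V), g (aeval f h x) = aeval f h (g x) :=
    apply_aeval_comm f g hfg
  have hcommj : ∀ (h : K[X]) (x : V), (g ^ j) (aeval f h x) = aeval f h ((g ^ j) x) :=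
    apply_aeval_comm f (g ^ j) (hfg.pow_right j)
  have hy'π : aeval f π y' = 0 := by rw [hy', ← hcommj, hy, map_zero]
  have hy'0 : y' ≠ 0 := by
    intro h
    apply hv0
    rw [hv, h, map_zero]
  have hvπ : aeval f π v = 0 := by rw [hv, ← hcomm, hy'π, map_zero]
  have hZ : finrank K (cyc f v) = π.natDegree := by
    rw [← (cycEquiv f v π hπ hv0 hvπ).finrank_eq, (AdjoinRoot.powerBasis hπ.ne_zero).finrank,
      AdjoinRoot.powerBasis_dim]
  have hY : finrank K (cyc f y') = π.natDegree := by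
    rw [← (cycEquiv f y' π hπ hy'0 hy'π).finrank_eq, (AdjoinRoot.powerBasis hπ.ne_zero).finrank,
      AdjoinRoot.powerBasis_dim]
  have hle : ∀ z : V, aeval f π z = 0 → cyc f z ≤ LinearMap.ker (aeval f π) := by
    rintro z hz x ⟨k, rfl⟩
    rw [LinearMap.mem_ker, evalAt_apply, ← Module.End.mul_apply, ← map_mul, mul_comm, map_mul,
      Module.End.mul_apply, hz, map_zero]
  have hdisj : cyc f v ⊓ cyc f y' = ⊥ := by
    rw [eq_bot_iff]
    rintro x ⟨⟨k₁, hk₁⟩, ⟨k₂, hk₂⟩⟩
    rw [evalAt_apply] at hk₁ hk₂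
    have hgx : g x = 0 := by rw [← hk₁, hcomm, hgv, map_zero]
    have h3 : aeval f k₂ v = 0 := by rw [hv, ← hcomm, hk₂, hgx]
    obtain ⟨c, rfl⟩ := (aeval_eq_zero_iff_dvd f v π hπ hv0 hvπ k₂).mp h3
    rw [Submodule.mem_bot, ← hk₂, mul_comm, map_mul, Module.End.mul_apply, hy'π, map_zero]
  have h5 := Submodule.finrank_sup_add_finrank_inf_eq (cyc f v) (cyc f y')
  rw [hdisj, finrank_bot, add_zero, hZ, hY] at h5
  have h6 := Submodule.finrank_mono (sup_le (hle v hvπ) (hle y' hy'π))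
  omega

/-- An endomorphism annihilated by an irreducible polynomial has characteristic polynomial a power
of it. -/
theorem end_charpoly_eq_pow (f : Module.End K V) (π : K[X]) (hm : π.Monic) (hπ : Irreducible π)
    (h : aeval f π = 0) : ∃ k, f.charpoly = π ^ k := by
  classical
  have h0 : f.charpoly ≠ 0 := (LinearMap.charpoly_monic f).ne_zero
  have key : ∀ {m : K[X]}, m ∈ UniqueFactorizationMonoid.normalizedFactors f.charpoly → m = π := by
    intro m hmem
    have hirr := UniqueFactorizationMonoid.irreducible_of_normalized_factor m hmem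
    have hdvd := UniqueFactorizationMonoid.dvd_of_mem_normalizedFactors hmem
    have hmon : m.Monic := by
      rw [← UniqueFactorizationMonoid.normalize_normalized_factor m hmem]
      exact monic_normalize hirr.ne_zero
    obtain ⟨v, hv, hv0⟩ := exists_ne_zero_aeval_eq_zero f m hirr hdvd
    have hdvd2 : m ∣ π := (aeval_eq_zero_iff_dvd f v m hirr hv hv0 π).mp (by rw [h]; rfl)
    exact eq_of_monic_of_associated hmon hm (hirr.associated_of_dvd hπ hdvd2)
  obtain ⟨i, hi⟩ :=
    UniqueFactorizationMonoid.exists_associated_prime_pow_of_unique_normalized_factor key h0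
  exact ⟨i, (eq_of_monic_of_associated (hm.pow i) (LinearMap.charpoly_monic f) hi).symm⟩

/-- For a semisimple endomorphism, a large kernel of `π(f)` gives a square factor of the
characteristic polynomial. -/
theorem sq_dvd_charpoly (f : Module.End K V) (hss : f.IsSemisimple) (π : K[X]) (hm : π.Monic)
    (hπ : Irreducible π) (h2 : 2 * π.natDegree ≤ finrank K (LinearMap.ker (aeval f π))) :
    π ^ 2 ∣ f.charpoly := by
  obtain ⟨W, hW⟩ : ∃ W : Submodule K V, W = LinearMap.ker (aeval f π) := ⟨_, rfl⟩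
  rw [← hW] at h2
  have hWinv : W ∈ f.invtSubmodule := by
    rw [Module.End.mem_invtSubmodule]
    intro x hx
    rw [hW, LinearMap.mem_ker] at hx
    show f x ∈ W
    rw [hW, LinearMap.mem_ker]
    have e : aeval f π (f x) = f (aeval f π x) := by
      have h1 : aeval f π * f = f * aeval f π := by
        nth_rewrite 2 [← aeval_X (R := K) f]
        nth_rewrite 3 [← aeval_X (R := K) f]
        rw [← map_mul, ← map_mul, mul_comm]
      exact congrArg (fun φ : Module.End K V => φ x) h1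
    rw [e, hx, map_zero]
  obtain ⟨W', hW'inv, hc⟩ := (Module.End.isSemisimple_iff.mp hss) W hWinv
  have h1 := charpoly_eq_mul_of_isCompl f W W' hWinv hW'inv hc
  have h3 : aeval (f.restrict (p := W) (q := W) hWinv) π = 0 := by
    apply LinearMap.ext
    intro w
    apply Subtype.ext
    rw [aeval_restrict_apply]
    have hsub : W ≤ LinearMap.ker (aeval f π) := hW.le
    have hw := hsub w.2
    rw [LinearMap.mem_ker] at hw
    rw [hw]
    rfl
  obtain ⟨j, hj⟩ := end_charpoly_eq_pow _ π hm hπ h3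
  have hdeg := LinearMap.charpoly_natDegree (f.restrict (p := W) (q := W) hWinv)
  rw [hj, natDegree_pow] at hdeg
  have hd : 0 < π.natDegree := hπ.natDegree_pos
  have hj2 : 2 ≤ j := by
    by_contra hlt
    have h4 : j ≤ 1 := by omega
    have h5 := Nat.mul_le_mul_right π.natDegree h4
    omega
  rw [h1, hj]
  exact Dvd.dvd.mul_right (pow_dvd_pow π hj2) _

/-- A semisimple endomorphism commuting with a non-zero nilpotent one has a square irreducible
factor in its characteristic polynomial. -/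
theorem exists_sq_dvd_charpoly (f g : Module.End K V) (hfg : Commute f g) (hss : f.IsSemisimple)
    (hg : IsNilpotent g) (hg0 : g ≠ 0) (h : K[X]) (hsq : Squarefree h) (hf : aeval f h = 0) :
    ∃ π : K[X], π.Monic ∧ Irreducible π ∧ π ∣ h ∧ π ^ 2 ∣ f.charpoly := by
  classical
  obtain ⟨w, hw⟩ : ∃ w, g w ≠ 0 := by
    by_contra hcon
    push Not at hcon
    exact hg0 (LinearMap.ext hcon)
  obtain ⟨π, hπ, hdvd, y, hy, hgy⟩ :=
    exists_irreducible_kills_not_ker f g h hsq w (by rw [hf]; rfl) hw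
  have hassoc : Associated (normalize π) π := normalize_associated π
  have hm : (normalize π).Monic := monic_normalize hπ.ne_zero
  have hirr : Irreducible (normalize π) := hassoc.symm.irreducible hπ
  obtain ⟨c, hc⟩ := hassoc.symm.dvd
  have hy' : aeval f (normalize π) y = 0 := by
    rw [hc, mul_comm, map_mul, Module.End.mul_apply, hy, map_zero]
  have h2 := two_mul_natDegree_le_finrank_ker f g hfg hg (normalize π) hirr y hy' hgy
  exact ⟨normalize π, hm, hirr, hassoc.dvd.trans hdvd, sq_dvd_charpoly f hss _ hm hirr h2⟩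

end core

section matrix

variable {F : Type*} [Field F] {n : ℕ}

/-- A matrix of order dividing `r` (invertible in `F`) commuting with a non-zero nilpotent matrix
has a square irreducible factor of `X ^ r - 1` in its characteristic polynomial. -/
theorem exists_sq_dvd_charpoly_matrix (M N : Matrix (Fin n) (Fin n) F) (hMN : M * N = N * M)
    (r : ℕ) (hr : (r : F) ≠ 0) (hM : M ^ r = 1) (hN : IsNilpotent N) (hN0 : N ≠ 0) :
    ∃ π : F[X], π.Monic ∧ Irreducible π ∧ π ∣ X ^ r - 1 ∧ π ^ 2 ∣ M.charpoly := by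
  have hss := isSemisimple_of_pow_eq_one M r hr hM
  have hsq : Squarefree (X ^ r - C (1 : F)) :=
    (separable_X_pow_sub_C (1 : F) hr one_ne_zero).squarefree
  have hfg : Commute (Matrix.toLin' M) (Matrix.toLin' N) := by
    show Matrix.toLin' M * Matrix.toLin' N = Matrix.toLin' N * Matrix.toLin' M
    rw [Module.End.mul_eq_comp, Module.End.mul_eq_comp, ← Matrix.toLin'_mul, ← Matrix.toLin'_mul,
      hMN]
  have hg : IsNilpotent (Matrix.toLin' N) := by
    obtain ⟨k, hk⟩ := hN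
    refine ⟨k, ?_⟩
    change Matrix.toLinAlgEquiv' N ^ k = 0
    rw [← map_pow, hk, map_zero]
  have hg0 : Matrix.toLin' N ≠ 0 := by
    intro h
    apply hN0
    apply Matrix.toLin'.injective
    rw [h, map_zero]
  have hf : aeval (Matrix.toLin' M) (X ^ r - C (1 : F)) = 0 := by
    have h1 : (Matrix.toLin' M) ^ r = 1 := by
      change Matrix.toLinAlgEquiv' M ^ r = 1
      rw [← map_pow, hM, map_one]
    simp [h1]
  obtain ⟨π, hm, hirr, hdvd, hsqd⟩ := exists_sq_dvd_charpoly _ _ hfg hss hg hg0 _ hsq hf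
  rw [Matrix.charpoly_toLin'] at hsqd
  rw [C_1] at hdvd
  exact ⟨π, hm, hirr, hdvd, hsqd⟩

end matrix

section tuple

open Cfsg.Agent.Lib.Helper40.PrimeOrderGL UniqueFactorizationMonoid

variable {K : Type*} [Field K] [DecidableEq K] {S : Finset K[X]} {r b : ℕ}

theorem count_one_ms [DecidableEq K[X]] (hS : Factors S r b) (a : S → ℕ) (k : ℕ) :
    Multiset.count (X - C 1 : K[X]) (ms S a k) = k := by
  unfold ms
  rw [Multiset.count_add, Multiset.count_replicate_self, Multiset.count_sum',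
    Finset.sum_eq_zero, add_zero]
  intro π _
  rw [Multiset.count_replicate, if_neg]
  intro h
  exact hS.notMem (by rw [← h]; exact π.2)

/-- From a square factor of `chi S a k` one gets a small non-zero invariant tuple. -/
theorem exists_small_tuple (hS : Factors S r b) (a : S → ℕ) (k m : ℕ) (hm4 : 4 ≤ m)
    (ha0 : a ≠ 0) (hkm : k + b * ∑ π, a π = m)
    (dg : S → S) (hdd : ∀ π, dg (dg π) = π) (hinv : ∀ π, a (dg π) = a π)
    (π : K[X]) (hm : π.Monic) (hπ : Irreducible π) (hdvd : π ∣ X ^ r - 1)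
    (hsq : π ^ 2 ∣ chi S a k) :
    ∃ a' : S → ℕ, a' ≠ 0 ∧ (∀ π, a' (dg π) = a' π) ∧ b * ∑ π, a' π ≤ m - 2 := by
  classical
  have hchi0 : chi S a k ≠ 0 := (monic_chi hS a k).ne_zero
  have hcount : 2 ≤ Multiset.count π (ms S a k) := by
    have h1 := pow_dvd_iff_le_emultiplicity.mp hsq
    rw [emultiplicity_eq_count_normalizedFactors hπ hchi0, hm.normalize_eq_self, nf_chi hS] at h1
    exact_mod_cast h1
  have key : ∀ π₀ : S, ∃ a' : S → ℕ, a' ≠ 0 ∧ (∀ π, a' (dg π) = a' π) ∧ (∀ π, a' π ≤ 1) ∧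
      (∀ π, a' π ≠ 0 → π = π₀ ∨ π = dg π₀) := by
    intro π₀
    refine ⟨fun π => if π = π₀ ∨ π = dg π₀ then 1 else 0, ?_, ?_, ?_, ?_⟩
    · intro h
      have := congrFun h π₀
      simp at this
    · intro π
      have e : (dg π = π₀ ∨ dg π = dg π₀) ↔ (π = π₀ ∨ π = dg π₀) := by
        constructor
        · rintro (h | h)
          · right; rw [← h, hdd]
          · left
            have := congrArg dg h
            rwa [hdd, hdd] at this
        · rintro (h | h)
          · right; rw [h]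
          · left; rw [h, hdd]
      simp only [e]
    · intro π
      show (if π = π₀ ∨ π = dg π₀ then 1 else 0) ≤ 1
      split_ifs <;> omega
    · intro π hπ'
      by_contra hcon
      exact hπ' (if_neg hcon)
  rcases hS.cover π hm hπ hdvd with h | h
  · rw [h, count_one_ms hS] at hcount
    obtain ⟨π₀, hπ₀⟩ : ∃ π₀, a π₀ ≠ 0 := by
      by_contra hcon
      push Not at hcon
      exact ha0 (funext hcon)
    obtain ⟨a', ha'0, ha'inv, ha'1, ha'supp⟩ := key π₀
    refine ⟨a', ha'0, ha'inv, ?_⟩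
    have hle : ∑ π, a' π ≤ ∑ π, a π := by
      apply Finset.sum_le_sum
      intro π' _
      by_cases hz : a' π' = 0
      · omega
      · have h1 := ha'1 π'
        rcases ha'supp π' hz with e | e
        · rw [e] at h1 ⊢; omega
        · rw [e] at h1 ⊢; rw [hinv]; omega
    have h3 := Nat.mul_le_mul_left b hle
    omega
  · rw [count_ms hS a k ⟨π, h⟩] at hcount
    obtain ⟨a', ha'0, ha'inv, ha'1, ha'supp⟩ := key ⟨π, h⟩
    refine ⟨a', ha'0, ha'inv, ?_⟩
    have hle : 2 * ∑ π, a' π ≤ ∑ π, a π := by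
      rw [Finset.mul_sum]
      apply Finset.sum_le_sum
      intro π' _
      by_cases hz : a' π' = 0
      · omega
      · have h1 := ha'1 π'
        rcases ha'supp π' hz with e | e
        · rw [e] at h1 ⊢; omega
        · rw [e] at h1 ⊢; rw [hinv]; omega
    have h3 : b * (2 * ∑ π, a' π) ≤ b * ∑ π, a π := Nat.mul_le_mul_left b hle
    have h4 : b * (2 * ∑ π, a' π) = 2 * (b * ∑ π, a' π) := by ring
    omega

end tuple

section exist

open Cfsg.Agent.Lib.Helper40.UnitaryWall Cfsg.Agent.Lib.Helper45 Cfsg.Agent.Lib.Helper40.Jordan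

variable {K : Type*} [Field K] [Fintype K] {q n : ℕ}

theorem exists_q_eq_pow (hK : Fintype.card K = q ^ 2) (p : ℕ) [Fact p.Prime] [CharP K p] :
    ∃ j, q = p ^ j := by
  have hp : p.Prime := Fact.out
  obtain ⟨f, -, hf⟩ := FiniteField.card K p
  have h1 : q ∣ p ^ (f : ℕ) := by
    rw [← hf, hK]
    exact dvd_pow_self q two_ne_zero
  obtain ⟨j, -, hj⟩ := (Nat.dvd_prime_pow hp).1 h1
  exact ⟨j, hj⟩

theorem p_dvd_q (hK : Fintype.card K = q ^ 2) (p : ℕ) [Fact p.Prime] [CharP K p] : p ∣ q := by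
  obtain ⟨j, hj⟩ := exists_q_eq_pow hK p
  have hq := two_le_q hK
  rw [hj]
  apply dvd_pow_self
  rintro rfl
  rw [pow_zero] at hj
  omega

/-- An element of `GU_n(q)` of order prime to `q + 1` lies in `SU_n(q)`; so its order divides
`|SU_n(q)|`. -/
theorem orderOf_dvd_card_SU (hK : Fintype.card K = q ^ 2) (g : ↥(Cfsg.GU n K q))
    (hcop : (orderOf g).Coprime (q + 1)) : orderOf g ∣ Nat.card ↥(Cfsg.SU n K q) := by
  have h1 : (detU hK g) ^ (orderOf g) = 1 := by rw [← map_pow, pow_orderOf_eq_one, map_one]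
  have h2 : (detU hK g) ^ (q + 1) = 1 := by
    rw [← card_U1 hK]
    exact pow_card_eq_one'
  have h3 : detU hK g = 1 := by
    have h4 := pow_gcd_eq_one.2 ⟨h1, h2⟩
    rwa [hcop, pow_one] at h4
  obtain ⟨u, hu⟩ := exists_toGU hK g h3
  have h4 : orderOf u = orderOf g := by
    rw [← hu]
    exact (orderOf_injective toGU toGU_injective u).symm
  rw [← h4]
  exact orderOf_dvd_natCard u

/-- `p` divides `|SU_n(q)|` for `n ≥ 2`. -/
theorem p_dvd_card_SU (hK : Fintype.card K = q ^ 2) (p : ℕ) [Fact p.Prime] [CharP K p]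
    (hn : 2 ≤ n) : p ∣ Nat.card ↥(Cfsg.SU n K q) := by
  classical
  have hp : p.Prime := Fact.out
  obtain ⟨n', rfl⟩ : ∃ n', n = n' + 2 := ⟨n - 2, by omega⟩
  let μ : Nat.Partition (n' + 2) := ⟨2 ::ₘ Multiset.replicate n' 1, by
      intro i hi
      rw [Multiset.mem_cons] at hi
      rcases hi with rfl | hi
      · norm_num
      · rw [Multiset.eq_of_mem_replicate hi]; norm_num, by
      rw [Multiset.sum_cons, Multiset.sum_replicate]
      simp only [smul_eq_mul, mul_one]
      omega⟩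
  obtain ⟨g, hg⟩ := exists_gu_type hK μ
  have hr1 : rk μ.parts 1 = 1 := by
    show rk (2 ::ₘ Multiset.replicate n' 1) 1 = 1
    rw [rk_cons]
    simp [rk]
  have hr2 : rk μ.parts 2 = 0 := by
    show rk (2 ::ₘ Multiset.replicate n' 1) 2 = 0
    rw [rk_cons]
    simp [rk]
  have hN2 : (((g : GL (Fin (n' + 2)) K) : Matrix (Fin (n' + 2)) (Fin (n' + 2)) K) - 1) ^ 2 = 0 :=
    (mat_pow_eq_zero_iff_rank _ 2).2 (by rw [hg, hr2])
  have hN1 : ((g : GL (Fin (n' + 2)) K) : Matrix (Fin (n' + 2)) (Fin (n' + 2)) K) - 1 ≠ 0 := by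
    intro h
    have h1 := hg 1
    rw [pow_one, h, Matrix.rank_zero, hr1] at h1
    exact zero_ne_one h1
  obtain ⟨k, hk⟩ := (isNilpotent_sub_one_iff p (g : GL (Fin (n' + 2)) K)).mp ⟨2, hN2⟩
  have hk0 : k ≠ 0 := by
    rintro rfl
    rw [pow_zero, orderOf_eq_one_iff] at hk
    apply hN1
    rw [hk]
    simp
  have hord : orderOf g = p ^ k := by
    rw [← hk]
    exact (Subgroup.orderOf_coe g).symm
  have hpq : p ∣ q := p_dvd_q hK p
  have hcop : (orderOf g).Coprime (q + 1) := by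
    rw [hord]
    apply Nat.Coprime.pow_left
    rw [Nat.Prime.coprime_iff_not_dvd hp]
    intro h
    have h1 := (Nat.dvd_add_right hpq).mp h
    exact hp.one_lt.ne' (Nat.dvd_one.mp h1)
  have h1 := orderOf_dvd_card_SU hK g hcop
  rw [hord] at h1
  exact (dvd_pow_self p hk0).trans h1

/-- A prime dividing `q + 1` divides `|SU_n(q)|` for `n ≥ 2`. -/
theorem dvd_card_SU_of_dvd_succ (hK : Fintype.card K = q ^ 2) (hn : 2 ≤ n) (r : ℕ)
    (hr : r.Prime) (hrq : r ∣ q + 1) : r ∣ Nat.card ↥(Cfsg.SU n K q) := by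
  classical
  have : Fact r.Prime := ⟨hr⟩
  have hq2 := two_le_q hK
  have hcard : r ∣ Nat.card Kˣ := by
    rw [Nat.card_eq_fintype_card, Fintype.card_units, hK]
    have e : q ^ 2 - 1 = (q - 1) * (q + 1) := by
      obtain ⟨q', rfl⟩ : ∃ q', q = q' + 1 := ⟨q - 1, by omega⟩
      rw [Nat.add_sub_cancel]
      have : (q' + 1) ^ 2 = q' * (q' + 1 + 1) + 1 := by ring
      rw [this, Nat.add_sub_cancel]
    rw [e]
    exact Dvd.dvd.mul_left hrq _
  obtain ⟨z, hz⟩ := exists_prime_orderOf_dvd_card' r hcard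
  have hzr : (z : K) ^ r = 1 := by
    rw [← Units.val_pow_eq_pow_val, ← hz, pow_orderOf_eq_one]
    rfl
  have hz1 : (z : K) ≠ 1 := by
    intro h
    have h1 : z = 1 := Units.ext h
    rw [h1, orderOf_one] at hz
    exact hr.one_lt.ne hz
  have hzq : (z : K) ^ (q + 1) = 1 := by
    obtain ⟨c, hc⟩ := hrq
    rw [hc, pow_mul, hzr, one_pow]
  obtain ⟨i₀, hi₀⟩ : ∃ i₀ : Fin n, i₀ = ⟨0, by omega⟩ := ⟨_, rfl⟩
  obtain ⟨i₁, hi₁⟩ : ∃ i₁ : Fin n, i₁ = ⟨1, by omega⟩ := ⟨_, rfl⟩
  have hi : i₀ ≠ i₁ := by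
    intro h
    rw [hi₀, hi₁] at h
    have := congrArg Fin.val h
    simp at this
  obtain ⟨d, hd⟩ : ∃ d : Fin n → K, d = Function.update
      (Function.update (fun _ => (1 : K)) i₀ (z : K)) i₁ ((z : K)⁻¹) := ⟨_, rfl⟩
  have hd0 : d i₀ = z := by rw [hd, Function.update_of_ne hi, Function.update_self]
  have hdpow : ∀ N : ℕ, (z : K) ^ N = 1 → ∀ i, d i ^ N = 1 := by
    intro N hN i
    rw [hd]
    by_cases h1 : i = i₁
    · rw [h1, Function.update_self, inv_pow, hN, inv_one]
    · rw [Function.update_of_ne h1]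
      by_cases h0 : i = i₀
      · rw [h0, Function.update_self, hN]
      · rw [Function.update_of_ne h0, one_pow]
  have hdet : (Matrix.diagonal d).det = 1 := by
    rw [Matrix.det_diagonal, hd, Finset.prod_update_of_mem (Finset.mem_univ _),
      Finset.prod_update_of_mem (by simp [hi]), Finset.prod_const_one, mul_one,
      inv_mul_cancel₀ (Units.ne_zero z)]
  obtain ⟨u, hu⟩ : ∃ u : ↥(Cfsg.SU n K q),
      ((u : Matrix.SpecialLinearGroup (Fin n) K) : Matrix (Fin n) (Fin n) K) = Matrix.diagonal d :=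
    ⟨⟨⟨Matrix.diagonal d, hdet⟩, isHermIso_diagonal d (hdpow _ hzq)⟩, rfl⟩
  have hur : u ^ r = 1 := by
    apply Subtype.ext
    apply Subtype.ext
    rw [Subgroup.coe_pow, Matrix.SpecialLinearGroup.coe_pow, hu, Matrix.diagonal_pow]
    have e : d ^ r = fun _ => (1 : K) := funext (fun i => hdpow r hzr i)
    rw [e]
    exact Matrix.diagonal_one
  have hu1 : u ≠ 1 := by
    intro h
    apply hz1
    have h1 : Matrix.diagonal d = (1 : Matrix (Fin n) (Fin n) K) := by
      rw [← hu, h]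
      rfl
    have h2 := congrFun (congrFun h1 i₀) i₀
    rw [Matrix.diagonal_apply_eq, Matrix.one_apply_eq, hd0] at h2
    exact h2
  have hord : orderOf u = r := orderOf_eq_prime hur hu1
  rw [← hord]
  exact orderOf_dvd_natCard u

end exist

section psu

open Cfsg.Agent.Lib.Helper40.UnitaryWall Cfsg.Agent.Lib.Helper45 Cfsg.Agent.Lib.Helper40.Jordan
  Cfsg.Agent.Lib.Helper40.PrimeOrderGL Cfsg.Agent.Lib.Helper40.DualPoly
  Cfsg.Agent.Lib.Helper40.GUPrimeOrder

variable {F : Type*} [Field F] [Fintype F] {q : ℕ}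

/-- Central elements of `SU_m(q)` have order dividing `q + 1`. -/
theorem su_center_pow (hF : Fintype.card F = q ^ 2) (m : ℕ) (hm : 1 ≤ m) (C : ↥(Cfsg.SU m F q))
    (hC : C ∈ Subgroup.center ↥(Cfsg.SU m F q)) : C ^ (q + 1) = 1 := by
  classical
  have hq : q ≠ 0 := by have := two_le_q hF; omega
  rw [Subgroup.mem_center_iff] at hC
  obtain ⟨Z, hZdef⟩ : ∃ Z : Matrix (Fin m) (Fin m) F, Z = C.1.1 := ⟨_, rfl⟩
  have hZ : ∀ M, IsHermIso m F q M → M.det = 1 → M * Z = Z * M := by
    intro M hM hdet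
    have := hC ⟨⟨M, hdet⟩, hM⟩
    rw [hZdef]
    exact congrArg (fun g : Cfsg.SU m F q => (g.1.1 : Matrix (Fin m) (Fin m) F)) this
  have hsc := central_scalar hF hm Z hZ
  obtain ⟨c, hc⟩ : ∃ c : F, c = Z ⟨0, hm⟩ ⟨0, hm⟩ := ⟨_, rfl⟩
  rw [← hc] at hsc
  have hziso : IsHermIso m F q Z := by rw [hZdef]; exact C.2
  have hc2 : c ^ (q + 1) = 1 := by
    have := hziso (Pi.single ⟨0, hm⟩ 1) (Pi.single ⟨0, hm⟩ 1)
    rw [hsc, Matrix.smul_mulVec, Matrix.one_mulVec, herm_smul_left, herm_smul_right,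
      herm_single_right hq, Pi.single_eq_same, mul_one, ← pow_succ'] at this
    exact this
  apply Subtype.ext
  apply Subtype.ext
  rw [Subgroup.coe_pow, Matrix.SpecialLinearGroup.coe_pow, ← hZdef, hsc, _root_.smul_pow, hc2,
    one_pow, one_smul]
  rfl

theorem su_lift_pow (hF : Fintype.card F = q ^ 2) (m : ℕ) (hm : 1 ≤ m) (X : ↥(Cfsg.SU m F q))
    (e : ℕ) (h : (QuotientGroup.mk X : Cfsg.PSU m F q) ^ e = 1) : (X ^ (q + 1)) ^ e = 1 := by
  rw [← QuotientGroup.mk_pow, QuotientGroup.eq_one_iff] at h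
  rw [← pow_mul, mul_comm, pow_mul]
  exact su_center_pow hF m hm _ h

/-- In `PSU_m(q)`, `m ≥ 4`, the primes dividing the order of an element commuting with an element
of order `p` divide the order of `SU_{m-2}(q)`. -/
theorem psu_commute_primeFactors (p : ℕ) [Fact p.Prime] [CharP F p] (m : ℕ) (hm : 4 ≤ m)
    (hF : Fintype.card F = q ^ 2) (a b : Cfsg.PSU m F q) (ha : orderOf a = p)
    (hab : Commute a b) :
    (orderOf b).primeFactors ⊆ (Nat.card ↥(Cfsg.SU (m - 2) F q)).primeFactors := by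
  classical
  intro r hr
  rw [Nat.mem_primeFactors] at hr
  obtain ⟨hrprime, hrdvd, hb0⟩ := hr
  rw [Nat.mem_primeFactors]
  refine ⟨hrprime, ?_, Nat.card_pos.ne'⟩
  have hpp : p.Prime := Fact.out
  have hq2 : 2 ≤ q := two_le_q hF
  have hpq : p ∣ q := p_dvd_q hF p
  by_cases hrp : r = p
  · rw [hrp]
    exact p_dvd_card_SU hF p (by omega)
  by_cases hrq : r ∣ q + 1
  · exact dvd_card_SU_of_dvd_succ hF (by omega) r hrprime hrq
  have hrnq : ¬ r ∣ q := by
    obtain ⟨j, hj⟩ := exists_q_eq_pow hF p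
    rw [hj]
    intro h
    exact hrp ((Nat.prime_dvd_prime_iff_eq hrprime hpp).1 (hrprime.dvd_of_dvd_pow h))
  have hr2 : r ≠ 2 := by
    rintro rfl
    rcases Nat.even_or_odd q with he | ho
    · exact hrnq he.two_dvd
    · exact hrq ho.add_one.two_dvd
  have hpq1 : ¬ p ∣ q + 1 := by
    intro h
    have h1 := (Nat.dvd_add_right hpq).mp h
    exact hpp.one_lt.ne' (Nat.dvd_one.mp h1)
  obtain ⟨b₁, hb₁⟩ : ∃ b₁ : Cfsg.PSU m F q, b₁ = b ^ (orderOf b / r) := ⟨_, rfl⟩
  have hb₁ord : orderOf b₁ = r := by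
    rw [hb₁]
    exact orderOf_pow_orderOf_div hb0 hrdvd
  obtain ⟨A₀, hA₀⟩ := QuotientGroup.mk_surjective a
  obtain ⟨B₀, hB₀⟩ := QuotientGroup.mk_surjective b₁
  obtain ⟨A, hA⟩ : ∃ A : ↥(Cfsg.SU m F q), A = A₀ ^ (q + 1) := ⟨_, rfl⟩
  obtain ⟨B, hB⟩ : ∃ B : ↥(Cfsg.SU m F q), B = B₀ ^ (q + 1) := ⟨_, rfl⟩
  have hAp : A ^ p = 1 := by
    rw [hA]
    exact su_lift_pow hF m (by omega) A₀ p (by
      rw [hA₀, ← ha]
      exact pow_orderOf_eq_one a)
  have hBr : B ^ r = 1 := by
    rw [hB]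
    exact su_lift_pow hF m (by omega) B₀ r (by
      rw [hB₀, ← hb₁ord]
      exact pow_orderOf_eq_one b₁)
  have hmkA : (QuotientGroup.mk A : Cfsg.PSU m F q) = a ^ (q + 1) := by
    rw [hA, QuotientGroup.mk_pow, hA₀]
  have hmkB : (QuotientGroup.mk B : Cfsg.PSU m F q) = b₁ ^ (q + 1) := by
    rw [hB, QuotientGroup.mk_pow, hB₀]
  have hA1 : A ≠ 1 := by
    intro h
    have h2 : a ^ (q + 1) = 1 := by
      rw [← hmkA, h]
      rfl
    have h3 := orderOf_dvd_of_pow_eq_one h2
    rw [ha] at h3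
    exact hpq1 h3
  have hB1 : B ≠ 1 := by
    intro h
    have h2 : b₁ ^ (q + 1) = 1 := by
      rw [← hmkB, h]
      rfl
    have h3 := orderOf_dvd_of_pow_eq_one h2
    rw [hb₁ord] at h3
    exact hrq h3
  have hcomm : A * B = B * A := by
    have hab₁ : Commute a b₁ := by rw [hb₁]; exact hab.pow_right _
    have hC : A * B * A⁻¹ * B⁻¹ ∈ Subgroup.center ↥(Cfsg.SU m F q) := by
      rw [← QuotientGroup.eq_one_iff, QuotientGroup.mk_mul, QuotientGroup.mk_mul,
        QuotientGroup.mk_mul, QuotientGroup.mk_inv, QuotientGroup.mk_inv, hmkA, hmkB]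
      have hc : Commute (a ^ (q + 1)) (b₁ ^ (q + 1)) := (hab₁.pow_left _).pow_right _
      rw [hc.eq]
      group
    obtain ⟨C, hCdef⟩ : ∃ C, C = A * B * A⁻¹ * B⁻¹ := ⟨_, rfl⟩
    rw [← hCdef] at hC
    have hC1 : C ^ (q + 1) = 1 := su_center_pow hF m (by omega) C hC
    have hCr : C ^ r = 1 := by
      have h1 : A * B * A⁻¹ = C * B := by
        rw [hCdef]
        group
      have h2 : (A * B * A⁻¹) ^ r = 1 := by
        rw [conj_pow, hBr]
        group
      rw [h1] at h2
      have hCB : Commute C B := (Subgroup.mem_center_iff.1 hC B).symm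
      rw [hCB.mul_pow, hBr, mul_one] at h2
      exact h2
    have hgcd : Nat.gcd r (q + 1) = 1 := (Nat.Prime.coprime_iff_not_dvd hrprime).2 hrq
    have hC1' : C = 1 := by
      have h3 := pow_gcd_eq_one.2 ⟨hCr, hC1⟩
      rwa [hgcd, pow_one] at h3
    have h4 : A * B = C * (B * A) := by
      rw [hCdef]
      group
    rw [h4, hC1', one_mul]
  -- matrices
  obtain ⟨MA, hMA⟩ : ∃ MA : Matrix (Fin m) (Fin m) F, MA = A.1.1 := ⟨_, rfl⟩
  obtain ⟨MB, hMB⟩ : ∃ MB : Matrix (Fin m) (Fin m) F, MB = B.1.1 := ⟨_, rfl⟩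
  have hMAp : MA ^ p = 1 := by
    have h1 := congrArg (fun g : ↥(Cfsg.SU m F q) => (g.1.1 : Matrix (Fin m) (Fin m) F)) hAp
    simp only [Subgroup.coe_pow, Matrix.SpecialLinearGroup.coe_pow] at h1
    rw [hMA, h1]
    rfl
  have hMBr : MB ^ r = 1 := by
    have h1 := congrArg (fun g : ↥(Cfsg.SU m F q) => (g.1.1 : Matrix (Fin m) (Fin m) F)) hBr
    simp only [Subgroup.coe_pow, Matrix.SpecialLinearGroup.coe_pow] at h1
    rw [hMB, h1]
    rfl
  have hMA1 : MA ≠ 1 := by
    intro h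
    apply hA1
    apply Subtype.ext
    apply Subtype.ext
    rw [← hMA, h]
    rfl
  have hMB1 : MB ≠ 1 := by
    intro h
    apply hB1
    apply Subtype.ext
    apply Subtype.ext
    rw [← hMB, h]
    rfl
  have hcm : MB * MA = MA * MB := by
    have h1 := congrArg (fun g : ↥(Cfsg.SU m F q) => (g.1.1 : Matrix (Fin m) (Fin m) F)) hcomm
    simp only [Subgroup.coe_mul, Matrix.SpecialLinearGroup.coe_mul] at h1
    rw [hMA, hMB, h1]
  obtain ⟨N, hNdef⟩ : ∃ N : Matrix (Fin m) (Fin m) F, N = MA - 1 := ⟨_, rfl⟩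
  have hN : IsNilpotent N := by
    refine ⟨p ^ 1, ?_⟩
    rw [hNdef, sub_one_pow_char_pow p MA 1, pow_one, hMAp, sub_self]
  have hN0 : N ≠ 0 := by
    rw [hNdef]
    exact sub_ne_zero.mpr hMA1
  have hcN : MB * N = N * MB := by
    rw [hNdef, mul_sub, sub_mul, mul_one, one_mul, hcm]
  have hrF : (r : F) ≠ 0 := by
    intro h
    rw [CharP.cast_eq_zero_iff F p r] at h
    exact hrp ((Nat.prime_dvd_prime_iff_eq hpp hrprime).1 h).symm
  obtain ⟨π, hπm, hπirr, hπdvd, hπsq⟩ := exists_sq_dvd_charpoly_matrix MB N hcN r hrF hMBr hN hN0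
  -- the factors of the cyclotomic polynomial
  have : Fact r.Prime := ⟨hrprime⟩
  obtain ⟨bb, hbb⟩ : ∃ bb : ℕ, bb = orderOf ((q ^ 2 : ℕ) : ZMod r) := ⟨_, rfl⟩
  have hbbdvd : bb ∣ r - 1 := by
    rw [hbb]
    apply ZMod.orderOf_dvd_card_sub_one
    rw [Ne, ZMod.natCast_eq_zero_iff]
    intro h
    exact hrnq (hrprime.dvd_of_dvd_pow h)
  obtain ⟨s, hs⟩ : ∃ s, s * bb = r - 1 := by
    obtain ⟨c, hc⟩ := hbbdvd
    exact ⟨c, by rw [hc, mul_comm]⟩
  obtain ⟨S, hS, -, hrK⟩ := exists_factors hF r bb s hrprime hrp hbb hs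
  have hσ2 := conj_conj hF
  have hmemS : ∀ π : S, dual (sigmaQ hF) π.1 ∈ S := by
    intro π
    have h0 := Factors.coeff_zero_ne hS hrprime.pos π π.2
    have hmon := monic_dual (sigmaQ hF) π.1 h0
    have hirr := irreducible_dual (sigmaQ hF) hσ2 π.1 (hS.monic π π.2) h0 (hS.irred π π.2)
    have hdvd : dual (sigmaQ hF) π.1 ∣ X ^ r - 1 := by
      obtain ⟨c, hc⟩ := hS.dvd π π.2
      have h1 := congrArg (dual (sigmaQ hF)) hc
      rw [dual_X_pow_sub_one (sigmaQ hF) r hrprime.pos, dual_mul] at h1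
      exact ⟨_, h1⟩
    rcases hS.cover _ hmon hirr hdvd with h | h
    · exfalso
      have h2 := dual_dual (sigmaQ hF) hσ2 π.1 (hS.monic π π.2) h0
      rw [h, dual_X_sub_one] at h2
      exact hS.notMem (h2 ▸ π.2)
    · exact h
  obtain ⟨dg, hdg⟩ : ∃ dg : S → S, ∀ π : S, (dg π : F[X]) = dual (sigmaQ hF) π.1 :=
    ⟨fun π => ⟨dual (sigmaQ hF) π.1, hmemS π⟩, fun π => rfl⟩
  have hdd : ∀ π, dg (dg π) = π := by
    intro π
    apply Subtype.ext
    rw [hdg, hdg, dual_dual (sigmaQ hF) hσ2 π.1 (hS.monic π π.2)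
      (Factors.coeff_zero_ne hS hrprime.pos π π.2)]
  -- the characteristic polynomial of `MB`
  obtain ⟨a₀, ha₀, hχ⟩ := charpoly_eq_chi hS MB hMBr
  have hss := isSemisimple_of_pow_eq_one MB r hrF hMBr
  have ha₀0 : a₀ ≠ 0 := by
    rintro rfl
    apply hMB1
    apply eq_one_of_charpoly MB hss
    rw [hχ]
    simp [chi]
  have hinv : ∀ π, a₀ (dg π) = a₀ π := by
    have hu : cstar (sigmaQ hF) MB * MB = 1 := by
      rw [hMB]
      exact (mem_GU_iff_cstar hF (toGU B).1).mp (toGU B).2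
    have h1 := dual_charpoly_of_unitary (sigmaQ hF) hσ2 MB hu
    rw [hχ, dual_chi (sigmaQ hF) dg hdd hdg] at h1
    have h2 := chi_inj hS _ _ _ _ h1
    intro π
    exact congrFun h2 π
  rw [hχ] at hπsq
  obtain ⟨a', ha'0, ha'inv, ha'le⟩ := exists_small_tuple hS a₀ (m - bb * ∑ π, a₀ π) m hm ha₀0
    (by omega) dg hdd hinv π hπm hπirr hπdvd hπsq
  -- an element of order `r` in `GU_{m-2}(q)`
  have hcard := card_classes_GU_generic hF p hS hrprime hrK (m - 2) dg hdg
  have hne : Nonempty {a : S → ℕ // a ≠ 0 ∧ (∀ π, a (dg π) = a π) ∧ bb * ∑ π, a π ≤ m - 2} :=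
    ⟨⟨a', ha'0, ha'inv, ha'le⟩⟩
  have hbb0 : 0 < bb := by
    rcases Nat.eq_zero_or_pos bb with h | h
    · rw [h, mul_zero] at hs
      have := hrprime.two_le
      omega
    · exact h
  have hfin : Finite {a : S → ℕ // a ≠ 0 ∧ (∀ π, a (dg π) = a π) ∧ bb * ∑ π, a π ≤ m - 2} := by
    have hbound : ∀ a : {a : S → ℕ // a ≠ 0 ∧ (∀ π, a (dg π) = a π) ∧ bb * ∑ π, a π ≤ m - 2},
        ∀ π, a.1 π < m + 1 := by
      intro a π
      have h1 : a.1 π ≤ ∑ π, a.1 π :=
        Finset.single_le_sum (fun _ _ => Nat.zero_le _) (Finset.mem_univ π)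
      have h2 : ∑ π, a.1 π ≤ bb * ∑ π, a.1 π := Nat.le_mul_of_pos_left _ hbb0
      have h3 := a.2.2.2
      omega
    apply Finite.of_injective (fun a => fun π => (⟨a.1 π, hbound a π⟩ : Fin (m + 1)))
    intro a a' h
    apply Subtype.ext
    funext π
    have h1 := congrFun h π
    exact congrArg Fin.val h1
  have hpos : 0 < Nat.card {C : ConjClasses ↥(Cfsg.GU (m - 2) F q) //
      ∃ g : ↥(Cfsg.GU (m - 2) F q), ConjClasses.mk g = C ∧ orderOf g = r} := by
    rw [hcard]
    exact Nat.card_pos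
  obtain ⟨⟨C, g, -, hg⟩⟩ := (Nat.card_pos_iff.mp hpos).1
  have hcop : (orderOf g).Coprime (q + 1) := by
    rw [hg]
    exact (Nat.Prime.coprime_iff_not_dvd hrprime).2 hrq
  have h1 := orderOf_dvd_card_SU hF g hcop
  rwa [hg] at h1

end psu

end Cfsg.Agent.Lib.Helper40.PSUCommute
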