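import Mathlib
import Cfsg.Agent.Lib.Helper40.SympWall
import Cfsg.Agent.Lib.Helper40.DualFactor
import Cfsg.Agent.Lib.Helper40.SUClasses
import Cfsg.Agent.Lib.Helper8.SpGen

/-!
# Existence of semisimple symplectic elements with prescribed characteristic polynomial

A semisimple matrix `M` similar to its inverse transpose and with `M - M⁻¹` invertible preserves a
non-degenerate alternating form.  Together with hyperbolic planes for the eigenvalues `±1`, this
realizes every self-dual monic polynomial of degree `2n` with constant term `1` as the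
characteristic polynomial of a semisimple element of `Sp_{2n}(F)`.
-/

set_option autoImplicit false
set_option linter.unusedSectionVars false
set_option linter.style.haveILetI false

namespace Cfsg.Agent.Lib.Helper40.SpExist

open Matrix Polynomial Cfsg.Agent.Lib.Helper40.RingNorm Cfsg.Agent.Lib.Helper40.DualPoly
  Cfsg.Agent.Lib.Helper40.SympWall

section thmT

variable {F : Type*} [Field F] [Finite F] {ι : Type*} [Fintype ι] [DecidableEq ι]

/-- A matrix preserving a non-degenerate bilinear form, with `M - M⁻¹` invertible, preserves a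
non-degenerate alternating form. -/
theorem exists_alt_invariant (M M' x x' δ : Matrix ι ι F) (hMM' : M * M' = 1) (hxx' : x * x' = 1)
    (hinv : Mᵀ * x * M = x) (hδ : (M - M') * δ = 1) :
    ∃ y y' : Matrix ι ι F, y * y' = 1 ∧ (∀ v : ι → F, v ⬝ᵥ y *ᵥ v = 0) ∧ Mᵀ * y * M = y := by
  classical
  have hM'M : M' * M = 1 := mul_eq_one_comm.mp hMM'
  have hx'x : x' * x = 1 := mul_eq_one_comm.mp hxx'
  have hδ' : δ * (M - M') = 1 := mul_eq_one_comm.mp hδ
  -- consequences of invariance
  have h1 : Mᵀ * x = x * M' := by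
    calc Mᵀ * x = Mᵀ * x * (M * M') := by rw [hMM', mul_one]
      _ = (Mᵀ * x * M) * M' := by simp only [mul_assoc]
      _ = x * M' := by rw [hinv]
  obtain ⟨τ, hτdef⟩ : ∃ τ : Matrix ι ι F → Matrix ι ι F, ∀ c, τ c = x' * cᵀ * x :=
    ⟨fun c => x' * cᵀ * x, fun c => rfl⟩
  have hτmul : ∀ a b, τ (a * b) = τ b * τ a := by
    intro a b
    rw [hτdef, hτdef, hτdef, transpose_mul]
    calc x' * (bᵀ * aᵀ) * x = x' * bᵀ * (x * x') * aᵀ * x := by
          rw [hxx', mul_one]; simp only [mul_assoc]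
      _ = x' * bᵀ * x * (x' * aᵀ * x) := by simp only [mul_assoc]
  have hτ1 : τ 1 = 1 := by rw [hτdef, transpose_one, mul_one, hx'x]
  have hτadd : ∀ a b, τ (a + b) = τ a + τ b := by
    intro a b
    rw [hτdef, hτdef, hτdef, transpose_add, mul_add, add_mul]
  have hτM : τ M = M' := by
    rw [hτdef, mul_assoc, h1, ← mul_assoc, hx'x, one_mul]
  obtain ⟨w, hw⟩ : ∃ w : Matrix ι ι F, w = x' * xᵀ := ⟨_, rfl⟩
  obtain ⟨w', hw'⟩ : ∃ w' : Matrix ι ι F, w' = x'ᵀ * x := ⟨_, rfl⟩
  have hww' : w * w' = 1 := by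
    rw [hw, hw']
    calc x' * xᵀ * (x'ᵀ * x) = x' * (xᵀ * x'ᵀ) * x := by simp only [mul_assoc]
      _ = 1 := by rw [← transpose_mul, hx'x, transpose_one, mul_one, hx'x]
  have hw'w : w' * w = 1 := mul_eq_one_comm.mp hww'
  have hττ : ∀ c, τ (τ c) = w * c * w' := by
    intro c
    rw [hτdef (τ c), hτdef c, transpose_mul, transpose_mul, transpose_transpose, hw, hw']
    simp only [mul_assoc]
  have hτw : τ w = w' := by
    rw [hτdef, hw, transpose_mul, transpose_transpose, hw']
    calc x' * (x * x'ᵀ) * x = (x' * x) * x'ᵀ * x := by simp only [mul_assoc]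
      _ = x'ᵀ * x := by rw [hx'x, one_mul]
  have hwM : w * M = M * w := by
    have e1 : xᵀ * M = M'ᵀ * xᵀ := by
      have := congrArg transpose h1
      rw [transpose_mul, transpose_mul, transpose_transpose] at this
      exact this
    have e2 : M * x' = x' * M'ᵀ := by
      have e3 : x * M = M'ᵀ * x := by
        calc x * M = (M * M')ᵀ * x * M := by rw [hMM', transpose_one, one_mul]
          _ = M'ᵀ * (Mᵀ * x * M) := by rw [transpose_mul]; simp only [mul_assoc]
          _ = M'ᵀ * x := by rw [hinv]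
      calc M * x' = (x' * x) * M * x' := by rw [hx'x, one_mul]
        _ = x' * (x * M) * x' := by simp only [mul_assoc]
        _ = x' * (M'ᵀ * x) * x' := by rw [e3]
        _ = x' * M'ᵀ * (x * x') := by simp only [mul_assoc]
        _ = x' * M'ᵀ := by rw [hxx', mul_one]
    rw [hw, mul_assoc, e1, ← mul_assoc, ← e2, mul_assoc]
  obtain ⟨S, hS⟩ : ∃ S : Set (Matrix ι ι F), S = {M, w} := ⟨_, rfl⟩
  have hmemS : ∀ a ∈ S, a = M ∨ a = w := by
    intro a ha
    rw [hS] at ha
    simpa using ha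
  have hMS : M ∈ S := by rw [hS]; simp
  have hwS : w ∈ S := by rw [hS]; simp
  have hScomm : ∀ a ∈ S, ∀ b ∈ S, a * b = b * a := by
    intro a ha b hb
    rcases hmemS a ha with h | h <;> rcases hmemS b hb with h' | h' <;> rw [h, h']
    · exact hwM.symm
    · exact hwM
  have hRc := bicomm_comm hScomm
  have hMR : M ∈ bicomm S := mem_bicomm_of_mem hMS
  have hwR : w ∈ bicomm S := mem_bicomm_of_mem hwS
  have hM'R : M' ∈ bicomm S := inv_mem_bicomm hMR hMM' hM'M
  have hw'R : w' ∈ bicomm S := inv_mem_bicomm hwR hww' hw'w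
  have hδR : δ ∈ bicomm S :=
    inv_mem_bicomm ((bicomm S).sub_mem hMR hM'R) hδ hδ'
  have hτR : ∀ a ∈ bicomm S, τ a ∈ bicomm S := by
    intro a ha
    refine tau_mem_bicomm τ hτmul ?_ ha
    intro d hd
    have hdM : M * d = d * M := hd M hMS
    have hdw : w * d = d * w := hd w hwS
    have hdw' : w' * d = d * w' := by
      calc w' * d = w' * d * (w * w') := by rw [hww', mul_one]
        _ = w' * (d * w) * w' := by simp only [mul_assoc]
        _ = w' * (w * d) * w' := by rw [hdw]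
        _ = (w' * w) * d * w' := by simp only [mul_assoc]
        _ = d * w' := by rw [hw'w, one_mul]
    have hdM' : M' * d = d * M' := by
      calc M' * d = M' * d * (M * M') := by rw [hMM', mul_one]
        _ = M' * (d * M) * M' := by simp only [mul_assoc]
        _ = M' * (M * d) * M' := by rw [hdM]
        _ = (M' * M) * d * M' := by simp only [mul_assoc]
        _ = d * M' := by rw [hM'M, one_mul]
    refine ⟨τ d, ?_, ?_⟩
    · intro a ha
      rcases hmemS a ha with h | h
      · rw [h]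
        -- `M * τ d = τ d * M` from `M' * τ d = τ d * M'`
        have e1 : M' * τ d = τ d * M' := by
          rw [← hτM, ← hτmul, ← hτmul, hdM]
        calc M * τ d = M * τ d * (M' * M) := by rw [hM'M, mul_one]
          _ = M * (τ d * M') * M := by simp only [mul_assoc]
          _ = M * (M' * τ d) * M := by rw [e1]
          _ = (M * M') * τ d * M := by simp only [mul_assoc]
          _ = τ d * M := by rw [hMM', one_mul]
      · rw [h]
        have e1 : w' * τ d = τ d * w' := by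
          rw [← hτw, ← hτmul, ← hτmul, hdw]
        calc w * τ d = w * τ d * (w' * w) := by rw [hw'w, mul_one]
          _ = w * (τ d * w') * w := by simp only [mul_assoc]
          _ = w * (w' * τ d) * w := by rw [e1]
          _ = (w * w') * τ d * w := by simp only [mul_assoc]
          _ = τ d * w := by rw [hww', one_mul]
    · rw [hττ, hdw, mul_assoc, hww', mul_one]
  have hτinv : ∀ a ∈ bicomm S, τ (τ a) = a := by
    intro a ha
    rw [hττ, hRc w hwR a ha, mul_assoc, hww', mul_one]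
  have hvR : -w ∈ bicomm S := (bicomm S).neg_mem hwR
  have hτneg : ∀ a, τ (-a) = -τ a := by
    intro a
    rw [hτdef, hτdef, transpose_neg, mul_neg, neg_mul]
  obtain ⟨c, hcR, c', hc'R, hcc', hc'c, hc⟩ := ambient_h90 (bicomm S) hRc τ hτR hτ1 hτadd hτmul
    hτinv M δ hMR hδR (by rw [hτM]; exact hδ) (-w) hvR (by
      rw [hτneg, hτw, neg_mul_neg, hww'])
  -- hc : -w * τ c = c
  have hcM : c * M = M * c := hRc c hcR M hMR
  refine ⟨x * c, c' * x', ?_, ?_, ?_⟩
  · calc x * c * (c' * x') = x * (c * c') * x' := by simp only [mul_assoc]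
      _ = 1 := by rw [hcc', mul_one, hxx']
  · -- skew-symmetry and invariance give the alternating property
    have hskew : (x * c)ᵀ = -(x * c) := by
      have e1 : cᵀ * xᵀ = x * (τ c * w) := by
        rw [hτdef, hw]
        calc cᵀ * xᵀ = (x * x') * cᵀ * (x * x') * xᵀ := by rw [hxx', one_mul, mul_one]
          _ = x * (x' * cᵀ * x * (x' * xᵀ)) := by simp only [mul_assoc]
      have e2 : w * τ c = -c := by
        have h := hc
        rw [neg_mul] at h
        exact neg_eq_iff_eq_neg.mp h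
      rw [transpose_mul, e1, hRc _ (hτR c hcR) w hwR, e2, mul_neg]
    have hinv' : Mᵀ * (x * c) * M = x * c := by
      calc Mᵀ * (x * c) * M = Mᵀ * x * (c * M) := by simp only [mul_assoc]
        _ = (Mᵀ * x * M) * c := by rw [hcM]; simp only [mul_assoc]
        _ = x * c := by rw [hinv]
    obtain ⟨y, hy⟩ : ∃ y : Matrix ι ι F, y = x * c := ⟨_, rfl⟩
    rw [← hy] at hskew hinv' ⊢
    have hB : ∀ u v : ι → F, u ⬝ᵥ y *ᵥ v = -(v ⬝ᵥ y *ᵥ u) := by
      intro u v
      have e1 : v ⬝ᵥ y *ᵥ u = (yᵀ *ᵥ v) ⬝ᵥ u := by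
        rw [Matrix.dotProduct_mulVec, Matrix.mulVec_transpose]
      rw [e1, hskew, Matrix.neg_mulVec, neg_dotProduct, neg_neg, dotProduct_comm]
    have hBM : ∀ u v : ι → F, (M *ᵥ u) ⬝ᵥ y *ᵥ (M *ᵥ v) = u ⬝ᵥ y *ᵥ v := by
      intro u v
      have e1 : (M *ᵥ u) ⬝ᵥ y *ᵥ (M *ᵥ v) = u ⬝ᵥ (Mᵀ * y * M) *ᵥ v := by
        rw [← Matrix.mulVec_mulVec, ← Matrix.mulVec_mulVec, Matrix.dotProduct_mulVec u Mᵀ,
          Matrix.vecMul_transpose]
      rw [e1, hinv']
    -- `1 - M` is invertible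
    obtain ⟨ρ, hρ⟩ : ∃ ρ : Matrix ι ι F, (1 - M) * ρ = 1 := by
      refine ⟨-((1 + M') * δ), ?_⟩
      have e1 : (1 - M) * (1 + M') = -(M - M') := by
        rw [sub_mul, mul_add, mul_add, one_mul, one_mul, mul_one, hMM']
        abel
      rw [mul_neg, ← mul_assoc, e1, neg_mul, hδ, neg_neg]
    intro v
    obtain ⟨u, hu⟩ : ∃ u : ι → F, v = u - M *ᵥ u := by
      refine ⟨ρ *ᵥ v, ?_⟩
      have := congrArg (fun A : Matrix ι ι F => A *ᵥ v) hρ
      simp only [Matrix.one_mulVec, ← Matrix.mulVec_mulVec, Matrix.sub_mulVec] at this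
      exact this.symm
    have hself : u ⬝ᵥ y *ᵥ u + u ⬝ᵥ y *ᵥ u = 0 := by
      have := hB u u
      nth_rewrite 1 [this]
      exact neg_add_cancel _
    rw [hu, Matrix.mulVec_sub, dotProduct_sub, sub_dotProduct, sub_dotProduct, hBM,
      hB (M *ᵥ u) u]
    linear_combination hself
  · calc Mᵀ * (x * c) * M = Mᵀ * x * (c * M) := by simp only [mul_assoc]
      _ = (Mᵀ * x * M) * c := by rw [hcM]; simp only [mul_assoc]
      _ = x * c := by rw [hinv]

end thmT

section good

variable {F : Type*} [Field F]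

/-- `Good p f`: `f` is the characteristic polynomial of a matrix of order prime to `p` preserving
a non-degenerate alternating form. -/
def Good (p : ℕ) (f : F[X]) : Prop :=
  ∃ (ι : Type) (_ : Fintype ι) (_ : DecidableEq ι) (M y y' : Matrix ι ι F),
    M.charpoly = f ∧ (∃ N : ℕ, 0 < N ∧ N.Coprime p ∧ M ^ N = 1) ∧ y * y' = 1 ∧
      (∀ v : ι → F, v ⬝ᵥ y *ᵥ v = 0) ∧ Mᵀ * y * M = y

theorem Good.mul {p : ℕ} {f g : F[X]} (hf : Good p f) (hg : Good p g) : Good p (f * g) := by
  obtain ⟨ι₁, _, _, M₁, y₁, y₁', hc₁, ⟨N₁, hN₁, hNp₁, hpow₁⟩, hy₁, halt₁, hinv₁⟩ := hf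
  obtain ⟨ι₂, _, _, M₂, y₂, y₂', hc₂, ⟨N₂, hN₂, hNp₂, hpow₂⟩, hy₂, halt₂, hinv₂⟩ := hg
  refine ⟨ι₁ ⊕ ι₂, inferInstance, inferInstance, fromBlocks M₁ 0 0 M₂, fromBlocks y₁ 0 0 y₂,
    fromBlocks y₁' 0 0 y₂', ?_, ⟨N₁ * N₂, Nat.mul_pos hN₁ hN₂, Nat.Coprime.mul_left hNp₁ hNp₂, ?_⟩,
    ?_, ?_, ?_⟩
  · rw [Matrix.charpoly_fromBlocks_zero₁₂, hc₁, hc₂]
  · rw [Matrix.fromBlocks_diagonal_pow, pow_mul, hpow₁, one_pow, mul_comm N₁ N₂, pow_mul, hpow₂,
      one_pow, fromBlocks_one]
  · rw [fromBlocks_multiply]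
    simp only [Matrix.mul_zero, Matrix.zero_mul, add_zero, zero_add, hy₁, hy₂, fromBlocks_one]
  · intro v
    obtain ⟨a, b, rfl⟩ : ∃ a b, v = Sum.elim a b :=
      ⟨v ∘ Sum.inl, v ∘ Sum.inr, (Sum.elim_comp_inl_inr v).symm⟩
    rw [fromBlocks_mulVec, sumElim_dotProduct_sumElim]
    simp only [Matrix.zero_mulVec, add_zero, zero_add, halt₁, halt₂, Sum.elim_comp_inl,
      Sum.elim_comp_inr]
  · rw [fromBlocks_transpose, fromBlocks_multiply, fromBlocks_multiply]
    simp only [Matrix.mul_zero, Matrix.zero_mul, add_zero, zero_add, hinv₁, hinv₂,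
      transpose_zero]

theorem good_one (p : ℕ) : Good p (1 : F[X]) := by
  refine ⟨Empty, inferInstance, inferInstance, 1, 1, 1, Matrix.charpoly_isEmpty,
    ⟨1, Nat.one_pos, Nat.coprime_one_left p, pow_one 1⟩, mul_one 1, ?_, ?_⟩
  · intro v
    simp [dotProduct]
  · simp

theorem Good.pow {p : ℕ} {f : F[X]} (hf : Good p f) (k : ℕ) : Good p (f ^ k) := by
  induction k with
  | zero => rw [pow_zero]; exact good_one p
  | succ k ih => rw [pow_succ]; exact ih.mul hf

theorem good_X_sub_one_sq (p : ℕ) : Good p ((X - C (1 : F)) ^ 2) := by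
  refine ⟨Fin 1 ⊕ Fin 1, inferInstance, inferInstance, 1, Matrix.J (Fin 1) F, -Matrix.J (Fin 1) F,
    ?_, ⟨1, Nat.one_pos, Nat.coprime_one_left p, pow_one 1⟩, ?_, J_alt, ?_⟩
  · rw [Matrix.charpoly_one, map_one]
    simp
  · rw [mul_neg, Matrix.J_squared, neg_neg]
  · rw [transpose_one, one_mul, mul_one]

theorem good_X_add_one_sq (p : ℕ) (hp : Nat.Coprime 2 p) : Good p ((X - C (-1 : F)) ^ 2) := by
  refine ⟨Fin 1 ⊕ Fin 1, inferInstance, inferInstance, -1, Matrix.J (Fin 1) F,
    -Matrix.J (Fin 1) F, ?_, ⟨2, by norm_num, hp, by simp⟩, ?_, J_alt, ?_⟩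
  · have h : (-1 : Matrix (Fin 1 ⊕ Fin 1) (Fin 1 ⊕ Fin 1) F) = diagonal (fun _ => (-1 : F)) := by
      ext i j
      by_cases hij : i = j
      · subst hij; simp
      · simp [hij]
    rw [h, Matrix.charpoly_diagonal]
    simp
  · rw [mul_neg, Matrix.J_squared, neg_neg]
  · rw [transpose_neg, transpose_one, neg_mul, one_mul, neg_mul, mul_neg, mul_one, neg_neg]

end good

section exist

variable {F : Type*} [Field F] [Fintype F]

/-- A self-dual monic polynomial without the roots `±1` is the characteristic polynomial of a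
semisimple matrix preserving a non-degenerate alternating form. -/
theorem good_of_no_pm (p : ℕ) [Fact p.Prime] [CharP F p] (f : F[X]) (hm : f.Monic)
    (h0 : f.coeff 0 ≠ 0) (hd : dual (RingHom.id F) f = f) (h1 : f.eval 1 ≠ 0)
    (hm1 : f.eval (-1) ≠ 0) : Good p f := by
  classical
  obtain ⟨M, hMc, N, hN, hNp, hMN⟩ :=
    Cfsg.Agent.Lib.Helper40.exists_matrix_charpoly p f.natDegree f hm rfl h0
  obtain ⟨M', hM'⟩ : ∃ M' : Matrix (Fin f.natDegree) (Fin f.natDegree) F, M' = M ^ (N - 1) :=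
    ⟨_, rfl⟩
  have hMM' : M * M' = 1 := by rw [hM', ← pow_succ', Nat.sub_add_cancel hN, hMN]
  have hM'M : M' * M = 1 := mul_eq_one_comm.mp hMM'
  have hc' : M'ᵀ.charpoly = M.charpoly := by
    rw [Matrix.charpoly_transpose, charpoly_inv_eq M M' hMM', hMc]
    have h := hd
    unfold dual at h
    simpa using h
  have hNF : (N : F) ≠ 0 := Cfsg.Agent.Lib.Helper40.natCast_ne_zero_of_coprime p N hNp
  have hsM := Cfsg.Agent.Lib.Helper40.isSemisimple_of_pow_eq_one M N hNF hMN
  have hM'N : M'ᵀ ^ N = 1 := by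
    rw [← transpose_pow, hM', ← pow_mul, mul_comm, pow_mul, hMN, one_pow, transpose_one]
  have hsM' := Cfsg.Agent.Lib.Helper40.isSemisimple_of_pow_eq_one M'ᵀ N hNF hM'N
  obtain ⟨e, he⟩ := Cfsg.Agent.Lib.Helper40.exists_similar_of_charpoly_eq M M'ᵀ hsM hsM' hc'.symm
  obtain ⟨x, hx⟩ : ∃ x : Matrix (Fin f.natDegree) (Fin f.natDegree) F,
      x = LinearMap.toMatrix' (e : (Fin f.natDegree → F) →ₗ[F] (Fin f.natDegree → F)) := ⟨_, rfl⟩
  obtain ⟨x', hx'⟩ : ∃ x' : Matrix (Fin f.natDegree) (Fin f.natDegree) F,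
      x' = LinearMap.toMatrix' (e.symm : (Fin f.natDegree → F) →ₗ[F] (Fin f.natDegree → F)) :=
    ⟨_, rfl⟩
  have hxx' : x * x' = 1 := by
    rw [hx, hx', ← LinearMap.toMatrix'_comp]
    simp
  have hxM : x * M = M'ᵀ * x := by
    apply Matrix.toLin'.injective
    apply LinearMap.ext
    intro v
    rw [hx]
    simp only [Matrix.toLin'_mul, Matrix.toLin'_toMatrix', LinearMap.comp_apply]
    exact he v
  have hinv : Mᵀ * x * M = x := by
    calc Mᵀ * x * M = Mᵀ * (x * M) := by rw [mul_assoc]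
      _ = Mᵀ * (M'ᵀ * x) := by rw [hxM]
      _ = (M' * M)ᵀ * x := by rw [transpose_mul, mul_assoc]
      _ = x := by rw [hM'M, transpose_one, one_mul]
  have hdet1 : (1 - M).det ≠ 0 := by
    have := Matrix.eval_charpoly M 1
    rw [hMc, map_one] at this
    rw [← this]
    exact h1
  have hdet2 : (-1 - M).det ≠ 0 := by
    have := Matrix.eval_charpoly M (-1)
    rw [hMc, map_neg, map_one] at this
    rw [← this]
    exact hm1
  have hD : (M - M').det ≠ 0 := by
    have e1 : (M - M') * M = (1 - M) * (-1 - M) := by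
      rw [sub_mul, hM'M]
      noncomm_ring
    have e2 := congrArg Matrix.det e1
    rw [det_mul, det_mul] at e2
    intro h
    rw [h, zero_mul] at e2
    exact mul_ne_zero hdet1 hdet2 e2.symm
  obtain ⟨δ, hδ⟩ : ∃ δ : Matrix (Fin f.natDegree) (Fin f.natDegree) F, (M - M') * δ = 1 :=
    ⟨(M - M')⁻¹, Matrix.mul_nonsing_inv _ (Ne.isUnit hD)⟩
  obtain ⟨y, y', hyy', halt, hyinv⟩ := exists_alt_invariant M M' x x' δ hMM' hxx' hinv hδ
  exact ⟨Fin f.natDegree, inferInstance, inferInstance, M, y, y', hMc, ⟨N, hN, hNp, hMN⟩, hyy',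
    halt, hyinv⟩

end exist

section sp

variable {F : Type*} [Field F]

/-- A good polynomial is the characteristic polynomial of an element of the symplectic group of
order prime to `p`. -/
theorem sp_of_good {p : ℕ} {f : F[X]} (h : Good p f) :
    ∃ m : ℕ, f.natDegree = 2 * m ∧ ∃ S : Matrix.symplecticGroup (Fin m) F,
      S.1.charpoly = f ∧ ∃ N : ℕ, 0 < N ∧ N.Coprime p ∧ S ^ N = 1 := by
  classical
  obtain ⟨ι, _, _, M, y, y', hc, ⟨N, hN, hNp, hMN⟩, hyy', halt, hinv⟩ := h
  have hy'y : y' * y = 1 := mul_eq_one_comm.mp hyy'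
  obtain ⟨B, hBdef⟩ : ∃ B : LinearMap.BilinForm F (ι → F), B = Matrix.toBilin' y := ⟨_, rfl⟩
  have hBapp : ∀ u v, B u v = u ⬝ᵥ y *ᵥ v := fun u v => by
    rw [hBdef]; exact Matrix.toBilin'_apply' y u v
  have hB : B.IsAlt := fun v => by rw [hBapp]; exact halt v
  have hker : LinearMap.ker B = ⊥ := by
    rw [eq_bot_iff]
    intro u hu
    rw [LinearMap.mem_ker] at hu
    have h1 : ∀ v, (u ᵥ* y) ⬝ᵥ v = 0 := by
      intro v
      rw [← Matrix.dotProduct_mulVec, ← hBapp, hu]
      rfl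
    have h2 : u ᵥ* y = 0 := dotProduct_eq_zero _ h1
    have h3 : u = 0 := by
      have := congrArg (fun w => w ᵥ* y') h2
      simp only [Matrix.vecMul_vecMul, hyy', Matrix.vecMul_one, Matrix.zero_vecMul] at this
      exact this
    rw [h3]
    exact Submodule.zero_mem _
  obtain ⟨m, k, b, hef, hee, hff, hrad⟩ := Cfsg.Agent.Lib.Helper99.alt_basis B hB
  have hk := finrank_ker_of_basis B hB b hef hee hff hrad
  rw [hker, finrank_bot] at hk
  subst hk
  obtain ⟨b', hb'l, hb'r⟩ : ∃ b' : Module.Basis (Fin m ⊕ Fin m) F (ι → F),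
      (∀ i, b' (Sum.inl i) = b (Sum.inl (Sum.inr i))) ∧
      (∀ i, b' (Sum.inr i) = b (Sum.inl (Sum.inl i))) := by
    refine ⟨b.reindex ((Equiv.sumEmpty _ _).trans (Equiv.sumComm _ _)), ?_, ?_⟩
    · intro i; simp
    · intro i; simp
  have hJ : LinearMap.BilinForm.toMatrix b' B = Matrix.J (Fin m) F := by
    ext i j
    rw [LinearMap.BilinForm.toMatrix_apply]
    rcases i with i | i <;> rcases j with j | j
    · rw [hb'l, hb'l, hff]; simp [Matrix.J]
    · rw [hb'l, hb'r, ← hB.neg_eq, hef]; simp [Matrix.J, Matrix.one_apply, eq_comm]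
    · rw [hb'r, hb'l, hef]; simp [Matrix.J, Matrix.one_apply]
    · rw [hb'r, hb'r, hee]; simp [Matrix.J]
  obtain ⟨L, hL⟩ : ∃ L : (ι → F) →ₗ[F] (ι → F), L = Matrix.toLin' M := ⟨_, rfl⟩
  obtain ⟨S, hSdef⟩ : ∃ S : Matrix (Fin m ⊕ Fin m) (Fin m ⊕ Fin m) F,
      S = LinearMap.toMatrix b' b' L := ⟨_, rfl⟩
  have hcomp : B.comp L L = B := by
    rw [hBdef, hL, Matrix.toBilin'_comp, hinv]
  have hS : S ∈ Matrix.symplecticGroup (Fin m) F := by
    rw [SymplecticGroup.mem_iff', ← hJ, hSdef]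
    have := LinearMap.BilinForm.toMatrix_comp b' b' B L L
    rw [hcomp] at this
    exact this.symm
  have hdeg : f.natDegree = 2 * m := by
    rw [← hc, Matrix.charpoly_natDegree_eq_dim]
    have := Module.finrank_eq_card_basis b'
    rw [Module.finrank_fintype_fun_eq_card] at this
    rw [this]
    simp only [Fintype.card_sum, Fintype.card_fin]
    omega
  refine ⟨m, hdeg, ⟨S, hS⟩, ?_, N, hN, hNp, ?_⟩
  · show S.charpoly = f
    rw [← hc, hSdef, LinearMap.charpoly_toMatrix, hL, Matrix.charpoly_toLin']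
  · apply Subtype.ext
    rw [SubmonoidClass.coe_pow]
    show S ^ N = 1
    have h1 : S = LinearMap.toMatrixAlgEquiv b' (Matrix.toLinAlgEquiv' M) := by
      rw [hSdef, hL]; rfl
    rw [h1, ← map_pow, ← map_pow, hMN, map_one, map_one]

end sp

section nec

variable {F : Type*} [Field F] {m : ℕ}

/-- The characteristic polynomial of a symplectic matrix is self-dual. -/
theorem dual_charpoly_sp (g : Matrix.symplecticGroup (Fin m) F) :
    dual (RingHom.id F) g.1.charpoly = g.1.charpoly := by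
  have h1 : g.1 * (g⁻¹).1 = 1 := by
    have := congrArg Subtype.val (mul_inv_cancel g)
    exact this
  have h2 : (g⁻¹).1.charpoly = g.1.charpoly := by
    rw [SymplecticGroup.coe_inv, Matrix.charpoly_mul_comm, ← mul_assoc]
    have : Matrix.J (Fin m) F * -Matrix.J (Fin m) F = 1 := by
      rw [mul_neg, Matrix.J_squared, neg_neg]
    rw [this, one_mul, Matrix.charpoly_transpose]
  have h3 := charpoly_inv_eq g.1 (g⁻¹).1 h1
  rw [h2] at h3
  unfold dual
  simpa using h3.symm

/-- The characteristic polynomial of a symplectic matrix has constant term `1`. -/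
theorem coeff_zero_charpoly_sp (g : Matrix.symplecticGroup (Fin m) F) :
    g.1.charpoly.coeff 0 = 1 := by
  have h1 := Matrix.det_eq_sign_charpoly_coeff g.1
  rw [SymplecticGroup.det_eq_one g.2] at h1
  have h2 : ((-1 : F)) ^ Fintype.card (Fin m ⊕ Fin m) = 1 := by
    rw [Fintype.card_sum, Fintype.card_fin]
    exact Even.neg_one_pow (Even.add_self m)
  rw [h2, one_mul] at h1
  exact h1.symm

theorem dual_X_add_one : dual (RingHom.id F) (X - C (-1) : F[X]) = X - C (-1) := by
  have hdeg : (X - C (-1) : F[X]).natDegree = 1 := natDegree_X_sub_C (-1)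
  rw [dual_eq_self_iff, hdeg]
  intro i hi
  have h0 : (X - C (-1) : F[X]).coeff 0 = 1 := by simp
  have h1 : (X - C (-1) : F[X]).coeff 1 = 1 := by
    rw [coeff_sub, coeff_X_one, coeff_C_succ, sub_zero]
  interval_cases i
  · rw [h0, Nat.sub_zero, h1, map_one, inv_one, one_mul]
  · rw [h1, Nat.sub_self, h0, map_one, inv_one, one_mul]

end nec

section exist2

variable {F : Type*} [Field F] [Fintype F]

/-- Every self-dual monic polynomial of degree `2n` with constant term `1` is good. -/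
theorem good_of_selfdual (p : ℕ) [Fact p.Prime] [CharP F p] (n : ℕ) (f : F[X]) (hm : f.Monic)
    (hdeg : f.natDegree = 2 * n) (hd : dual (RingHom.id F) f = f) (h0 : f.coeff 0 = 1) :
    Good p f := by
  classical
  have hp : p.Prime := Fact.out
  have hf0 : f ≠ 0 := hm.ne_zero
  obtain ⟨g, hfg, hg1⟩ := Polynomial.exists_eq_pow_rootMultiplicity_mul_and_not_dvd f hf0 1
  obtain ⟨a, ha⟩ : ∃ a : ℕ, a = f.rootMultiplicity 1 := ⟨_, rfl⟩
  rw [← ha] at hfg
  have hg0 : g ≠ 0 := by
    rintro rfl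
    rw [mul_zero] at hfg
    exact hf0 hfg
  obtain ⟨f₀, hgf, hf₀1⟩ := Polynomial.exists_eq_pow_rootMultiplicity_mul_and_not_dvd g hg0 (-1)
  obtain ⟨b, hb⟩ : ∃ b : ℕ, b = g.rootMultiplicity (-1) := ⟨_, rfl⟩
  rw [← hb] at hgf
  have hA : ((X - C (1 : F)) ^ a).Monic := (monic_X_sub_C 1).pow a
  have hB : ((X - C (-1 : F)) ^ b).Monic := (monic_X_sub_C (-1)).pow b
  have hgm : g.Monic := by
    rw [hfg] at hm
    exact hA.of_mul_monic_left hm
  have hf₀m : f₀.Monic := by
    rw [hgf] at hgm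
    exact hB.of_mul_monic_left hgm
  -- evaluation at `0`
  have hev : f.eval 0 = (-1) ^ a * f₀.eval 0 := by
    rw [hfg, hgf]
    simp
  rw [coeff_zero_eq_eval_zero, hev] at h0
  have hf₀0 : f₀.coeff 0 ≠ 0 := by
    rw [coeff_zero_eq_eval_zero]
    intro h
    rw [h, mul_zero] at h0
    exact zero_ne_one h0
  -- self-duality of `f₀`
  have hf₀d : dual (RingHom.id F) f₀ = f₀ := by
    have h1 := hd
    rw [hfg, hgf, dual_mul, dual_mul, dual_pow, dual_pow, dual_X_sub_one, dual_X_add_one] at h1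
    have h2 := mul_left_cancel₀ hA.ne_zero h1
    exact mul_left_cancel₀ hB.ne_zero h2
  -- no roots `±1`
  have hr1 : f₀.eval 1 ≠ 0 := by
    intro h
    apply hg1
    rw [hgf]
    exact Dvd.dvd.mul_left (dvd_iff_isRoot.mpr h) _
  have hrm1 : f₀.eval (-1) ≠ 0 := by
    intro h
    exact hf₀1 (dvd_iff_isRoot.mpr h)
  have hG₀ := good_of_no_pm p f₀ hf₀m hf₀0 hf₀d hr1 hrm1
  obtain ⟨m₀, hdeg₀, S, hS, -⟩ := sp_of_good hG₀
  have hS0 := coeff_zero_charpoly_sp S
  rw [hS, coeff_zero_eq_eval_zero] at hS0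
  rw [hS0, mul_one] at h0
  -- degrees
  have hdegf : a + b + 2 * m₀ = 2 * n := by
    rw [← hdeg, ← hdeg₀, hfg, hgf, hA.natDegree_mul (hB.mul hf₀m), hB.natDegree_mul hf₀m,
      (monic_X_sub_C (1 : F)).natDegree_pow, (monic_X_sub_C (-1 : F)).natDegree_pow,
      natDegree_X_sub_C, natDegree_X_sub_C]
    ring
  have hab : Even a ∧ Even b ∧ (b = 0 ∨ Nat.Coprime 2 p) := by
    by_cases hp2 : p = 2
    · have h11 : (-1 : F) = 1 := by
        subst hp2
        exact CharTwo.neg_eq 1
      have hb0 : b = 0 := by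
        by_contra hne
        apply hg1
        rw [hgf, h11]
        exact Dvd.dvd.mul_right (dvd_pow_self _ hne) _
      refine ⟨?_, ?_, Or.inl hb0⟩
      · rw [Nat.even_iff]; omega
      · rw [hb0]; exact Even.zero
    · have hcop : Nat.Coprime 2 p := by
        rw [Nat.coprime_primes Nat.prime_two hp]
        exact fun h => hp2 h.symm
      have h11 : (-1 : F) ≠ 1 := by
        intro h
        have h2 : ((2 : ℕ) : F) = 0 := by
          have : (1 : F) + 1 = 0 := by
            nth_rewrite 1 [← h]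
            exact neg_add_cancel 1
          rw [← this]
          norm_num
        exact Cfsg.Agent.Lib.Helper40.natCast_ne_zero_of_coprime p 2 hcop h2
      have hae : Even a := (neg_one_pow_eq_one_iff_even h11).mp h0
      refine ⟨hae, ?_, Or.inr hcop⟩
      rw [Nat.even_iff] at hae ⊢
      omega
  obtain ⟨⟨a', ha'⟩, ⟨b', hb'⟩, hbc⟩ := hab
  have hGa : Good p ((X - C (1 : F)) ^ a) := by
    rw [ha', ← two_mul, pow_mul]
    exact (good_X_sub_one_sq p).pow a'
  have hGb : Good p ((X - C (-1 : F)) ^ b) := by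
    rcases hbc with h | h
    · rw [h, pow_zero]; exact good_one p
    · rw [hb', ← two_mul, pow_mul]
      exact (good_X_add_one_sq p h).pow b'
  rw [hfg, hgf]
  exact hGa.mul (hGb.mul hG₀)

/-- Every self-dual monic polynomial of degree `2n` with constant term `1` is the characteristic
polynomial of an element of `Sp_{2n}(F)` of order prime to the characteristic. -/
theorem exists_sp_charpoly (p : ℕ) [Fact p.Prime] [CharP F p] (n : ℕ) (f : F[X]) (hm : f.Monic)
    (hdeg : f.natDegree = 2 * n) (hd : dual (RingHom.id F) f = f) (h0 : f.coeff 0 = 1) :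
    ∃ S : Matrix.symplecticGroup (Fin n) F, S.1.charpoly = f ∧
      ∃ N : ℕ, 0 < N ∧ N.Coprime p ∧ S ^ N = 1 := by
  obtain ⟨m, hdeg', h⟩ := sp_of_good (good_of_selfdual p n f hm hdeg hd h0)
  have hmn : m = n := by omega
  subst hmn
  exact h

end exist2

end Cfsg.Agent.Lib.Helper40.SpExist
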