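import Mathlib
import Cfsg.Agent.Lib.Helper40.SpExist

/-!
# Counting semisimple classes of the symplectic group

The semisimple classes of `Sp_{2n}(F)` correspond to the monic self-dual polynomials of degree `2n`
with constant term `1`; there are `q^n` of them.
-/

set_option autoImplicit false
set_option linter.unusedSectionVars false
set_option linter.style.haveILetI false

namespace Cfsg.Agent.Lib.Helper40.SpExist

open Matrix Polynomial Cfsg.Agent.Lib.Helper40.RingNorm Cfsg.Agent.Lib.Helper40.DualPoly
  Cfsg.Agent.Lib.Helper40.SympWall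

section classes

variable {F : Type*} [Field F] {G : Type*} [Group G] {ι : Type*} [Fintype ι] [DecidableEq ι]

/-- Counting classes through characteristic polynomials (predicate version, general index). -/
theorem card_classes_eq_pred' (mat : G → Matrix ι ι F) (good : G → Prop)
    (Q : F[X] → Prop)
    (h1 : ∀ a b : G, IsConj a b → (mat a).charpoly = (mat b).charpoly)
    (h2 : ∀ a b : G, good a → good b → (mat a).charpoly = (mat b).charpoly → IsConj a b)
    (h3 : ∀ a : G, good a → Q (mat a).charpoly)
    (h4 : ∀ χ : F[X], χ.Monic → χ.natDegree = Fintype.card ι → Q χ →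
      ∃ a, good a ∧ (mat a).charpoly = χ) :
    Nat.card {c : ConjClasses G // ∃ g : G, ConjClasses.mk g = c ∧ good g} =
      Nat.card {a : {χ : F[X] // χ.Monic ∧ χ.natDegree = Fintype.card ι} // Q a.1} := by
  classical
  let Φ : {c : ConjClasses G // ∃ g : G, ConjClasses.mk g = c ∧ good g} →
      {a : {χ : F[X] // χ.Monic ∧ χ.natDegree = Fintype.card ι} // Q a.1} := fun c =>
    ⟨⟨(mat (Classical.choose c.2)).charpoly, Matrix.charpoly_monic _, by simp⟩,
      h3 _ (Classical.choose_spec c.2).2⟩
  apply Nat.card_congr (Equiv.ofBijective Φ ⟨?_, ?_⟩)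
  · intro c1 c2 h
    have hcp : (mat (Classical.choose c1.2)).charpoly = (mat (Classical.choose c2.2)).charpoly := by
      have := congrArg (fun a => a.1.1) h
      exact this
    have hconj := h2 _ _ (Classical.choose_spec c1.2).2 (Classical.choose_spec c2.2).2 hcp
    apply Subtype.ext
    rw [← (Classical.choose_spec c1.2).1, ← (Classical.choose_spec c2.2).1]
    exact ConjClasses.mk_eq_mk_iff_isConj.2 hconj
  · rintro ⟨⟨χ, hχ, hdeg⟩, hs⟩
    obtain ⟨a, ha, hcp⟩ := h4 χ hχ hdeg hs
    let c : {c : ConjClasses G // ∃ g : G, ConjClasses.mk g = c ∧ good g} :=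
      ⟨ConjClasses.mk a, a, rfl, ha⟩
    refine ⟨c, ?_⟩
    apply Subtype.ext
    apply Subtype.ext
    change (mat (Classical.choose c.2)).charpoly = χ
    rw [← hcp]
    apply h1
    exact ConjClasses.mk_eq_mk_iff_isConj.1 (Classical.choose_spec c.2).1

end classes

section count

variable {K : Type*} [Field K] (σ : K →+* K)

/-- Monic self-dual polynomials of degree `k + 1` with constant term `e` correspond to the
"twisted symmetric" coefficient vectors. -/
theorem card_selfdual_eq (k : ℕ) (e : K) (he : e * e = 1) (hσe : σ e = e) :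
    Nat.card {a : {χ : K[X] // χ.Monic ∧ χ.natDegree = k + 1} //
      dual σ a.1 = a.1 ∧ a.1.coeff 0 = e} =
    Nat.card {t : Fin k → K // ∀ j, t j = e * σ (t (Fin.rev j))} := by
  classical
  apply Nat.card_congr
  let e1 : {a : {χ : K[X] // χ.Monic ∧ χ.natDegree = k + 1} //
      dual σ a.1 = a.1 ∧ a.1.coeff 0 = e} ≃
      {c : Fin (k + 1) → K // c 0 = e ∧ ∀ j, Fin.tail c j = e * σ (Fin.tail c (Fin.rev j))} :=
    (monicCoeffEquiv (k + 1)).subtypeEquiv (fun a => by
      rw [monicCoeffEquiv_apply]
      simp only [Fin.val_zero]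
      constructor
      · rintro ⟨h1, h2⟩
        refine ⟨h2, ?_⟩
        intro j
        unfold Fin.tail
        rw [monicCoeffEquiv_apply, monicCoeffEquiv_apply]
        exact (selfdual_iff_tail σ k e he hσe a.1 a.2.1 a.2.2 h2).mp h1 j
      · rintro ⟨h2, h1⟩
        refine ⟨?_, h2⟩
        rw [selfdual_iff_tail σ k e he hσe a.1 a.2.1 a.2.2 h2]
        intro j
        have := h1 j
        unfold Fin.tail at this
        rw [monicCoeffEquiv_apply, monicCoeffEquiv_apply] at this
        exact this)
  let e2 : {c : Fin (k + 1) → K // c 0 = e ∧ ∀ j, Fin.tail c j = e * σ (Fin.tail c (Fin.rev j))} ≃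
      {t : Fin k → K // ∀ j, t j = e * σ (t (Fin.rev j))} :=
    { toFun := fun c => ⟨Fin.tail c.1, c.2.2⟩
      invFun := fun t => ⟨Fin.cons e t.1, by
        refine ⟨by simp, ?_⟩
        rw [Fin.tail_cons]
        exact t.2⟩
      left_inv := fun c => by
        apply Subtype.ext
        show Fin.cons e (Fin.tail c.1) = c.1
        have h1 : (Fin.cons (c.1 0) (Fin.tail c.1) : Fin (k + 1) → K) = c.1 :=
          Fin.cons_self_tail c.1
        rw [c.2.1] at h1
        exact h1
      right_inv := fun t => by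
        apply Subtype.ext
        show Fin.tail (Fin.cons e t.1 : Fin (k + 1) → K) = t.1
        exact Fin.tail_cons _ _ }
  exact e1.trans e2

/-- Symmetric vectors of odd length `2n + 1` are determined by their first `n + 1` entries. -/
theorem card_symm_fun [Fintype K] (n : ℕ) :
    Nat.card {t : Fin (2 * n + 1) → K // ∀ j, t j = t (Fin.rev j)} = Fintype.card K ^ (n + 1) := by
  classical
  have h1 : Nat.card (Fin (n + 1) → K) = Fintype.card K ^ (n + 1) := by
    rw [Nat.card_fun, Nat.card_fin, Nat.card_eq_fintype_card]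
  rw [← h1]
  apply Nat.card_congr
  refine
    { toFun := fun t i => t.1 ⟨i.1, by omega⟩
      invFun := fun s => ⟨fun j => s ⟨min j.1 (2 * n - j.1), by omega⟩, ?_⟩
      left_inv := ?_
      right_inv := ?_ }
  · intro j
    have hj := j.2
    have h : (⟨min j.1 (2 * n - j.1), by omega⟩ : Fin (n + 1)) =
        ⟨min (Fin.rev j).1 (2 * n - (Fin.rev j).1), by rw [Fin.val_rev]; omega⟩ := by
      apply Fin.ext
      show min j.1 (2 * n - j.1) = min (Fin.rev j).1 (2 * n - (Fin.rev j).1)
      rw [Fin.val_rev]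
      omega
    exact congrArg s h
  · rintro ⟨t, ht⟩
    apply Subtype.ext
    funext j
    show t ⟨min j.1 (2 * n - j.1), _⟩ = t j
    rcases Nat.le_total j.1 (2 * n - j.1) with h | h
    · congr 1
      apply Fin.ext
      show min j.1 (2 * n - j.1) = j.1
      omega
    · rw [ht j]
      congr 1
      apply Fin.ext
      show min j.1 (2 * n - j.1) = (Fin.rev j).1
      rw [Fin.val_rev]
      omega
  · intro s
    funext i
    show s ⟨min i.1 (2 * n - i.1), _⟩ = s i
    congr 1
    apply Fin.ext
    show min i.1 (2 * n - i.1) = i.1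
    omega

/-- The number of monic palindromic polynomials of degree `2n` is `q^n`. -/
theorem card_palindromic [Fintype K] (d n : ℕ) (hd : d = 2 * n) :
    Nat.card {a : {χ : K[X] // χ.Monic ∧ χ.natDegree = d} //
      dual (RingHom.id K) a.1 = a.1 ∧ a.1.coeff 0 = 1} = Fintype.card K ^ n := by
  classical
  rcases Nat.eq_zero_or_pos n with rfl | hn
  · subst hd
    rw [pow_zero, Nat.card_eq_one_iff_unique]
    constructor
    · constructor
      rintro ⟨⟨a, ha, hda⟩, -⟩ ⟨⟨b, hb, hdb⟩, -⟩
      apply Subtype.ext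
      apply Subtype.ext
      show a = b
      rw [Polynomial.eq_one_of_monic_natDegree_zero ha hda,
        Polynomial.eq_one_of_monic_natDegree_zero hb hdb]
    · exact ⟨⟨⟨1, monic_one, natDegree_one⟩, dual_one _, coeff_one_zero⟩⟩
  · obtain ⟨n', rfl⟩ : ∃ n', n = n' + 1 := ⟨n - 1, by omega⟩
    have hd' : d = (2 * n' + 1) + 1 := by omega
    subst hd'
    rw [card_selfdual_eq (RingHom.id K) (2 * n' + 1) 1 (one_mul 1) rfl, ← card_symm_fun n']
    apply Nat.card_congr
    refine Equiv.subtypeEquivRight (fun t => ?_)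
    simp

end count

section main

variable {F : Type*} [Field F] [Fintype F]

/-- The number of semisimple classes of `Sp_{2n}(q)` is `q^n`. -/
theorem card_semisimple_classes_Sp (p : ℕ) [Fact p.Prime] [CharP F p] (n : ℕ) :
    Nat.card {c : ConjClasses ↥(Matrix.symplecticGroup (Fin n) F) //
      ∃ g : ↥(Matrix.symplecticGroup (Fin n) F), ConjClasses.mk g = c ∧ (orderOf g).Coprime p} =
      Fintype.card F ^ n := by
  classical
  have hcard : Fintype.card (Fin n ⊕ Fin n) = 2 * n := by
    rw [Fintype.card_sum, Fintype.card_fin]; omega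
  rw [card_classes_eq_pred'
    (fun g : ↥(Matrix.symplecticGroup (Fin n) F) => (g.1 : Matrix (Fin n ⊕ Fin n) (Fin n ⊕ Fin n) F))
    (fun g => (orderOf g).Coprime p)
    (fun χ => dual (RingHom.id F) χ = χ ∧ χ.coeff 0 = 1) ?_ ?_ ?_ ?_]
  · exact card_palindromic _ n hcard
  · intro a b hab
    obtain ⟨c, rfl⟩ := isConj_iff.1 hab
    symm
    show (c.1 * a.1 * (c⁻¹).1).charpoly = a.1.charpoly
    rw [Matrix.charpoly_mul_comm, ← mul_assoc]
    have h1 : (c⁻¹).1 * c.1 = 1 := by
      have := congrArg Subtype.val (inv_mul_cancel c)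
      exact this
    rw [h1, one_mul]
  · intro a b ha hb hcp
    exact sp_conj_of_charpoly a b (orderOf a) (orderOf b)
      (Cfsg.Agent.Lib.Helper40.natCast_ne_zero_of_coprime p _ ha)
      (Cfsg.Agent.Lib.Helper40.natCast_ne_zero_of_coprime p _ hb)
      (pow_orderOf_eq_one a) (pow_orderOf_eq_one b) hcp
  · intro a _
    exact ⟨dual_charpoly_sp a, coeff_zero_charpoly_sp a⟩
  · rintro χ hχ hdeg ⟨hdual, h0⟩
    rw [hcard] at hdeg
    obtain ⟨S, hS, N, hN, hco, hSN⟩ := exists_sp_charpoly p n χ hχ hdeg hdual h0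
    exact ⟨S, Nat.Coprime.coprime_dvd_left (orderOf_dvd_of_pow_eq_one hSN) hco, hS⟩

end main

end Cfsg.Agent.Lib.Helper40.SpExist
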