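import Mathlib
import Cfsg.Agent.Lib.Helper40.SpClasses
import Cfsg.Agent.Lib.Helper40.GUPrimeOrder

/-!
# Classes of elements of odd prime order in `Sp_{2m}(q)`

Classes of elements of odd prime order `r ≠ p` in `Sp_{2m}(q)` correspond to non-zero multiplicity
functions on the irreducible factors of the `r`-th cyclotomic polynomial over `F_q` which are
invariant under duality.
-/

set_option autoImplicit false
set_option linter.unusedSectionVars false
set_option linter.style.haveILetI false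

namespace Cfsg.Agent.Lib.Helper40.SpExist

open Matrix Polynomial UniqueFactorizationMonoid Cfsg.Agent.Lib.Helper40.PrimeOrderGL
  Cfsg.Agent.Lib.Helper40.DualPoly Cfsg.Agent.Lib.Helper40.SympWall
  Cfsg.Agent.Lib.Helper40.GUPrimeOrder

section transfer

variable {F : Type*} [Field F] [DecidableEq F] {ι : Type*} [Fintype ι] [DecidableEq ι]

/-- Reindexing a square matrix by `Fin`. -/
noncomputable def toFin (n : ℕ) (hn : Fintype.card ι = n) :
    Matrix ι ι F ≃ₐ[F] Matrix (Fin n) (Fin n) F :=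
  Matrix.reindexAlgEquiv F F ((Fintype.equivFin ι).trans (finCongr hn))

theorem toFin_charpoly (n : ℕ) (hn : Fintype.card ι = n) (M : Matrix ι ι F) :
    (toFin n hn M).charpoly = M.charpoly := by
  unfold toFin
  rw [Matrix.coe_reindexAlgEquiv, Matrix.charpoly_reindex]

theorem pow_eq_one_of_charpoly_dvd' (M : Matrix ι ι F) (N : ℕ) (hN : (N : F) ≠ 0)
    (hMN : M ^ N = 1) (r m : ℕ) (hdvd : M.charpoly ∣ (X ^ r - 1 : F[X]) ^ m) : M ^ r = 1 := by
  have h1 : (toFin (Fintype.card ι) rfl M) ^ N = 1 := by rw [← map_pow, hMN, map_one]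
  have hss := Cfsg.Agent.Lib.Helper40.isSemisimple_of_pow_eq_one _ N hN h1
  have h2 := pow_eq_one_of_charpoly_dvd (toFin (Fintype.card ι) rfl M) hss r m
    (by rw [toFin_charpoly]; exact hdvd)
  apply (toFin (F := F) (Fintype.card ι) rfl).injective
  rw [map_pow, h2, map_one]

theorem charpoly_eq_chi' {S : Finset F[X]} {r i : ℕ} (hS : Factors S r i) (M : Matrix ι ι F)
    (hM : M ^ r = 1) (n : ℕ) (hn : Fintype.card ι = n) :
    ∃ a : S → ℕ, i * ∑ π, a π ≤ n ∧ M.charpoly = chi S a (n - i * ∑ π, a π) := by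
  have h1 : (toFin n hn M) ^ r = 1 := by rw [← map_pow, hM, map_one]
  obtain ⟨a, ha, hχ⟩ := charpoly_eq_chi hS (toFin n hn M) h1
  exact ⟨a, ha, by rw [← hχ, toFin_charpoly]⟩

theorem eq_one_of_charpoly' (M : Matrix ι ι F) (N : ℕ) (hN : (N : F) ≠ 0) (hMN : M ^ N = 1)
    (n : ℕ) (hn : Fintype.card ι = n) (hχ : M.charpoly = (X - C 1) ^ n) : M = 1 := by
  have h1 : (toFin n hn M) ^ N = 1 := by rw [← map_pow, hMN, map_one]
  have hss := Cfsg.Agent.Lib.Helper40.isSemisimple_of_pow_eq_one _ N hN h1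
  have h2 := eq_one_of_charpoly (toFin n hn M) hss (by rw [toFin_charpoly]; exact hχ)
  apply (toFin (F := F) n hn).injective
  rw [h2, map_one]

end transfer

section SpGeneric

variable {F : Type*} [Field F] [Fintype F] [DecidableEq F] {S : Finset F[X]} {r b : ℕ}

theorem eval_one_ne (hS : Factors S r b) (π : F[X]) (hπ : π ∈ S) : π.eval 1 ≠ 0 := by
  intro h
  have hd : (X - C 1 : F[X]) ∣ π := dvd_iff_isRoot.mpr h
  have h2 := eq_of_monic_of_associated (monic_X_sub_C 1) (hS.monic π hπ)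
    ((irreducible_X_sub_C 1).associated_of_dvd (hS.irred π hπ) hd)
  exact hS.notMem (h2 ▸ hπ)

theorem eval_neg_one_ne (hS : Factors S r b) (hr : Odd r) (π : F[X]) (hπ : π ∈ S) :
    π.eval (-1) ≠ 0 := by
  intro h
  have h1 : (X ^ r - 1 : F[X]).eval (-1) = 0 := by
    obtain ⟨c, hc⟩ := hS.dvd π hπ
    rw [hc, eval_mul, h, zero_mul]
  rw [eval_sub, eval_pow, eval_X, eval_one, hr.neg_one_pow] at h1
  have h2 : (-1 : F) = 1 := sub_eq_zero.mp h1
  rw [h2] at h
  exact eval_one_ne hS π hπ h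

/-- The polynomial attached to a duality-invariant multiplicity function is good. -/
theorem good_chi (p : ℕ) [Fact p.Prime] [CharP F p] (hS : Factors S r b) (hr : r.Prime)
    (hr2 : r ≠ 2) (dg : S → S) (hdg : ∀ π : S, (dg π : F[X]) = dual (RingHom.id F) π.1)
    (a : S → ℕ) (ha : ∀ π, a (dg π) = a π) (k m : ℕ) (hk : k + b * ∑ π, a π = 2 * m) :
    Good p (chi S a k) := by
  classical
  have hdd : ∀ π, dg (dg π) = π := by
    intro π
    apply Subtype.ext
    rw [hdg, hdg, dual_dual (RingHom.id F) (fun _ => rfl) π.1 (hS.monic π π.2)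
      (Factors.coeff_zero_ne hS hr.pos π π.2)]
  have hf₀ : chi S a 0 = ∏ π : S, π.1 ^ a π := by unfold chi; rw [pow_zero, one_mul]
  have hchi : chi S a k = (X - C 1) ^ k * chi S a 0 := by unfold chi; rw [pow_zero, one_mul]
  have hmon := monic_chi hS a 0
  have hev : ∀ x : F, (∀ π ∈ S, π.eval x ≠ 0) → (chi S a 0).eval x ≠ 0 := by
    intro x hx
    rw [hf₀, eval_prod]
    apply Finset.prod_ne_zero_iff.mpr
    intro π _
    rw [eval_pow]
    exact pow_ne_zero _ (hx π.1 π.2)
  have h0 : (chi S a 0).coeff 0 ≠ 0 := by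
    rw [coeff_zero_eq_eval_zero]
    apply hev
    intro π hπ
    rw [← coeff_zero_eq_eval_zero]
    exact Factors.coeff_zero_ne hS hr.pos π hπ
  have h1 : (chi S a 0).eval 1 ≠ 0 := hev 1 (eval_one_ne hS)
  have hm1 : (chi S a 0).eval (-1) ≠ 0 := hev (-1) (eval_neg_one_ne hS (hr.odd_of_ne_two hr2))
  have hd : dual (RingHom.id F) (chi S a 0) = chi S a 0 := by
    rw [dual_chi (RingHom.id F) dg hdd hdg]
    congr 1
    funext π
    exact ha π
  have hG₀ := good_of_no_pm p (chi S a 0) hmon h0 hd h1 hm1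
  obtain ⟨m₀, hdeg₀, -⟩ := sp_of_good hG₀
  rw [natDegree_chi hS, zero_add] at hdeg₀
  obtain ⟨k', hk'⟩ : ∃ k', k = 2 * k' := ⟨m - m₀, by omega⟩
  rw [hchi, hk', pow_mul]
  exact ((good_X_sub_one_sq p).pow k').mul hG₀

/-- Classes of elements of odd prime order `r` in `Sp_{2m}(q)` correspond to non-zero
duality-invariant multiplicity functions. -/
theorem card_classes_Sp_generic (p : ℕ) [Fact p.Prime] [CharP F p]
    (hS : Factors S r b) (hr : r.Prime) (hr2 : r ≠ 2) (hrF : (r : F) ≠ 0) (m : ℕ)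
    (dg : S → S) (hdg : ∀ π : S, (dg π : F[X]) = dual (RingHom.id F) π.1) :
    Nat.card {C : ConjClasses ↥(Matrix.symplecticGroup (Fin m) F) //
      ∃ g : ↥(Matrix.symplecticGroup (Fin m) F), ConjClasses.mk g = C ∧ orderOf g = r} =
      Nat.card {a : S → ℕ // a ≠ 0 ∧ (∀ π, a (dg π) = a π) ∧ b * ∑ π, a π ≤ 2 * m} := by
  classical
  have : Fact r.Prime := ⟨hr⟩
  have hcard : Fintype.card (Fin m ⊕ Fin m) = 2 * m := by
    rw [Fintype.card_sum, Fintype.card_fin]; omega
  have hdd : ∀ π, dg (dg π) = π := by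
    intro π
    apply Subtype.ext
    rw [hdg, hdg, dual_dual (RingHom.id F) (fun _ => rfl) π.1 (hS.monic π π.2)
      (Factors.coeff_zero_ne hS hr.pos π π.2)]
  have hex : ∀ a : {a : S → ℕ // a ≠ 0 ∧ (∀ π, a (dg π) = a π) ∧ b * ∑ π, a π ≤ 2 * m},
      ∃ g : ↥(Matrix.symplecticGroup (Fin m) F), g ^ r = 1 ∧
        g.1.charpoly = chi S a.1 (2 * m - b * ∑ π, a.1 π) := by
    intro a
    have hG := good_chi p hS hr hr2 dg hdg a.1 a.2.2.1 (2 * m - b * ∑ π, a.1 π) m
      (by have := a.2.2.2; omega)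
    obtain ⟨m', hdeg, g, hgc, N, hN, hco, hgN⟩ := sp_of_good hG
    rw [natDegree_chi hS] at hdeg
    have hm' : m' = m := by have := a.2.2.2; omega
    subst hm'
    refine ⟨g, ?_, hgc⟩
    have hgN' : g.1 ^ N = 1 := by
      have := congrArg Subtype.val hgN
      simpa using this
    have hdvd := chi_dvd hS a.1 (2 * m' - b * ∑ π, a.1 π)
    have hMr := pow_eq_one_of_charpoly_dvd' g.1 N
      (Cfsg.Agent.Lib.Helper40.natCast_ne_zero_of_coprime p N hco) hgN' r _ (hgc ▸ hdvd)
    apply Subtype.ext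
    rw [SubmonoidClass.coe_pow, hMr]
    rfl
  choose rep hrep1 hrep2 using hex
  let f : {a : S → ℕ // a ≠ 0 ∧ (∀ π, a (dg π) = a π) ∧ b * ∑ π, a π ≤ 2 * m} →
      ConjClasses ↥(Matrix.symplecticGroup (Fin m) F) := fun a => ConjClasses.mk (rep a)
  have hmat : ∀ g : ↥(Matrix.symplecticGroup (Fin m) F), g ^ r = 1 → g.1 ^ r = 1 := by
    intro g hg
    have h2 := congrArg Subtype.val hg
    simpa using h2
  have hconj : ∀ g h : ↥(Matrix.symplecticGroup (Fin m) F), IsConj g h →
      g.1.charpoly = h.1.charpoly := by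
    intro a b hab
    obtain ⟨c, rfl⟩ := isConj_iff.1 hab
    symm
    show (c.1 * a.1 * (c⁻¹).1).charpoly = a.1.charpoly
    rw [Matrix.charpoly_mul_comm, ← mul_assoc]
    have h1 : (c⁻¹).1 * c.1 = 1 := by
      have := congrArg Subtype.val (inv_mul_cancel c)
      exact this
    rw [h1, one_mul]
  have hfinj : Function.Injective f := by
    intro a a' hab
    have h1 := hconj _ _ (ConjClasses.mk_eq_mk_iff_isConj.1 hab)
    rw [hrep2, hrep2] at h1
    exact Subtype.ext (chi_inj hS _ _ _ _ h1)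
  have hrange : ∀ C, C ∈ Set.range f ↔
      ∃ g : ↥(Matrix.symplecticGroup (Fin m) F), ConjClasses.mk g = C ∧ orderOf g = r := by
    intro C
    constructor
    · rintro ⟨a, rfl⟩
      refine ⟨rep a, rfl, ?_⟩
      apply orderOf_eq_prime (hrep1 a)
      intro h1
      apply a.2.1
      have h2 := hrep2 a
      rw [h1] at h2
      have h3 : ((1 : ↥(Matrix.symplecticGroup (Fin m) F)).1).charpoly =
          chi S (0 : S → ℕ) (2 * m) := by
        show (1 : Matrix (Fin m ⊕ Fin m) (Fin m ⊕ Fin m) F).charpoly = _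
        rw [Matrix.charpoly_one, hcard]
        unfold chi
        simp
      rw [h3] at h2
      exact (chi_inj hS _ _ _ _ h2).symm
    · rintro ⟨g, rfl, hg⟩
      have hgr : g ^ r = 1 := by
        rw [← hg]
        exact pow_orderOf_eq_one g
      have hg1 : g ≠ 1 := by
        rintro rfl
        rw [orderOf_one] at hg
        exact hr.one_lt.ne hg
      obtain ⟨a, ha, hχ⟩ := charpoly_eq_chi' hS g.1 (hmat g hgr) (2 * m) hcard
      have ha0 : a ≠ 0 := by
        rintro rfl
        apply hg1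
        apply Subtype.ext
        apply eq_one_of_charpoly' g.1 r hrF (hmat g hgr) (2 * m) hcard
        rw [hχ]
        simp [chi]
      have hinv : ∀ π, a (dg π) = a π := by
        have h1 := dual_charpoly_sp g
        rw [hχ, dual_chi (RingHom.id F) dg hdd hdg] at h1
        have h2 := chi_inj hS _ _ _ _ h1
        intro π
        exact congrFun h2 π
      refine ⟨⟨a, ha0, hinv, ha⟩, ?_⟩
      show ConjClasses.mk (rep ⟨a, ha0, hinv, ha⟩) = ConjClasses.mk g
      rw [ConjClasses.mk_eq_mk_iff_isConj]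
      exact sp_conj_of_charpoly _ _ r r hrF hrF (hrep1 _) hgr (by rw [hrep2, hχ])
  rw [← Nat.card_range_of_injective hfinj]
  exact Nat.card_congr (Equiv.subtypeEquivRight (fun C => (hrange C).symm))

end SpGeneric

section final

variable {F : Type*} [Field F] [Fintype F]

/-- The number of classes of elements of odd prime order `r ≠ p` in `Sp_{2m}(q)`. -/
theorem card_classes_Sp {p q : ℕ} [Fact p.Prime] [CharP F p] (hF : Fintype.card F = q)
    (m r i t : ℕ) (hr : r.Prime) (hr2 : r ≠ 2) (hrp : r ≠ p) (hi : i = orderOf (q : ZMod r))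
    (ht : t * i = r - 1) :
    Nat.card {C : ConjClasses ↥(Matrix.symplecticGroup (Fin m) F) //
      ∃ g : Matrix.symplecticGroup (Fin m) F, ConjClasses.mk g = C ∧ orderOf g = r} =
      if Odd i then Nat.choose (m / i + t / 2) (t / 2) - 1
      else Nat.choose (2 * m / i + t) t - 1 := by
  classical
  have hp : p.Prime := Fact.out
  obtain ⟨f, -, hf⟩ := FiniteField.card F p
  have hrq : ¬ r ∣ q := by
    rw [← hF, hf]
    intro h
    exact hrp ((Nat.prime_dvd_prime_iff_eq hr hp).1 (hr.dvd_of_dvd_pow h))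
  obtain ⟨S, hS, hScard, hrF⟩ := exists_factors hF r i t hr hrp hi ht
  have hσ2 : ∀ a : F, (RingHom.id F) ((RingHom.id F) a) = a := fun _ => rfl
  have hmemS : ∀ π : S, dual (RingHom.id F) π.1 ∈ S := by
    intro π
    have h0 := Factors.coeff_zero_ne hS hr.pos π π.2
    have hmon := monic_dual (RingHom.id F) π.1 h0
    have hirr := irreducible_dual (RingHom.id F) hσ2 π.1 (hS.monic π π.2) h0 (hS.irred π π.2)
    have hdvd : dual (RingHom.id F) π.1 ∣ X ^ r - 1 := by
      obtain ⟨c, hc⟩ := hS.dvd π π.2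
      have h1 := congrArg (dual (RingHom.id F)) hc
      rw [dual_X_pow_sub_one (RingHom.id F) r hr.pos, dual_mul] at h1
      exact ⟨_, h1⟩
    rcases hS.cover _ hmon hirr hdvd with h | h
    · exfalso
      have h2 := dual_dual (RingHom.id F) hσ2 π.1 (hS.monic π π.2) h0
      rw [h, dual_X_sub_one] at h2
      exact hS.notMem (h2 ▸ π.2)
    · exact h
  obtain ⟨dg, hdg⟩ : ∃ dg : S → S, ∀ π : S, (dg π : F[X]) = dual (RingHom.id F) π.1 :=
    ⟨fun π => ⟨dual (RingHom.id F) π.1, hmemS π⟩, fun π => rfl⟩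
  have hdd : ∀ π, dg (dg π) = π := by
    intro π
    apply Subtype.ext
    rw [hdg, hdg, dual_dual (RingHom.id F) hσ2 π.1 (hS.monic π π.2)
      (Factors.coeff_zero_ne hS hr.pos π π.2)]
  rw [card_classes_Sp_generic p hS hr hr2 hrF m dg hdg]
  have hcrit : ∀ π : S, dual (RingHom.id F) π.1 = π.1 ↔ Even i := by
    intro π
    rw [dual_eq_self_iff_exists (RingHom.id F) p hσ2 1 0 (pow_zero p).symm
      (fun x => (pow_one x).symm) r hr π.1 (hS.monic π π.2) (hS.irred π π.2) (hS.dvd π π.2)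
      (fun h => hS.notMem (h ▸ π.2)), hF, hi]
    exact exists_dvd_one_add_pow_iff r hr hr2 q hrq
  have hi0 : 0 < i := by
    rcases Nat.eq_zero_or_pos i with h | h
    · rw [h, mul_zero] at ht
      have := hr.two_le
      omega
    · exact h
  split_ifs with hodd
  · have hdgne : ∀ π, dg π ≠ π := fun π h =>
      (Nat.not_even_iff_odd.mpr hodd) ((hcrit π).mp (by rw [← hdg, h]))
    have e : {a : S → ℕ // a ≠ 0 ∧ (∀ π, a (dg π) = a π) ∧ i * ∑ π, a π ≤ 2 * m} ≃
        {a : S → ℕ // a ≠ 0 ∧ (∀ π, a (dg π) = a π) ∧ ∑ π, a π ≤ 2 * m / i} :=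
      Equiv.subtypeEquivRight (fun a => by rw [Nat.le_div_iff_mul_le hi0, mul_comm])
    rw [Nat.card_congr e, card_tuples_invol S dg hdd hdgne, Fintype.card_coe, hScard,
      Nat.div_div_eq_div_mul, mul_comm i 2, Nat.mul_div_mul_left _ _ two_pos]
  · have heven : Even i := Nat.not_odd_iff_even.mp hodd
    have hdgid : ∀ π, dg π = π := fun π => Subtype.ext (by rw [hdg]; exact (hcrit π).mpr heven)
    have e : {a : S → ℕ // a ≠ 0 ∧ (∀ π, a (dg π) = a π) ∧ i * ∑ π, a π ≤ 2 * m} ≃
        {a : S → ℕ // a ≠ 0 ∧ ∑ π, a π ≤ 2 * m / i} :=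
      Equiv.subtypeEquivRight (fun a => by
        rw [Nat.le_div_iff_mul_le hi0, mul_comm]
        constructor
        · rintro ⟨h1, -, h3⟩
          exact ⟨h1, h3⟩
        · rintro ⟨h1, h3⟩
          exact ⟨h1, fun π => by rw [hdgid], h3⟩)
    rw [Nat.card_congr e, card_tuples, Fintype.card_coe, hScard]

end final

end Cfsg.Agent.Lib.Helper40.SpExist
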