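-- The centre of the symplectic group (helper40).
import Mathlib
import Cfsg.Prelude.Def_ClassicalGeometry
import Cfsg.Agent.Lib.Helper13.Symp
import Cfsg.Agent.Lib.Helper40.Symp

set_option autoImplicit false

namespace Cfsg.Agent.Lib.Helper40

open Matrix Cfsg.Agent.Lib.Helper13

universe u

section center

variable {F : Type u} [Field F] (m : ℕ)

/-- A central element of the symplectic group has every non-zero vector as an eigenvector. -/
theorem center_eigen (g : symplecticGroup (Fin m) F) (hg : g ∈ Subgroup.center (symplecticGroup (Fin m) F))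
    (v : Fin m ⊕ Fin m → F) (hv : v ≠ 0) :
    ∃ a : F, (g : Matrix (Fin m ⊕ Fin m) (Fin m ⊕ Fin m) F) *ᵥ v = a • v := by
  obtain ⟨x, hx⟩ := exists_sympForm_eq_one m v hv
  have hx' : Cfsg.sympForm m F (-x) v = 1 := by
    have h0 : -x = 0 - x := by simp
    rw [sympForm_swap, h0, sympForm_sub_right, sympForm_zero_right, hx]
    simp
  let T : symplecticGroup (Fin m) F := ⟨Cfsg.sympTransvection m v 1, sympTransvection_mem m v 1⟩
  have hcomm : g * T = T * g := (Subgroup.mem_center_iff.1 hg T).symm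
  have h1 := congrArg (fun A : symplecticGroup (Fin m) F =>
    (A : Matrix (Fin m ⊕ Fin m) (Fin m ⊕ Fin m) F) *ᵥ (-x)) hcomm
  simp only [Submonoid.coe_mul, ← Matrix.mulVec_mulVec] at h1
  change (g : Matrix (Fin m ⊕ Fin m) (Fin m ⊕ Fin m) F) *ᵥ (Cfsg.sympTransvection m v 1 *ᵥ (-x)) =
    Cfsg.sympTransvection m v 1 *ᵥ ((g : Matrix (Fin m ⊕ Fin m) (Fin m ⊕ Fin m) F) *ᵥ (-x)) at h1
  rw [sympTransvection_mulVec, sympTransvection_mulVec, hx', Matrix.mulVec_add, one_mul, one_mul,
    one_smul] at h1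
  exact ⟨_, add_left_cancel h1⟩

/-- A central element of the symplectic group is a scalar matrix. -/
theorem center_scalar (hm : 1 ≤ m) (g : symplecticGroup (Fin m) F)
    (hg : g ∈ Subgroup.center (symplecticGroup (Fin m) F)) :
    ∃ a : F, a * a = 1 ∧ (g : Matrix (Fin m ⊕ Fin m) (Fin m ⊕ Fin m) F) = a • 1 := by
  classical
  have hsingle : ∀ i : Fin m ⊕ Fin m, (Pi.single i 1 : Fin m ⊕ Fin m → F) ≠ 0 := by
    intro i h
    have := congrFun h i
    simp at this
  have hcol : ∀ i : Fin m ⊕ Fin m, ∃ a : F, ∀ j,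
      (g : Matrix (Fin m ⊕ Fin m) (Fin m ⊕ Fin m) F) j i = if j = i then a else 0 := by
    intro i
    obtain ⟨a, ha⟩ := center_eigen m g hg _ (hsingle i)
    refine ⟨a, fun j => ?_⟩
    have h := congrFun ha j
    rw [Matrix.mulVec_single_one, Matrix.col_apply] at h
    rw [h]
    simp [Pi.single_apply]
  choose a ha using hcol
  let i0 : Fin m ⊕ Fin m := Sum.inl ⟨0, hm⟩
  have hconst : ∀ i, a i = a i0 := by
    intro i
    by_cases hi : i = i0
    · rw [hi]
    · have hne : (Pi.single i 1 + Pi.single i0 1 : Fin m ⊕ Fin m → F) ≠ 0 := by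
        intro h
        have := congrFun h i
        simp [hi] at this
      obtain ⟨c, hc⟩ := center_eigen m g hg _ hne
      rw [Matrix.mulVec_add, Matrix.mulVec_single_one, Matrix.mulVec_single_one] at hc
      have h1 := congrFun hc i
      have h2 := congrFun hc i0
      simp only [Pi.add_apply, Matrix.col_apply, ha, Pi.smul_apply, Pi.single_apply, smul_eq_mul] at h1 h2
      simp [hi, Ne.symm hi] at h1 h2
      rw [h1, h2]
  have hg' : (g : Matrix (Fin m ⊕ Fin m) (Fin m ⊕ Fin m) F) = a i0 • 1 := by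
    ext j i
    rw [ha, hconst i, Matrix.smul_apply, Matrix.one_apply]
    simp
  refine ⟨a i0, ?_, hg'⟩
  have hmem := SymplecticGroup.mem_iff.1 g.2
  rw [hg'] at hmem
  have h := congrFun (congrFun hmem (Sum.inr ⟨0, hm⟩)) (Sum.inl ⟨0, hm⟩)
  simp [J] at h
  simpa [mul_comm] using h

theorem card_mul_self_eq_one [Fintype F] :
    Nat.card {a : F // a * a = 1} = Nat.gcd 2 (Fintype.card F - 1) := by
  classical
  obtain ⟨p, hp⟩ := CharP.exists F
  have : Fact p.Prime := ⟨CharP.char_is_prime F p⟩
  have hpp : p.Prime := Fact.out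
  obtain ⟨n, -, hq⟩ := FiniteField.card F p
  have hfil : (Finset.univ.filter (fun a : F => a * a = 1)) = {1, -1} := by
    ext a
    simp only [Finset.mem_filter, Finset.mem_univ, true_and, Finset.mem_insert,
      Finset.mem_singleton]
    exact mul_self_eq_one_iff
  rw [Nat.card_eq_fintype_card, Fintype.card_subtype, hfil, hq]
  by_cases h2 : p = 2
  · subst h2
    have h20 : (2 : F) = 0 := by
      have := CharP.cast_eq_zero F 2
      exact_mod_cast this
    have h1 : (-1 : F) = 1 := by
      rw [neg_eq_iff_add_eq_zero, one_add_one_eq_two, h20]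
    rw [h1, Finset.pair_eq_singleton, Finset.card_singleton]
    have hodd : Odd (2 ^ (n : ℕ) - 1) := by
      apply Nat.Even.sub_odd (Nat.one_le_two_pow) _ odd_one
      exact (Nat.even_pow.2 ⟨even_two, n.ne_zero⟩)
    exact (Nat.Coprime.gcd_eq_one (Nat.coprime_two_left.2 hodd)).symm
  · have h20 : (2 : F) ≠ 0 := by
      intro h
      have h' : ((2 : ℕ) : F) = 0 := by exact_mod_cast h
      rw [CharP.cast_eq_zero_iff F p] at h'
      exact h2 ((Nat.prime_dvd_prime_iff_eq hpp Nat.prime_two).1 h')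
    have h1 : (1 : F) ≠ -1 := by
      intro h
      apply h20
      rw [← one_add_one_eq_two]
      nth_rewrite 2 [h]
      ring
    rw [Finset.card_pair h1]
    have hodd : Odd (p ^ (n : ℕ)) := by
      apply Odd.pow
      exact hpp.odd_of_ne_two h2
    have heven : Even (p ^ (n : ℕ) - 1) := Nat.Odd.sub_odd hodd odd_one
    exact (Nat.gcd_eq_left heven.two_dvd).symm

theorem card_center_symplectic [Fintype F] (hm : 1 ≤ m) :
    Nat.card (Subgroup.center (symplecticGroup (Fin m) F)) = Nat.gcd 2 (Fintype.card F - 1) := by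
  classical
  rw [← card_mul_self_eq_one]
  let ψ : {a : F // a * a = 1} → Subgroup.center (symplecticGroup (Fin m) F) := fun a =>
    ⟨⟨a.1 • (1 : Matrix (Fin m ⊕ Fin m) (Fin m ⊕ Fin m) F), by
      rw [SymplecticGroup.mem_iff]
      rw [Matrix.smul_mul, Matrix.one_mul, Matrix.transpose_smul, Matrix.transpose_one,
        Matrix.mul_smul, Matrix.mul_one, smul_smul, a.2, one_smul]⟩, by
      rw [Subgroup.mem_center_iff]
      intro h
      apply Subtype.ext
      rw [Submonoid.coe_mul, Submonoid.coe_mul]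
      simp⟩
  have hinj : Function.Injective ψ := by
    intro a b hab
    apply Subtype.ext
    have h1 := congrArg (fun z : Subgroup.center (symplecticGroup (Fin m) F) =>
      (z.1 : Matrix (Fin m ⊕ Fin m) (Fin m ⊕ Fin m) F) (Sum.inl ⟨0, hm⟩) (Sum.inl ⟨0, hm⟩)) hab
    simpa [ψ] using h1
  have hsurj : Function.Surjective ψ := by
    intro z
    obtain ⟨a, ha, hz⟩ := center_scalar m hm z.1 z.2
    refine ⟨⟨a, ha⟩, ?_⟩
    apply Subtype.ext
    apply Subtype.ext
    exact hz.symm
  exact (Nat.card_congr (Equiv.ofBijective ψ ⟨hinj, hsurj⟩)).symm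

end center

end Cfsg.Agent.Lib.Helper40
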