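import Mathlib
import Cfsg.Agent.Lib.Helper40.SpPrimeOrder
import Cfsg.Agent.Lib.Helper40.PSUCommute
import Cfsg.Agent.Lib.Helper40.SympCenter

/-!
# Elements of order `r * p` in `PSp_{2n}(q)`

`PSp_{2n}(q)` has an element of order `r * p` (`r` an odd prime different from the characteristic
`p`) if and only if `η(k) ≤ n - 1`, where `k` is the order of `q` modulo `r`.
-/

set_option autoImplicit false
set_option linter.unusedSectionVars false
set_option linter.style.haveILetI false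

namespace Cfsg.Agent.Lib.Helper40.PSpRP

open Matrix Polynomial Cfsg.Agent.Lib.Helper40.DualPoly Cfsg.Agent.Lib.Helper40.SympWall
  Cfsg.Agent.Lib.Helper40.SpExist Cfsg.Agent.Lib.Helper40.PrimeOrderGL
  Cfsg.Agent.Lib.Helper40.GUPrimeOrder Cfsg.Agent.Lib.Helper40.PSUCommute

section form

variable {F : Type*} [Field F]

/-- A matrix preserving a non-degenerate alternating form is, up to an algebra isomorphism of
matrix algebras, a symplectic matrix. -/
theorem sp_of_form {ι : Type} [Fintype ι] [DecidableEq ι] (M y y' : Matrix ι ι F)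
    (hyy' : y * y' = 1) (halt : ∀ v : ι → F, v ⬝ᵥ y *ᵥ v = 0) (hinv : Mᵀ * y * M = y) :
    ∃ m : ℕ, Fintype.card ι = 2 * m ∧
      ∃ φ : Matrix ι ι F ≃ₐ[F] Matrix (Fin m ⊕ Fin m) (Fin m ⊕ Fin m) F,
        φ M ∈ Matrix.symplecticGroup (Fin m) F := by
  classical
  obtain ⟨B, hBdef⟩ : ∃ B : LinearMap.BilinForm F (ι → F), B = Matrix.toBilin' y := ⟨_, rfl⟩
  have hBapp : ∀ u v, B u v = u ⬝ᵥ y *ᵥ v := fun u v => by
    rw [hBdef]; exact Matrix.toBilin'_apply' y u v
  have hB : B.IsAlt := fun v => by rw [hBapp]; exact halt v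
  have hker : LinearMap.ker B = ⊥ := by
    rw [eq_bot_iff]
    intro u hu
    rw [LinearMap.mem_ker] at hu
    have h1 : ∀ v, (u ᵥ* y) ⬝ᵥ v = 0 := by
      intro v
      rw [← Matrix.dotProduct_mulVec, ← hBapp, hu]
      rfl
    have h2 : u ᵥ* y = 0 := dotProduct_eq_zero _ h1
    have h3 : u = 0 := by
      have := congrArg (fun w => w ᵥ* y') h2
      simp only [Matrix.vecMul_vecMul, hyy', Matrix.vecMul_one, Matrix.zero_vecMul] at this
      exact this
    rw [h3]
    exact Submodule.zero_mem _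
  obtain ⟨m, k, b, hef, hee, hff, hrad⟩ := Cfsg.Agent.Lib.Helper99.alt_basis B hB
  have hk := finrank_ker_of_basis B hB b hef hee hff hrad
  rw [hker, finrank_bot] at hk
  subst hk
  obtain ⟨b', hb'l, hb'r⟩ : ∃ b' : Module.Basis (Fin m ⊕ Fin m) F (ι → F),
      (∀ i, b' (Sum.inl i) = b (Sum.inl (Sum.inr i))) ∧
      (∀ i, b' (Sum.inr i) = b (Sum.inl (Sum.inl i))) := by
    refine ⟨b.reindex ((Equiv.sumEmpty _ _).trans (Equiv.sumComm _ _)), ?_, ?_⟩
    · intro i; simp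
    · intro i; simp
  have hJ : LinearMap.BilinForm.toMatrix b' B = Matrix.J (Fin m) F := by
    ext i j
    rw [LinearMap.BilinForm.toMatrix_apply]
    rcases i with i | i <;> rcases j with j | j
    · rw [hb'l, hb'l, hff]; simp [Matrix.J]
    · rw [hb'l, hb'r, ← hB.neg_eq, hef]; simp [Matrix.J, Matrix.one_apply, eq_comm]
    · rw [hb'r, hb'l, hef]; simp [Matrix.J, Matrix.one_apply]
    · rw [hb'r, hb'r, hee]; simp [Matrix.J]
  obtain ⟨L, hL⟩ : ∃ L : (ι → F) →ₗ[F] (ι → F), L = Matrix.toLin' M := ⟨_, rfl⟩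
  have hcomp : B.comp L L = B := by
    rw [hBdef, hL, Matrix.toBilin'_comp, hinv]
  have hdeg : Fintype.card ι = 2 * m := by
    have := Module.finrank_eq_card_basis b'
    rw [Module.finrank_fintype_fun_eq_card] at this
    rw [this]
    simp only [Fintype.card_sum, Fintype.card_fin]
    omega
  refine ⟨m, hdeg, (Matrix.toLinAlgEquiv' (R := F) (n := ι)).trans (LinearMap.toMatrixAlgEquiv b'),
    ?_⟩
  have h1 : ((Matrix.toLinAlgEquiv' (R := F) (n := ι)).trans (LinearMap.toMatrixAlgEquiv b')) M =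
      LinearMap.toMatrix b' b' L := by
    rw [hL]; rfl
  rw [h1, SymplecticGroup.mem_iff', ← hJ]
  have := LinearMap.BilinForm.toMatrix_comp b' b' B L L
  rw [hcomp] at this
  exact this.symm

end form

section sq

variable {F : Type*} [Field F] {ι : Type*} [Fintype ι] [DecidableEq ι]

/-- A matrix annihilated by a squarefree polynomial and commuting with a non-zero nilpotent matrix
has a square irreducible factor in its characteristic polynomial. -/
theorem exists_sq_dvd_charpoly_of_aeval (M N : Matrix ι ι F) (hMN : M * N = N * M)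
    (h : F[X]) (hsq : Squarefree h) (hM : aeval M h = 0) (hN : IsNilpotent N) (hN0 : N ≠ 0) :
    ∃ π : F[X], π.Monic ∧ Irreducible π ∧ π ∣ h ∧ π ^ 2 ∣ M.charpoly := by
  have hf : aeval (Matrix.toLin' M) h = 0 := by
    have e := Polynomial.aeval_algHom_apply
      (Matrix.toLinAlgEquiv' (R := F) (n := ι)).toAlgHom M h
    rw [hM, map_zero] at e
    exact e
  have hss : Module.End.IsSemisimple (Matrix.toLin' M) :=
    Module.End.isSemisimple_of_squarefree_aeval_eq_zero hsq hf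
  have hfg : Commute (Matrix.toLin' M) (Matrix.toLin' N) := by
    show Matrix.toLin' M * Matrix.toLin' N = Matrix.toLin' N * Matrix.toLin' M
    rw [Module.End.mul_eq_comp, Module.End.mul_eq_comp, ← Matrix.toLin'_mul, ← Matrix.toLin'_mul,
      hMN]
  have hg : IsNilpotent (Matrix.toLin' N) := by
    obtain ⟨k, hk⟩ := hN
    refine ⟨k, ?_⟩
    change Matrix.toLinAlgEquiv' N ^ k = 0
    rw [← map_pow, hk, map_zero]
  have hg0 : Matrix.toLin' N ≠ 0 := by
    intro h
    apply hN0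
    apply Matrix.toLin'.injective
    rw [h, map_zero]
  obtain ⟨π, hm, hirr, hdvd, hsqd⟩ := exists_sq_dvd_charpoly _ _ hfg hss hg hg0 _ hsq hf
  rw [Matrix.charpoly_toLin'] at hsqd
  exact ⟨π, hm, hirr, hdvd, hsqd⟩

theorem exists_sq_dvd_charpoly_matrix' (M N : Matrix ι ι F) (hMN : M * N = N * M)
    (r : ℕ) (hr : (r : F) ≠ 0) (hM : M ^ r = 1) (hN : IsNilpotent N) (hN0 : N ≠ 0) :
    ∃ π : F[X], π.Monic ∧ Irreducible π ∧ π ∣ X ^ r - 1 ∧ π ^ 2 ∣ M.charpoly := by
  have hsq : Squarefree (X ^ r - C (1 : F)) :=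
    (separable_X_pow_sub_C (1 : F) hr one_ne_zero).squarefree
  obtain ⟨π, hm, hirr, hdvd, hsqd⟩ := exists_sq_dvd_charpoly_of_aeval M N hMN _ hsq
    (by simp [hM]) hN hN0
  rw [C_1] at hdvd
  exact ⟨π, hm, hirr, hdvd, hsqd⟩

end sq

section data

variable {F : Type*} [Field F] [Fintype F] [DecidableEq F]

/-- The factors of the `r`-th cyclotomic polynomial over `F` with their duality involution. -/
theorem exists_sp_data (p : ℕ) [Fact p.Prime] [CharP F p] (r k : ℕ) (hr : r.Prime)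
    (hr2 : r ≠ 2) (hrp : r ≠ p) (hk : k = orderOf ((Fintype.card F : ℕ) : ZMod r)) :
    ∃ (S : Finset F[X]) (dg : S → S), Factors S r k ∧ S.Nonempty ∧ (r : F) ≠ 0 ∧ 0 < k ∧
      (∀ π : S, (dg π : F[X]) = dual (RingHom.id F) π.1) ∧ (∀ π, dg (dg π) = π) ∧
      (∀ π : S, dg π = π ↔ Even k) := by
  have hp : p.Prime := Fact.out
  have : Fact r.Prime := ⟨hr⟩
  obtain ⟨f, -, hf⟩ := FiniteField.card F p
  have hrq : ¬ r ∣ Fintype.card F := by
    rw [hf]
    intro h
    exact hrp ((Nat.prime_dvd_prime_iff_eq hr hp).1 (hr.dvd_of_dvd_pow h))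
  have hkdvd : k ∣ r - 1 := by
    rw [hk]
    apply ZMod.orderOf_dvd_card_sub_one
    rw [Ne, ZMod.natCast_eq_zero_iff]
    exact hrq
  obtain ⟨t, ht⟩ : ∃ t, t * k = r - 1 := by
    obtain ⟨c, hc⟩ := hkdvd
    exact ⟨c, by rw [hc, mul_comm]⟩
  obtain ⟨S, hS, hScard, hrF⟩ :=
    exists_factors (rfl : Fintype.card F = Fintype.card F) r k t hr hrp hk ht
  have hr2' := hr.two_le
  have hk0 : 0 < k := by
    rcases Nat.eq_zero_or_pos k with h | h
    · rw [h, mul_zero] at ht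
      omega
    · exact h
  have ht0 : 0 < t := by
    rcases Nat.eq_zero_or_pos t with h | h
    · rw [h, zero_mul] at ht
      omega
    · exact h
  have hSne : S.Nonempty := by
    rw [← Finset.card_pos, hScard]
    exact ht0
  have hσ2 : ∀ a : F, (RingHom.id F) ((RingHom.id F) a) = a := fun _ => rfl
  have hmemS : ∀ π : S, dual (RingHom.id F) π.1 ∈ S := by
    intro π
    have h0 := Factors.coeff_zero_ne hS hr.pos π π.2
    have hmon := monic_dual (RingHom.id F) π.1 h0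
    have hirr := irreducible_dual (RingHom.id F) hσ2 π.1 (hS.monic π π.2) h0 (hS.irred π π.2)
    have hdvd : dual (RingHom.id F) π.1 ∣ X ^ r - 1 := by
      obtain ⟨c, hc⟩ := hS.dvd π π.2
      have h1 := congrArg (dual (RingHom.id F)) hc
      rw [dual_X_pow_sub_one (RingHom.id F) r hr.pos, dual_mul] at h1
      exact ⟨_, h1⟩
    rcases hS.cover _ hmon hirr hdvd with h | h
    · exfalso
      have h2 := dual_dual (RingHom.id F) hσ2 π.1 (hS.monic π π.2) h0
      rw [h, dual_X_sub_one] at h2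
      exact hS.notMem (h2 ▸ π.2)
    · exact h
  obtain ⟨dg, hdg⟩ : ∃ dg : S → S, ∀ π : S, (dg π : F[X]) = dual (RingHom.id F) π.1 :=
    ⟨fun π => ⟨dual (RingHom.id F) π.1, hmemS π⟩, fun π => rfl⟩
  have hdd : ∀ π, dg (dg π) = π := by
    intro π
    apply Subtype.ext
    rw [hdg, hdg, dual_dual (RingHom.id F) hσ2 π.1 (hS.monic π π.2)
      (Factors.coeff_zero_ne hS hr.pos π π.2)]
  have hcrit : ∀ π : S, dual (RingHom.id F) π.1 = π.1 ↔ Even k := by
    intro π
    rw [dual_eq_self_iff_exists (RingHom.id F) p hσ2 1 0 (pow_zero p).symm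
      (fun x => (pow_one x).symm) r hr π.1 (hS.monic π π.2) (hS.irred π π.2) (hS.dvd π π.2)
      (fun h => hS.notMem (h ▸ π.2)), hk]
    exact exists_dvd_one_add_pow_iff r hr hr2 (Fintype.card F) hrq
  refine ⟨S, dg, hS, hSne, hrF, hk0, hdg, hdd, ?_⟩
  intro π
  constructor
  · intro h
    exact (hcrit π).mp (by rw [← hdg, h])
  · intro h
    exact Subtype.ext (by rw [hdg]; exact (hcrit π).mpr h)

end data

section bound

variable {F : Type*} [Field F] [Fintype F]

theorem sp_center_pow (p : ℕ) [Fact p.Prime] [CharP F p] (n : ℕ) (hn : 1 ≤ n)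
    (C : ↥(Matrix.symplecticGroup (Fin n) F))
    (hC : C ∈ Subgroup.center ↥(Matrix.symplecticGroup (Fin n) F)) :
    C ^ (if p = 2 then 1 else 2) = 1 := by
  obtain ⟨c, hcc, hc⟩ := Cfsg.Agent.Lib.Helper40.center_scalar n hn C hC
  apply Subtype.ext
  rw [SubmonoidClass.coe_pow, hc]
  show (c • (1 : Matrix (Fin n ⊕ Fin n) (Fin n ⊕ Fin n) F)) ^ _ = 1
  split_ifs with h2
  · subst h2
    have h1 : (c - 1) * (c - 1) = 0 := by
      have h2 : (2 : F) = 0 := CharTwo.two_eq_zero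
      linear_combination hcc + (1 - c) * h2
    have h3 : c = 1 := sub_eq_zero.mp (mul_self_eq_zero.mp h1)
    rw [h3, one_smul, pow_one]
  · rw [_root_.smul_pow, one_pow, sq, hcc, one_smul]

/-- If `PSp_{2n}(q)` has an element of order `r * p` then `η(k) ≤ n - 1`. -/
theorem psp_rp_bound (p : ℕ) [Fact p.Prime] [CharP F p] (n : ℕ) (hn : 2 ≤ n) (r : ℕ)
    (hr : r.Prime) (hr2 : r ≠ 2) (hrp : r ≠ p) (k ηk : ℕ)
    (hk : k = orderOf ((Fintype.card F : ℕ) : ZMod r))
    (hηk : (Odd k ∧ ηk = k) ∨ (Even k ∧ 2 * ηk = k))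
    (g : Cfsg.PSp n F) (hg : orderOf g = r * p) : ηk ≤ n - 1 := by
  classical
  have hpp : p.Prime := Fact.out
  obtain ⟨e', he'⟩ : ∃ e' : ℕ, e' = if p = 2 then 1 else 2 := ⟨_, rfl⟩
  have he'p : ¬ p ∣ e' := by
    rw [he']
    split_ifs with h
    · rw [h]; norm_num
    · intro hd
      exact h ((Nat.prime_dvd_prime_iff_eq hpp Nat.prime_two).mp hd)
  have he'r : ¬ r ∣ e' := by
    rw [he']
    split_ifs with h
    · intro hd
      exact hr.one_lt.ne' (Nat.dvd_one.mp hd)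
    · intro hd
      exact hr2 ((Nat.prime_dvd_prime_iff_eq hr Nat.prime_two).mp hd)
  have hcenter : ∀ C ∈ Subgroup.center ↥(Matrix.symplecticGroup (Fin n) F), C ^ e' = 1 := by
    intro C hC
    rw [he']
    exact sp_center_pow p n (by omega) C hC
  have hlift : ∀ (X : ↥(Matrix.symplecticGroup (Fin n) F)) (e : ℕ),
      (QuotientGroup.mk X : Cfsg.PSp n F) ^ e = 1 → (X ^ e') ^ e = 1 := by
    intro X e h
    rw [← QuotientGroup.mk_pow, QuotientGroup.eq_one_iff] at h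
    rw [← pow_mul, mul_comm, pow_mul]
    exact hcenter _ h
  obtain ⟨a, ha⟩ : ∃ a : Cfsg.PSp n F, a = g ^ r := ⟨_, rfl⟩
  obtain ⟨b, hb⟩ : ∃ b : Cfsg.PSp n F, b = g ^ p := ⟨_, rfl⟩
  have haord : orderOf a = p := by
    rw [ha, orderOf_pow' g hr.ne_zero, hg, Nat.gcd_eq_right (dvd_mul_right r p),
      Nat.mul_div_cancel_left p hr.pos]
  have hbord : orderOf b = r := by
    rw [hb, orderOf_pow' g hpp.ne_zero, hg, Nat.gcd_eq_right (dvd_mul_left p r),
      Nat.mul_div_cancel r hpp.pos]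
  have hab : Commute a b := by
    rw [ha, hb]
    exact (Commute.refl g).pow_pow r p
  obtain ⟨A₀, hA₀⟩ := QuotientGroup.mk_surjective a
  obtain ⟨B₀, hB₀⟩ := QuotientGroup.mk_surjective b
  obtain ⟨A, hA⟩ : ∃ A : ↥(Matrix.symplecticGroup (Fin n) F), A = A₀ ^ e' := ⟨_, rfl⟩
  obtain ⟨B, hB⟩ : ∃ B : ↥(Matrix.symplecticGroup (Fin n) F), B = B₀ ^ e' := ⟨_, rfl⟩
  have hAp : A ^ p = 1 := by
    rw [hA]
    exact hlift A₀ p (by
      rw [hA₀, ← haord]
      exact pow_orderOf_eq_one a)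
  have hBr : B ^ r = 1 := by
    rw [hB]
    exact hlift B₀ r (by
      rw [hB₀, ← hbord]
      exact pow_orderOf_eq_one b)
  have hmkA : (QuotientGroup.mk A : Cfsg.PSp n F) = a ^ e' := by
    rw [hA, QuotientGroup.mk_pow, hA₀]
  have hmkB : (QuotientGroup.mk B : Cfsg.PSp n F) = b ^ e' := by
    rw [hB, QuotientGroup.mk_pow, hB₀]
  have hA1 : A ≠ 1 := by
    intro h
    have h2 : a ^ e' = 1 := by
      rw [← hmkA, h]
      rfl
    have h3 := orderOf_dvd_of_pow_eq_one h2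
    rw [haord] at h3
    exact he'p h3
  have hB1 : B ≠ 1 := by
    intro h
    have h2 : b ^ e' = 1 := by
      rw [← hmkB, h]
      rfl
    have h3 := orderOf_dvd_of_pow_eq_one h2
    rw [hbord] at h3
    exact he'r h3
  have hcomm : A * B = B * A := by
    have hC : A * B * A⁻¹ * B⁻¹ ∈ Subgroup.center ↥(Matrix.symplecticGroup (Fin n) F) := by
      rw [← QuotientGroup.eq_one_iff, QuotientGroup.mk_mul, QuotientGroup.mk_mul,
        QuotientGroup.mk_mul, QuotientGroup.mk_inv, QuotientGroup.mk_inv, hmkA, hmkB]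
      have hc : Commute (a ^ e') (b ^ e') := (hab.pow_left _).pow_right _
      rw [hc.eq]
      group
    obtain ⟨C, hCdef⟩ : ∃ C, C = A * B * A⁻¹ * B⁻¹ := ⟨_, rfl⟩
    rw [← hCdef] at hC
    have hC1 : C ^ e' = 1 := hcenter C hC
    have hCr : C ^ r = 1 := by
      have h1 : A * B * A⁻¹ = C * B := by
        rw [hCdef]
        group
      have h2 : (A * B * A⁻¹) ^ r = 1 := by
        rw [conj_pow, hBr]
        group
      rw [h1] at h2
      have hCB : Commute C B := (Subgroup.mem_center_iff.1 hC B).symm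
      rw [hCB.mul_pow, hBr, mul_one] at h2
      exact h2
    have hgcd : Nat.gcd r e' = 1 := (Nat.Prime.coprime_iff_not_dvd hr).2 he'r
    have hC1' : C = 1 := by
      have h3 := pow_gcd_eq_one.2 ⟨hCr, hC1⟩
      rwa [hgcd, pow_one] at h3
    have h4 : A * B = C * (B * A) := by
      rw [hCdef]
      group
    rw [h4, hC1', one_mul]
  -- matrices
  obtain ⟨MA, hMA⟩ : ∃ MA : Matrix (Fin n ⊕ Fin n) (Fin n ⊕ Fin n) F, MA = A.1 := ⟨_, rfl⟩
  obtain ⟨MB, hMB⟩ : ∃ MB : Matrix (Fin n ⊕ Fin n) (Fin n ⊕ Fin n) F, MB = B.1 := ⟨_, rfl⟩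
  have hMAp : MA ^ p = 1 := by
    have h1 := congrArg Subtype.val hAp
    rw [SubmonoidClass.coe_pow] at h1
    rw [hMA, h1]
    rfl
  have hMBr : MB ^ r = 1 := by
    have h1 := congrArg Subtype.val hBr
    rw [SubmonoidClass.coe_pow] at h1
    rw [hMB, h1]
    rfl
  have hMA1 : MA ≠ 1 := by
    intro h
    apply hA1
    apply Subtype.ext
    rw [← hMA, h]
    rfl
  have hMB1 : MB ≠ 1 := by
    intro h
    apply hB1
    apply Subtype.ext
    rw [← hMB, h]
    rfl
  have hcm : MB * MA = MA * MB := by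
    have h1 := congrArg Subtype.val hcomm
    rw [hMA, hMB]
    exact h1.symm
  haveI : Nonempty (Fin n ⊕ Fin n) := ⟨Sum.inl ⟨0, by omega⟩⟩
  obtain ⟨N, hNdef⟩ : ∃ N : Matrix (Fin n ⊕ Fin n) (Fin n ⊕ Fin n) F, N = MA - 1 := ⟨_, rfl⟩
  have hN : IsNilpotent N := by
    refine ⟨p, ?_⟩
    rw [hNdef, sub_pow_char_of_commute p (Commute.one_right MA), one_pow, hMAp, sub_self]
  have hN0 : N ≠ 0 := by
    rw [hNdef]
    exact sub_ne_zero.mpr hMA1
  have hcN : MB * N = N * MB := by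
    rw [hNdef, mul_sub, sub_mul, mul_one, one_mul, hcm]
  obtain ⟨S, dg, hS, hSne, hrF, hk0, hdg, hdd, hfix⟩ := exists_sp_data p r k hr hr2 hrp hk
  obtain ⟨π, hπm, hπirr, hπdvd, hπsq⟩ :=
    exists_sq_dvd_charpoly_matrix' MB N hcN r hrF hMBr hN hN0
  have hcard : Fintype.card (Fin n ⊕ Fin n) = 2 * n := by
    rw [Fintype.card_sum, Fintype.card_fin]; omega
  obtain ⟨a₀, ha₀, hχ⟩ := charpoly_eq_chi' hS MB hMBr (2 * n) hcard
  have ha₀0 : a₀ ≠ 0 := by
    rintro rfl
    apply hMB1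
    apply eq_one_of_charpoly' MB r hrF hMBr (2 * n) hcard
    rw [hχ]
    simp [chi]
  have hinv : ∀ π, a₀ (dg π) = a₀ π := by
    have h1 := dual_charpoly_sp B
    rw [← hMB, hχ, dual_chi (RingHom.id F) dg hdd hdg] at h1
    have h2 := chi_inj hS _ _ _ _ h1
    intro π
    exact congrFun h2 π
  rw [hχ] at hπsq
  obtain ⟨a', ha'0, ha'inv, ha'le⟩ := exists_small_tuple hS a₀ (2 * n - k * ∑ π, a₀ π) (2 * n)
    (by omega) ha₀0 (by omega) dg hdd hinv π hπm hπirr hπdvd hπsq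
  obtain ⟨π₀, hπ₀⟩ : ∃ π₀, a' π₀ ≠ 0 := by
    by_contra hcon
    push Not at hcon
    exact ha'0 (funext hcon)
  rcases hηk with ⟨hodd, hη⟩ | ⟨heven, hη⟩
  · have hne : π₀ ≠ dg π₀ := by
      intro h
      exact (Nat.not_even_iff_odd.mpr hodd) ((hfix π₀).mp h.symm)
    have h1 : a' π₀ + a' (dg π₀) ≤ ∑ π, a' π := by
      rw [← Finset.sum_pair hne]
      exact Finset.sum_le_sum_of_subset (Finset.subset_univ _)
    rw [ha'inv] at h1
    have h2 : k * 2 ≤ k * ∑ π, a' π := Nat.mul_le_mul_left k (by omega)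
    omega
  · have h1 : a' π₀ ≤ ∑ π, a' π :=
      Finset.single_le_sum (fun _ _ => Nat.zero_le _) (Finset.mem_univ π₀)
    have h2 : k * 1 ≤ k * ∑ π, a' π := Nat.mul_le_mul_left k (by omega)
    omega

end bound

section exist

variable {F : Type*} [Field F]

theorem U_pow (j : ℕ) :
    (fromBlocks 1 1 0 1 : Matrix (Fin 1 ⊕ Fin 1) (Fin 1 ⊕ Fin 1) F) ^ j =
      (fromBlocks 1 ((j : F) • (1 : Matrix (Fin 1) (Fin 1) F)) 0 1 :
        Matrix (Fin 1 ⊕ Fin 1) (Fin 1 ⊕ Fin 1) F) := by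
  induction j with
  | zero => rw [pow_zero, Nat.cast_zero, zero_smul, fromBlocks_one]
  | succ j ih =>
    rw [pow_succ, ih, fromBlocks_multiply]
    simp only [mul_one, Matrix.mul_zero, add_zero, Matrix.zero_mul, zero_add]
    congr 1
    rw [Nat.cast_succ, add_smul, one_smul, add_comm]

theorem U_J : (fromBlocks 1 1 0 1 : Matrix (Fin 1 ⊕ Fin 1) (Fin 1 ⊕ Fin 1) F)ᵀ *
    Matrix.J (Fin 1) F * (fromBlocks 1 1 0 1 : Matrix (Fin 1 ⊕ Fin 1) (Fin 1 ⊕ Fin 1) F) =
      Matrix.J (Fin 1) F := by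
  unfold Matrix.J
  rw [fromBlocks_transpose, fromBlocks_multiply, fromBlocks_multiply]
  simp

variable [Fintype F]

/-- If `η(k) ≤ n - 1` then `PSp_{2n}(q)` has an element of order `r * p`. -/
theorem psp_rp_exists (p : ℕ) [Fact p.Prime] [CharP F p] (n : ℕ) (hn : 2 ≤ n) (r : ℕ)
    (hr : r.Prime) (hr2 : r ≠ 2) (hrp : r ≠ p) (k ηk : ℕ)
    (hk : k = orderOf ((Fintype.card F : ℕ) : ZMod r))
    (hηk : (Odd k ∧ ηk = k) ∨ (Even k ∧ 2 * ηk = k)) (hle : ηk ≤ n - 1) :
    ∃ g : Cfsg.PSp n F, orderOf g = r * p := by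
  classical
  have hpp : p.Prime := Fact.out
  obtain ⟨S, dg, hS, hSne, hrF, hk0, hdg, hdd, hfix⟩ := exists_sp_data p r k hr hr2 hrp hk
  obtain ⟨π₀', hπ₀mem⟩ := hSne
  obtain ⟨π₀, hπ₀⟩ : ∃ π₀ : S, π₀ = ⟨π₀', hπ₀mem⟩ := ⟨_, rfl⟩
  obtain ⟨a', ha'def⟩ : ∃ a' : S → ℕ, a' = fun π => if π = π₀ ∨ π = dg π₀ then 1 else 0 :=
    ⟨_, rfl⟩
  have ha'0 : a' ≠ 0 := by
    intro h
    have := congrFun h π₀
    rw [ha'def] at this
    simp at this
  have ha'inv : ∀ π, a' (dg π) = a' π := by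
    intro π
    have e : (dg π = π₀ ∨ dg π = dg π₀) ↔ (π = π₀ ∨ π = dg π₀) := by
      constructor
      · rintro (h | h)
        · right; rw [← h, hdd]
        · left
          have := congrArg dg h
          rwa [hdd, hdd] at this
      · rintro (h | h)
        · right; rw [h]
        · left; rw [h, hdd]
    rw [ha'def]
    simp only [e]
  have hsum : k * ∑ π, a' π ≤ 2 * (n - 1) := by
    rcases hηk with ⟨hodd, hη⟩ | ⟨heven, hη⟩
    · have h2 : ∑ π, a' π ≤ 2 := by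
        calc ∑ π, a' π ≤ ∑ π : S, ((if π = π₀ then 1 else 0) + (if π = dg π₀ then 1 else 0)) := by
              apply Finset.sum_le_sum
              intro π _
              rw [ha'def]
              show (if π = π₀ ∨ π = dg π₀ then 1 else 0) ≤ _
              by_cases h1 : π = π₀
              · simp [h1]
              · by_cases h2 : π = dg π₀
                · simp [h2]
                · simp [h1, h2]
          _ = 2 := by
              rw [Finset.sum_add_distrib, Finset.sum_ite_eq', Finset.sum_ite_eq']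
              simp
      have := Nat.mul_le_mul_left k h2
      omega
    · have hfixed : dg π₀ = π₀ := (hfix _).mpr heven
      have h1 : ∑ π, a' π = 1 := by
        rw [ha'def]
        simp only [hfixed, or_self]
        rw [Finset.sum_ite_eq']
        simp
      rw [h1]
      omega
  have hG := good_chi p hS hr hr2 dg hdg a' ha'inv (2 * (n - 1) - k * ∑ π, a' π) (n - 1)
    (by omega)
  obtain ⟨ι₁, _, _, M₁, y₁, y₁', hc₁, ⟨N₁, hN₁, hNp₁, hpow₁⟩, hy₁, halt₁, hinv₁⟩ := hG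
  have hM₁r : M₁ ^ r = 1 := pow_eq_one_of_charpoly_dvd' M₁ N₁
    (Cfsg.Agent.Lib.Helper40.natCast_ne_zero_of_coprime p N₁ hNp₁) hpow₁ r _
    (hc₁ ▸ chi_dvd hS a' _)
  have hcard₁ : Fintype.card ι₁ = 2 * (n - 1) := by
    have := Matrix.charpoly_natDegree_eq_dim M₁
    rw [hc₁, natDegree_chi hS] at this
    omega
  have hM₁1 : M₁ ≠ 1 := by
    intro h
    apply ha'0
    have h2 := hc₁
    rw [h, Matrix.charpoly_one, hcard₁] at h2
    have h3 : ((X : F[X]) - 1) ^ (2 * (n - 1)) = chi S (0 : S → ℕ) (2 * (n - 1)) := by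
      unfold chi
      simp
    rw [h3] at h2
    exact (chi_inj hS _ _ _ _ h2).symm
  obtain ⟨U, hU⟩ : ∃ U : Matrix (Fin 1 ⊕ Fin 1) (Fin 1 ⊕ Fin 1) F,
      U = (fromBlocks 1 1 0 1 : Matrix (Fin 1 ⊕ Fin 1) (Fin 1 ⊕ Fin 1) F) := ⟨_, rfl⟩
  obtain ⟨M, hM⟩ : ∃ M : Matrix (ι₁ ⊕ (Fin 1 ⊕ Fin 1)) (ι₁ ⊕ (Fin 1 ⊕ Fin 1)) F,
      M = fromBlocks M₁ 0 0 U := ⟨_, rfl⟩
  have hyy : fromBlocks y₁ 0 0 (Matrix.J (Fin 1) F) * fromBlocks y₁' 0 0 (-Matrix.J (Fin 1) F) =
      1 := by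
    rw [fromBlocks_multiply]
    simp only [Matrix.mul_zero, Matrix.zero_mul, add_zero, zero_add, hy₁, mul_neg,
      Matrix.J_squared, neg_neg, fromBlocks_one]
  have haltM : ∀ v : ι₁ ⊕ (Fin 1 ⊕ Fin 1) → F,
      v ⬝ᵥ fromBlocks y₁ 0 0 (Matrix.J (Fin 1) F) *ᵥ v = 0 := by
    intro v
    obtain ⟨a, b, rfl⟩ : ∃ a b, v = Sum.elim a b :=
      ⟨v ∘ Sum.inl, v ∘ Sum.inr, (Sum.elim_comp_inl_inr v).symm⟩
    rw [fromBlocks_mulVec, sumElim_dotProduct_sumElim]
    simp only [Matrix.zero_mulVec, add_zero, zero_add, halt₁, J_alt, Sum.elim_comp_inl,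
      Sum.elim_comp_inr]
  have hinvM : Mᵀ * fromBlocks y₁ 0 0 (Matrix.J (Fin 1) F) * M =
      fromBlocks y₁ 0 0 (Matrix.J (Fin 1) F) := by
    rw [hM, fromBlocks_transpose, fromBlocks_multiply, fromBlocks_multiply]
    simp only [Matrix.mul_zero, Matrix.zero_mul, add_zero, zero_add, hinv₁, transpose_zero]
    rw [hU, U_J]
  obtain ⟨m, hm, φ, hφ⟩ := sp_of_form M _ _ hyy haltM hinvM
  have hmn : m = n := by
    rw [Fintype.card_sum, hcard₁, Fintype.card_sum, Fintype.card_fin] at hm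
    omega
  subst hmn
  obtain ⟨g, hgdef⟩ : ∃ g : ↥(Matrix.symplecticGroup (Fin m) F), g.1 = φ M :=
    ⟨⟨φ M, hφ⟩, rfl⟩
  have hMpow : ∀ j : ℕ, M ^ j = fromBlocks (M₁ ^ j) 0 0
      (fromBlocks 1 ((j : F) • (1 : Matrix (Fin 1) (Fin 1) F)) 0 1 :
        Matrix (Fin 1 ⊕ Fin 1) (Fin 1 ⊕ Fin 1) F) := by
    intro j
    rw [hM, fromBlocks_diagonal_pow, hU, U_pow]
  have key : ∀ j : ℕ, (QuotientGroup.mk g : Cfsg.PSp m F) ^ j = 1 ↔ r * p ∣ j := by
    intro j
    rw [← QuotientGroup.mk_pow, QuotientGroup.eq_one_iff]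
    constructor
    · intro hcen
      obtain ⟨c, hcc, hc⟩ := Cfsg.Agent.Lib.Helper40.center_scalar m (by omega) (g ^ j) hcen
      rw [SubmonoidClass.coe_pow, hgdef, ← map_pow] at hc
      have h1 : M ^ j = c • 1 := by
        apply φ.injective
        rw [hc, map_smul, map_one]
      rw [hMpow j, ← fromBlocks_one, fromBlocks_smul, smul_zero] at h1
      obtain ⟨h11, -, -, h22⟩ := fromBlocks_inj.mp h1
      rw [← fromBlocks_one, fromBlocks_smul] at h22
      obtain ⟨h22a, h22b, -, -⟩ := fromBlocks_inj.mp h22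
      have hc1 : c = 1 := by
        have := congrFun (congrFun h22a 0) 0
        simpa using this.symm
      have hj0 : (j : F) = 0 := by
        have := congrFun (congrFun h22b 0) 0
        simpa using this
      have hpj : p ∣ j := (CharP.cast_eq_zero_iff F p j).mp hj0
      rw [hc1, one_smul] at h11
      have hrj : r ∣ j := by
        have h2 := orderOf_dvd_of_pow_eq_one h11
        have h3 := orderOf_dvd_of_pow_eq_one hM₁r
        rcases (Nat.dvd_prime hr).mp h3 with h4 | h4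
        · exact absurd (orderOf_eq_one_iff.mp h4) hM₁1
        · rwa [h4] at h2
      exact Nat.Coprime.mul_dvd_of_dvd_of_dvd ((Nat.coprime_primes hr hpp).mpr hrp) hrj hpj
    · rintro ⟨c, rfl⟩
      have h1 : g ^ (r * p * c) = 1 := by
        apply Subtype.ext
        rw [SubmonoidClass.coe_pow, hgdef, ← map_pow, hMpow]
        have e1 : M₁ ^ (r * p * c) = 1 := by rw [mul_assoc, pow_mul, hM₁r, one_pow]
        have e2 : ((r * p * c : ℕ) : F) = 0 := by
          rw [CharP.cast_eq_zero_iff F p]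
          exact Dvd.dvd.mul_right (dvd_mul_left p r) c
        rw [e1, e2, zero_smul, fromBlocks_one, fromBlocks_one, map_one]
        rfl
      rw [h1]
      exact Subgroup.one_mem _
  refine ⟨QuotientGroup.mk g, ?_⟩
  apply Nat.dvd_antisymm
  · exact orderOf_dvd_of_pow_eq_one ((key _).mpr dvd_rfl)
  · exact (key _).mp (pow_orderOf_eq_one _)

/-- `PSp_{2n}(q)` has no element of order `r * p` iff `η(k) > n - 1`. -/
theorem psp_rp_iff (p : ℕ) [Fact p.Prime] [CharP F p] (n : ℕ) (hn : 2 ≤ n) (r : ℕ)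
    (hr : r.Prime) (hr2 : r ≠ 2) (hrp : r ≠ p) (k ηk : ℕ)
    (hk : k = orderOf ((Fintype.card F : ℕ) : ZMod r))
    (hηk : (Odd k ∧ ηk = k) ∨ (Even k ∧ 2 * ηk = k)) :
    (r * p ∉ Set.range (orderOf : Cfsg.PSp n F → ℕ)) ↔ n - 1 < ηk := by
  constructor
  · intro h
    by_contra hcon
    obtain ⟨g, hg⟩ := psp_rp_exists p n hn r hr hr2 hrp k ηk hk hηk (not_lt.mp hcon)
    exact h ⟨g, hg⟩
  · rintro h ⟨g, hg⟩
    have := psp_rp_bound p n hn r hr hr2 hrp k ηk hk hηk g hg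
    omega

end exist

end Cfsg.Agent.Lib.Helper40.PSpRP
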