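import Mathlib
import Cfsg.Agent.Lib.Helper40.PSpRP
import Cfsg.Agent.Lib.Helper40.CommNilp

/-!
# Elements of order `r * p` in `PSL_n(q)`

`PSL_n(q)` has an element of order `r * p` (`r` an odd prime different from the characteristic
`p`) if and only if `k ≤ n - 2`, where `k` is the order of `q` modulo `r`, except when `n = 3`,
`r = 3` and `3` divides `q - 1` exactly once.
-/

set_option autoImplicit false
set_option linter.unusedSectionVars false
set_option linter.style.haveILetI false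

namespace Cfsg.Agent.Lib.Helper40.PSLRP

open Matrix Polynomial

section semisimple

variable {F : Type*} [Field F] {ι : Type*} [Fintype ι] [DecidableEq ι]

theorem scalar_eq_smul_one (c : F) : Matrix.scalar ι c = c • (1 : Matrix ι ι F) := by
  rw [Matrix.scalar_apply, Matrix.smul_one_eq_diagonal]

/-- The algebra generated by a matrix annihilated by a squarefree polynomial is reduced. -/
theorem aeval_eq_zero_of_pow (M : Matrix ι ι F) (h f : F[X]) (hsq : Squarefree h)
    (hM : aeval M h = 0) (j : ℕ) (hf : aeval M (f ^ j) = 0) : aeval M f = 0 := by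
  classical
  rcases Nat.eq_zero_or_pos j with rfl | hj
  · rw [pow_zero, map_one] at hf
    rw [← mul_one (aeval M f), hf, mul_zero]
  have hd : aeval M (EuclideanDomain.gcd h (f ^ j)) = 0 := by
    rw [EuclideanDomain.gcd_eq_gcd_ab, map_add, map_mul, map_mul, hM, hf, zero_mul, zero_mul,
      add_zero]
  have hdh : EuclideanDomain.gcd h (f ^ j) ∣ h := EuclideanDomain.gcd_dvd_left _ _
  have hdf : EuclideanDomain.gcd h (f ^ j) ∣ f ^ j := EuclideanDomain.gcd_dvd_right _ _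
  have hsqd : Squarefree (EuclideanDomain.gcd h (f ^ j)) := hsq.squarefree_of_dvd hdh
  have hdf' : EuclideanDomain.gcd h (f ^ j) ∣ f := (hsqd.dvd_pow_iff_dvd hj.ne').mp hdf
  obtain ⟨c, hc⟩ := hdf'
  rw [hc, map_mul, hd, zero_mul]

theorem scalar_of_sq_two (M : Matrix (Fin 2) (Fin 2) F) (h : F[X]) (hsq : Squarefree h)
    (hM : aeval M h = 0) (π : F[X]) (hπm : π.Monic) (hπirr : Irreducible π)
    (hπsq : π ^ 2 ∣ M.charpoly) : ∃ c : F, M = c • 1 := by
  obtain ⟨c, hc⟩ := hπsq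
  have hχm : M.charpoly.Monic := Matrix.charpoly_monic M
  have hχd : M.charpoly.natDegree = 2 := by
    rw [Matrix.charpoly_natDegree_eq_dim, Fintype.card_fin]
  have hπ2m : (π ^ 2).Monic := hπm.pow 2
  have hcm : c.Monic := by
    rw [hc] at hχm
    exact hπ2m.of_mul_monic_left hχm
  have hdeg : 2 = 2 * π.natDegree + c.natDegree := by
    have h1 := hχd
    rw [hc, hπ2m.natDegree_mul hcm, hπm.natDegree_pow] at h1
    exact h1.symm
  have hπd : 0 < π.natDegree := hπirr.natDegree_pos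
  have hπ1 : π.natDegree = 1 := by omega
  have hc1 : c = 1 := Polynomial.eq_one_of_monic_natDegree_zero hcm (by omega)
  have hCH : aeval M (π ^ 2) = 0 := by
    have h1 := Matrix.aeval_self_charpoly M
    rw [hc, hc1, mul_one] at h1
    exact h1
  have h2 := aeval_eq_zero_of_pow M h π hsq hM 2 hCH
  rw [hπm.eq_X_add_C hπ1] at h2
  refine ⟨-π.coeff 0, ?_⟩
  simp only [map_add, aeval_X, aeval_C, Algebra.algebraMap_eq_smul_one] at h2
  rw [neg_smul]
  exact eq_neg_of_add_eq_zero_left h2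

theorem roots_of_sq_three (M : Matrix (Fin 3) (Fin 3) F) (hdet : M.det = 1) (r : ℕ) (z : F)
    (hz : z ≠ 0) (hrF : (r : F) ≠ 0) (hMr : M ^ r = z • 1) (hns : ∀ c : F, M ≠ c • 1)
    (π : F[X]) (hπm : π.Monic) (hπirr : Irreducible π) (hπdvd : π ∣ X ^ r - C z)
    (hπsq : π ^ 2 ∣ M.charpoly) :
    ∃ l ω : F, ω ^ r = 1 ∧ ω ≠ 1 ∧ l ^ 3 * ω = 1 := by
  have hr0 : r ≠ 0 := by
    rintro rfl
    simp at hrF
  have hsq : Squarefree (X ^ r - C z) := (separable_X_pow_sub_C z hrF hz).squarefree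
  have hM : aeval M (X ^ r - C z) = 0 := by
    simp [hMr, Algebra.algebraMap_eq_smul_one]
  obtain ⟨c, hc⟩ := hπsq
  have hχm : M.charpoly.Monic := Matrix.charpoly_monic M
  have hχd : M.charpoly.natDegree = 3 := by
    rw [Matrix.charpoly_natDegree_eq_dim, Fintype.card_fin]
  have hπ2m : (π ^ 2).Monic := hπm.pow 2
  have hcm : c.Monic := by
    rw [hc] at hχm
    exact hπ2m.of_mul_monic_left hχm
  have hdeg : 3 = 2 * π.natDegree + c.natDegree := by
    have h1 := hχd
    rw [hc, hπ2m.natDegree_mul hcm, hπm.natDegree_pow] at h1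
    exact h1.symm
  have hπd : 0 < π.natDegree := hπirr.natDegree_pos
  have hπ1 : π.natDegree = 1 := by omega
  have hc1 : c.natDegree = 1 := by omega
  obtain ⟨a, ha⟩ : ∃ a : F, π = X + C a := ⟨_, hπm.eq_X_add_C hπ1⟩
  obtain ⟨b, hb⟩ : ∃ b : F, c = X + C b := ⟨_, hcm.eq_X_add_C hc1⟩
  have hCH := Matrix.aeval_self_charpoly M
  rw [hc] at hCH
  have h1 : aeval M ((π * c) ^ 2) = 0 := by
    have e : (π * c) ^ 2 = π ^ 2 * c * c := by ring
    rw [e, map_mul, hCH, zero_mul]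
  have h2 := aeval_eq_zero_of_pow M _ _ hsq hM 2 h1
  have hdet' : a ^ 2 * b = -1 := by
    have h3 := Matrix.det_eq_sign_charpoly_coeff M
    rw [hdet, hc, ha, hb, Fintype.card_fin, coeff_zero_eq_eval_zero] at h3
    simp only [eval_mul, eval_pow, eval_add, eval_X, eval_C, zero_add] at h3
    linear_combination h3
  have hab : a ≠ b := by
    rintro rfl
    have h3 : aeval M (π ^ 3) = 0 := by
      have e : π ^ 3 = π ^ 2 * c := by rw [hb, ← ha]; ring
      rw [e]
      exact hCH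
    have h4 := aeval_eq_zero_of_pow M _ _ hsq hM 3 h3
    rw [ha] at h4
    simp only [map_add, aeval_X, aeval_C, Algebra.algebraMap_eq_smul_one] at h4
    exact hns (-a) (by rw [neg_smul]; exact eq_neg_of_add_eq_zero_left h4)
  obtain ⟨W, hW⟩ : ∃ W : Matrix (Fin 3) (Fin 3) F, W = M + a • 1 := ⟨_, rfl⟩
  have hW0 : W ≠ 0 := by
    intro h
    rw [hW] at h
    exact hns (-a) (by rw [neg_smul]; exact eq_neg_of_add_eq_zero_left h)
  have hMW : M * W = (-b) • W := by
    rw [ha, hb] at h2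
    simp only [map_mul, map_add, aeval_X, aeval_C, Algebra.algebraMap_eq_smul_one] at h2
    have h3 : (M + b • (1 : Matrix (Fin 3) (Fin 3) F)) * W = 0 := by
      rw [hW, ← h2]
      simp only [add_mul, mul_add, smul_mul_assoc, mul_smul_comm, one_mul, mul_one]
      rw [smul_add, smul_add, smul_smul, smul_smul, mul_comm a b]
      abel
    rw [add_mul, smul_mul_assoc, one_mul] at h3
    rw [neg_smul]
    exact eq_neg_of_add_eq_zero_left h3
  have hMrW : ∀ j : ℕ, M ^ j * W = (-b) ^ j • W := by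
    intro j
    induction j with
    | zero => simp
    | succ j ih => rw [pow_succ, mul_assoc, hMW, mul_smul_comm, ih, smul_smul, pow_succ, mul_comm]
  have hbz : (-b) ^ r = z := by
    have h3 := hMrW r
    rw [hMr, smul_mul_assoc, one_mul] at h3
    have h4 : (z - (-b) ^ r) • W = 0 := by rw [sub_smul, h3, sub_self]
    rcases smul_eq_zero.mp h4 with h5 | h5
    · exact (sub_eq_zero.mp h5).symm
    · exact absurd h5 hW0
  have haz : (-a) ^ r = z := by
    have h3 : (X ^ r - C z : F[X]).eval (-a) = 0 := by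
      obtain ⟨d, hd⟩ := hπdvd
      rw [hd, ha]
      simp
    simp only [eval_sub, eval_pow, eval_X, eval_C] at h3
    exact sub_eq_zero.mp h3
  have ha0 : -a ≠ 0 := by
    intro h
    rw [h, zero_pow hr0] at haz
    exact hz haz.symm
  refine ⟨-a, (-b) * (-a)⁻¹, ?_, ?_, ?_⟩
  · rw [mul_pow, inv_pow, hbz, haz, mul_inv_cancel₀ hz]
  · intro h
    apply hab
    have h3 := (mul_inv_eq_one₀ ha0).mp h
    exact (neg_inj.mp h3).symm
  · have e : (-a) ^ 3 * (-b * (-a)⁻¹) = (-a) ^ 2 * (-b) * ((-a) * (-a)⁻¹) := by ring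
    rw [e, mul_inv_cancel₀ ha0, mul_one]
    linear_combination -hdet'

end semisimple

section bound

variable {F : Type*} [Field F] [Fintype F]

/-- An element of order `r * p` of `PSL_n(q)` gives commuting `A`, `B` in `SL_n(q)` with `A` of
order `p` and `B` of order `r` modulo the centre. -/
theorem psl_rp_lift (p : ℕ) [Fact p.Prime] [CharP F p] (n : ℕ) (hn : 2 ≤ n) (r : ℕ)
    (hr : r.Prime) (hrp : r ≠ p)
    (g : Matrix.ProjectiveSpecialLinearGroup (Fin n) F) (hg : orderOf g = r * p) :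
    ∃ A B : Matrix.SpecialLinearGroup (Fin n) F, A ^ p = 1 ∧ A ≠ 1 ∧ A * B = B * A ∧
      ∀ j : ℕ, B ^ j ∈ Subgroup.center (Matrix.SpecialLinearGroup (Fin n) F) ↔ r ∣ j := by
  classical
  have hpp : p.Prime := Fact.out
  obtain ⟨q, hq⟩ : ∃ q : ℕ, q = Fintype.card F := ⟨_, rfl⟩
  have hq2 : 2 ≤ q := hq ▸ Fintype.one_lt_card
  have hpq : p ∣ q := by
    obtain ⟨k, _, hk⟩ := FiniteField.card F p
    rw [hq, hk]
    exact dvd_pow_self p k.ne_zero
  have hpq1 : ¬ p ∣ q - 1 := by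
    intro h
    have h1 : p ∣ q - (q - 1) := Nat.dvd_sub hpq h
    have h2 : q - (q - 1) = 1 := by omega
    rw [h2] at h1
    exact hpp.one_lt.ne' (Nat.dvd_one.mp h1)
  obtain ⟨a, ha⟩ : ∃ a : Matrix.ProjectiveSpecialLinearGroup (Fin n) F, a = g ^ r := ⟨_, rfl⟩
  obtain ⟨b, hb⟩ : ∃ b : Matrix.ProjectiveSpecialLinearGroup (Fin n) F, b = g ^ p := ⟨_, rfl⟩
  have haord : orderOf a = p := by
    rw [ha, orderOf_pow' g hr.ne_zero, hg, Nat.gcd_eq_right (dvd_mul_right r p),
      Nat.mul_div_cancel_left p hr.pos]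
  have hbord : orderOf b = r := by
    rw [hb, orderOf_pow' g hpp.ne_zero, hg, Nat.gcd_eq_right (dvd_mul_left p r),
      Nat.mul_div_cancel r hpp.pos]
  have hab : Commute a b := by
    rw [ha, hb]
    exact (Commute.refl g).pow_pow r p
  obtain ⟨A₀, hA₀⟩ := QuotientGroup.mk_surjective a
  obtain ⟨B, hB⟩ := QuotientGroup.mk_surjective b
  obtain ⟨A, hA⟩ : ∃ A : Matrix.SpecialLinearGroup (Fin n) F, A = A₀ ^ (q - 1) := ⟨_, rfl⟩
  have hAp : A ^ p = 1 := by
    rw [hA, hq]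
    exact Cfsg.Agent.Lib.Helper40.sl_lift_pow n (by omega) A₀ p (by
      rw [hA₀, ← haord]
      exact pow_orderOf_eq_one a)
  have hmkA : (QuotientGroup.mk A : Matrix.ProjectiveSpecialLinearGroup (Fin n) F) =
      a ^ (q - 1) := by
    rw [hA, QuotientGroup.mk_pow, hA₀]
  have hA1 : A ≠ 1 := by
    intro h
    have h2 : a ^ (q - 1) = 1 := by
      rw [← hmkA, h]
      rfl
    have h3 := orderOf_dvd_of_pow_eq_one h2
    rw [haord] at h3
    exact hpq1 h3
  have hcomm : A * B = B * A := by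
    have hC : B * A * B⁻¹ * A⁻¹ ∈ Subgroup.center (Matrix.SpecialLinearGroup (Fin n) F) := by
      rw [← QuotientGroup.eq_one_iff, QuotientGroup.mk_mul, QuotientGroup.mk_mul,
        QuotientGroup.mk_mul, QuotientGroup.mk_inv, QuotientGroup.mk_inv, hmkA, hB]
      have hc : Commute (a ^ (q - 1)) b := hab.pow_left _
      rw [← hc.eq]
      group
    obtain ⟨C, hCdef⟩ : ∃ C, C = B * A * B⁻¹ * A⁻¹ := ⟨_, rfl⟩
    rw [← hCdef] at hC
    have hC1 : C ^ (q - 1) = 1 := by
      rw [hq]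
      exact Cfsg.Agent.Lib.Helper40.sl_center_pow n (by omega) C hC
    have hCp : C ^ p = 1 := by
      have h1 : B * A * B⁻¹ = C * A := by
        rw [hCdef]
        group
      have h2 : (B * A * B⁻¹) ^ p = 1 := by
        rw [conj_pow, hAp]
        group
      rw [h1] at h2
      have hCA : Commute C A := (Subgroup.mem_center_iff.1 hC A).symm
      rw [hCA.mul_pow, hAp, mul_one] at h2
      exact h2
    have hgcd : Nat.gcd p (q - 1) = 1 := (Nat.Prime.coprime_iff_not_dvd hpp).2 hpq1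
    have hC1' : C = 1 := by
      have h3 := pow_gcd_eq_one.2 ⟨hCp, hC1⟩
      rwa [hgcd, pow_one] at h3
    have h4 : B * A = C * (A * B) := by
      rw [hCdef]
      group
    rw [h4, hC1', one_mul]
  refine ⟨A, B, hAp, hA1, hcomm, ?_⟩
  intro j
  rw [← QuotientGroup.eq_one_iff, QuotientGroup.mk_pow, hB, ← hbord]
  exact (orderOf_dvd_iff_pow_eq_one).symm

/-- If `PSL_n(q)` has an element of order `r * p` then `k ≤ n - 2`, and `9 ∣ q - 1` if
`n = r = 3`. -/
theorem psl_rp_bound (p : ℕ) [Fact p.Prime] [CharP F p] (n : ℕ) (hn : 2 ≤ n) (r : ℕ)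
    (hr : r.Prime) (hrp : r ≠ p) (k : ℕ)
    (hk : k = orderOf ((Fintype.card F : ℕ) : ZMod r))
    (g : Matrix.ProjectiveSpecialLinearGroup (Fin n) F) (hg : orderOf g = r * p) :
    k ≤ n - 2 ∧ (n = 3 → r = 3 → 9 ∣ Fintype.card F - 1) := by
  classical
  have hpp : p.Prime := Fact.out
  obtain ⟨A, B, hAp, hA1, hcomm, hBcen⟩ := psl_rp_lift p n hn r hr hrp g hg
  obtain ⟨q, hq⟩ : ∃ q : ℕ, q = Fintype.card F := ⟨_, rfl⟩
  rw [← hq] at hk ⊢
  have hq2 : 2 ≤ q := hq ▸ Fintype.one_lt_card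
  have hrF : (r : F) ≠ 0 := by
    intro h
    rw [CharP.cast_eq_zero_iff F p] at h
    exact hrp ((Nat.prime_dvd_prime_iff_eq hpp hr).mp h).symm
  have hkdvd : ∀ j : ℕ, r ∣ q ^ j - 1 → k ∣ j := by
    intro j hj
    rw [hk]
    apply orderOf_dvd_of_pow_eq_one
    have h1 : ((q ^ j - 1 : ℕ) : ZMod r) = 0 := (ZMod.natCast_eq_zero_iff _ _).mpr hj
    rw [Nat.cast_sub (Nat.one_le_pow _ _ (by omega)), Nat.cast_pow, Nat.cast_one,
      sub_eq_zero] at h1
    exact h1
  have hk1 : r ∣ q - 1 → k = 1 := by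
    intro h
    have := hkdvd 1 (by rwa [pow_one])
    exact Nat.dvd_one.mp this
  obtain ⟨MA, hMA⟩ : ∃ MA : Matrix (Fin n) (Fin n) F, MA = A.1 := ⟨_, rfl⟩
  obtain ⟨MB, hMB⟩ : ∃ MB : Matrix (Fin n) (Fin n) F, MB = B.1 := ⟨_, rfl⟩
  have hMAp : MA ^ p = 1 := by
    have h1 := congrArg Subtype.val hAp
    rw [Matrix.SpecialLinearGroup.coe_pow] at h1
    rw [hMA, h1]
    rfl
  have hMA1 : MA ≠ 1 := by
    intro h
    apply hA1
    apply Subtype.ext
    rw [← hMA, h]
    rfl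
  have hcm : MB * MA = MA * MB := by
    have h1 := congrArg Subtype.val hcomm
    rw [hMA, hMB]
    exact h1.symm
  haveI : Nonempty (Fin n) := ⟨⟨0, by omega⟩⟩
  obtain ⟨N, hNdef⟩ : ∃ N : Matrix (Fin n) (Fin n) F, N = MA - 1 := ⟨_, rfl⟩
  have hN : IsNilpotent N := by
    refine ⟨p, ?_⟩
    rw [hNdef, sub_pow_char_of_commute p (Commute.one_right MA), one_pow, hMAp, sub_self]
  have hN0 : N ≠ 0 := by
    rw [hNdef]
    exact sub_ne_zero.mpr hMA1
  have hcN : MB * N = N * MB := by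
    rw [hNdef, mul_sub, sub_mul, mul_one, one_mul, hcm]
  have hBr : B ^ r ∈ Subgroup.center (Matrix.SpecialLinearGroup (Fin n) F) :=
    (hBcen r).mpr dvd_rfl
  obtain ⟨z, hzn, hz⟩ := Matrix.SpecialLinearGroup.mem_center_iff.mp hBr
  have hz0 : z ≠ 0 := by
    rintro rfl
    rw [Fintype.card_fin, zero_pow (by omega)] at hzn
    exact zero_ne_one hzn
  have hMBr : MB ^ r = z • 1 := by
    rw [hMB, ← Matrix.SpecialLinearGroup.coe_pow, ← hz, scalar_eq_smul_one]
  have hns : ∀ c : F, MB ≠ c • 1 := by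
    intro c hc
    have h1 : B ^ 1 ∈ Subgroup.center (Matrix.SpecialLinearGroup (Fin n) F) := by
      rw [pow_one, Matrix.SpecialLinearGroup.mem_center_iff]
      refine ⟨c, ?_, ?_⟩
      · have hd := B.2
        rw [← hMB, hc, Matrix.det_smul, Matrix.det_one, mul_one] at hd
        exact hd
      · rw [← hMB, hc, scalar_eq_smul_one]
    have := (hBcen 1).mp h1
    exact hr.one_lt.ne' (Nat.dvd_one.mp this)
  have hsq : Squarefree (X ^ r - C z) := (separable_X_pow_sub_C z hrF hz0).squarefree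
  have hM : aeval MB (X ^ r - C z) = 0 := by
    simp [hMBr, Algebra.algebraMap_eq_smul_one]
  obtain ⟨π, hπm, hπirr, hπdvd, hπsq⟩ :=
    Cfsg.Agent.Lib.Helper40.PSpRP.exists_sq_dvd_charpoly_of_aeval MB N hcN _ hsq hM hN hN0
  rcases Nat.lt_or_ge n 4 with hn4 | hn4
  · rcases Nat.lt_or_ge n 3 with hn3 | hn3
    · have hn2 : n = 2 := by omega
      subst hn2
      obtain ⟨c, hc⟩ := scalar_of_sq_two MB _ hsq hM π hπm hπirr hπsq
      exact absurd hc (hns c)
    · have hn3' : n = 3 := by omega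
      subst hn3'
      have hdet : MB.det = 1 := by
        rw [hMB]
        exact B.2
      obtain ⟨l, ω, hωr, hω1, hlω⟩ :=
        roots_of_sq_three MB hdet r z hz0 hrF hMBr hns π hπm hπirr hπdvd hπsq
      have hω0 : ω ≠ 0 := by
        rintro rfl
        rw [mul_zero] at hlω
        exact zero_ne_one hlω
      have hrq1 : r ∣ q - 1 := by
        have h1 : orderOf ω = r := by
          haveI := Fact.mk hr
          exact orderOf_eq_prime hωr hω1
        rw [← h1, hq]
        exact orderOf_dvd_of_pow_eq_one (FiniteField.pow_card_sub_one_eq_one ω hω0)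
      refine ⟨by rw [hk1 hrq1], fun _ hr3 => ?_⟩
      subst hr3
      have hl0 : l ≠ 0 := by
        rintro rfl
        simp at hlω
      have hl9 : l ^ 9 = 1 := by
        have h1 : (l ^ 3 * ω) ^ 3 = 1 := by rw [hlω, one_pow]
        rw [mul_pow, hωr, mul_one, ← pow_mul] at h1
        exact h1
      have hl3 : l ^ 3 ≠ 1 := by
        intro h
        rw [h, one_mul] at hlω
        exact hω1 hlω
      by_contra h9
      have hq1 : l ^ (q - 1) = 1 := by
        rw [hq]
        exact FiniteField.pow_card_sub_one_eq_one l hl0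
      have hgcd : l ^ Nat.gcd 9 (q - 1) = 1 := pow_gcd_eq_one.2 ⟨hl9, hq1⟩
      have hg3 : Nat.gcd 9 (q - 1) ∣ 3 := by
        have h1 : Nat.gcd 9 (q - 1) ∣ 9 := Nat.gcd_dvd_left _ _
        have h2 : Nat.gcd 9 (q - 1) ≠ 9 := fun h => h9 (h ▸ Nat.gcd_dvd_right _ _)
        have h3 : Nat.gcd 9 (q - 1) ∈ Nat.divisors 9 := Nat.mem_divisors.mpr ⟨h1, by norm_num⟩
        have h4 : Nat.divisors 9 = {1, 3, 9} := by decide
        rw [h4] at h3
        simp only [Finset.mem_insert, Finset.mem_singleton] at h3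
        rcases h3 with h3 | h3 | h3
        · rw [h3]; norm_num
        · rw [h3]
        · exact absurd h3 h2
      obtain ⟨c, hc⟩ := hg3
      apply hl3
      rw [hc, pow_mul, hgcd, one_pow]
  · refine ⟨?_, fun h3 => by omega⟩
    by_cases hrq1 : r ∣ q - 1
    · rw [hk1 hrq1]
      omega
    · obtain ⟨MB₁, hMB₁⟩ : ∃ MB₁ : Matrix (Fin n) (Fin n) F, MB₁ = MB ^ (q - 1) := ⟨_, rfl⟩
      have hB₁r : MB₁ ^ r = 1 := by
        have h1 := Cfsg.Agent.Lib.Helper40.sl_center_pow n (by omega) (B ^ r) hBr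
        have h2 := congrArg Subtype.val h1
        rw [Matrix.SpecialLinearGroup.coe_pow, Matrix.SpecialLinearGroup.coe_pow, ← hq] at h2
        rw [hMB₁, ← pow_mul, mul_comm, pow_mul, hMB, h2]
        rfl
      have hB₁1 : MB₁ ≠ 1 := by
        intro h
        apply hrq1
        apply (hBcen (q - 1)).mp
        have h1 : B ^ (q - 1) = 1 := by
          apply Subtype.ext
          rw [Matrix.SpecialLinearGroup.coe_pow, ← hMB, ← hMB₁, h]
          rfl
        rw [h1]
        exact Subgroup.one_mem _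
      have hAB₁ : MA * MB₁ = MB₁ * MA := by
        rw [hMB₁]
        exact ((show Commute MA MB from hcm.symm).pow_right _).eq
      obtain ⟨j, hj1, hjn, hjdvd⟩ := Cfsg.Agent.Lib.Helper40.exists_dvd_pow_sub_one p hn4 r hr hrp
        MA MB₁ hAB₁ hMAp hMA1 hB₁r hB₁1
      rw [← hq] at hjdvd
      have := Nat.le_of_dvd (by omega) (hkdvd j hjdvd)
      omega

end bound

section exist

variable {F : Type*} [Field F] [Fintype F]

/-- The image in `PSL_n(q)` of `ζ • diag(U, B)`, with `U` a transvection and `B` of order `r`, has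
order `r * p`. -/
theorem psl_exists_of_matrix (p : ℕ) [Fact p.Prime] [CharP F p] (n m : ℕ) (hnm : n = m + 2)
    (r : ℕ) (hr : r.Prime) (hrp : r ≠ p) (B : Matrix (Fin m) (Fin m) F) (ζ : F)
    (hdet : ζ ^ n * B.det = 1) (hB : ∀ j : ℕ, B ^ j = 1 ↔ r ∣ j) :
    ∃ g : Matrix.ProjectiveSpecialLinearGroup (Fin n) F, orderOf g = r * p := by
  classical
  have hpp : p.Prime := Fact.out
  have hcard : Fintype.card ((Fin 1 ⊕ Fin 1) ⊕ Fin m) = n := by
    simp only [Fintype.card_sum, Fintype.card_fin]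
    omega
  obtain ⟨φ, hφ⟩ : ∃ φ : Matrix ((Fin 1 ⊕ Fin 1) ⊕ Fin m) ((Fin 1 ⊕ Fin 1) ⊕ Fin m) F ≃ₐ[F]
      Matrix (Fin n) (Fin n) F, ∀ M, (φ M).det = M.det :=
    ⟨Matrix.reindexAlgEquiv F F (Fintype.equivFinOfCardEq hcard),
      fun M => Matrix.det_reindexAlgEquiv _ _ _ _⟩
  obtain ⟨U, hU⟩ : ∃ U : Matrix (Fin 1 ⊕ Fin 1) (Fin 1 ⊕ Fin 1) F,
      U = (fromBlocks 1 1 0 1 : Matrix (Fin 1 ⊕ Fin 1) (Fin 1 ⊕ Fin 1) F) := ⟨_, rfl⟩
  obtain ⟨M, hM⟩ : ∃ M : Matrix ((Fin 1 ⊕ Fin 1) ⊕ Fin m) ((Fin 1 ⊕ Fin 1) ⊕ Fin m) F,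
      M = ζ • fromBlocks U 0 0 B := ⟨_, rfl⟩
  have hζ0 : ζ ≠ 0 := by
    rintro rfl
    rw [zero_pow (by omega), zero_mul] at hdet
    exact zero_ne_one hdet
  have hUdet : U.det = 1 := by
    rw [hU, Matrix.det_fromBlocks_zero₂₁, Matrix.det_one, one_mul]
  have hMdet : M.det = 1 := by
    rw [hM, Matrix.det_smul, Matrix.det_fromBlocks_zero₂₁, hUdet, one_mul, hcard]
    exact hdet
  obtain ⟨g, hgdef⟩ : ∃ g : Matrix.SpecialLinearGroup (Fin n) F, g.1 = φ M :=
    ⟨⟨φ M, by rw [hφ, hMdet]⟩, rfl⟩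
  have hMpow : ∀ j : ℕ, M ^ j = ζ ^ j • fromBlocks
      (fromBlocks 1 ((j : F) • (1 : Matrix (Fin 1) (Fin 1) F)) 0 1 :
        Matrix (Fin 1 ⊕ Fin 1) (Fin 1 ⊕ Fin 1) F) 0 0 (B ^ j) := by
    intro j
    rw [hM, _root_.smul_pow, fromBlocks_diagonal_pow, hU, Cfsg.Agent.Lib.Helper40.PSpRP.U_pow]
  have key : ∀ j : ℕ, (QuotientGroup.mk g : Matrix.ProjectiveSpecialLinearGroup (Fin n) F) ^ j = 1 ↔
      r * p ∣ j := by
    intro j
    rw [← QuotientGroup.mk_pow, QuotientGroup.eq_one_iff,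
      Matrix.SpecialLinearGroup.mem_center_iff]
    constructor
    · rintro ⟨c, hcc, hc⟩
      rw [Matrix.SpecialLinearGroup.coe_pow, hgdef, ← map_pow, scalar_eq_smul_one] at hc
      have h1 : M ^ j = c • 1 := by
        apply φ.injective
        rw [← hc, map_smul, map_one]
      rw [hMpow j] at h1
      have h2 : fromBlocks (fromBlocks 1 ((j : F) • (1 : Matrix (Fin 1) (Fin 1) F)) 0 1 :
          Matrix (Fin 1 ⊕ Fin 1) (Fin 1 ⊕ Fin 1) F) 0 0 (B ^ j) = ((ζ ^ j)⁻¹ * c) •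
            (1 : Matrix ((Fin 1 ⊕ Fin 1) ⊕ Fin m) ((Fin 1 ⊕ Fin 1) ⊕ Fin m) F) := by
        rw [mul_smul, ← h1, smul_smul, inv_mul_cancel₀ (pow_ne_zero j hζ0), one_smul]
      rw [← fromBlocks_one, fromBlocks_smul, smul_zero] at h2
      obtain ⟨h11, -, -, h22⟩ := fromBlocks_inj.mp h2
      rw [← fromBlocks_one, fromBlocks_smul] at h11
      obtain ⟨h11a, h11b, -, -⟩ := fromBlocks_inj.mp h11
      have hc1 : (ζ ^ j)⁻¹ * c = 1 := by
        have := congrFun (congrFun h11a 0) 0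
        simpa using this.symm
      have hj0 : (j : F) = 0 := by
        have := congrFun (congrFun h11b 0) 0
        simpa using this
      have hpj : p ∣ j := (CharP.cast_eq_zero_iff F p j).mp hj0
      rw [hc1, one_smul] at h22
      have hrj : r ∣ j := (hB j).mp h22
      exact Nat.Coprime.mul_dvd_of_dvd_of_dvd ((Nat.coprime_primes hr hpp).mpr hrp) hrj hpj
    · rintro ⟨c, rfl⟩
      have e1 : B ^ (r * p * c) = 1 := (hB _).mpr (Dvd.dvd.mul_right (dvd_mul_right r p) c)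
      have e2 : ((r * p * c : ℕ) : F) = 0 := by
        rw [CharP.cast_eq_zero_iff F p]
        exact Dvd.dvd.mul_right (dvd_mul_left p r) c
      have e3 : M ^ (r * p * c) = ζ ^ (r * p * c) • 1 := by
        rw [hMpow, e1, e2, zero_smul, fromBlocks_one, fromBlocks_one]
      refine ⟨ζ ^ (r * p * c), ?_, ?_⟩
      · have h1 := congrArg Matrix.det e3
        rw [Matrix.det_pow, hMdet, one_pow, Matrix.det_smul, Matrix.det_one, mul_one, hcard] at h1
        rw [Fintype.card_fin]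
        exact h1.symm
      · rw [Matrix.SpecialLinearGroup.coe_pow, hgdef, ← map_pow, e3, map_smul, map_one,
          scalar_eq_smul_one]
  refine ⟨QuotientGroup.mk g, ?_⟩
  apply Nat.dvd_antisymm
  · exact orderOf_dvd_of_pow_eq_one ((key _).mpr dvd_rfl)
  · exact (key _).mp (pow_orderOf_eq_one _)

/-- If `k ≤ n - 2`, and not (`n = 3`, `r = 3`, `3 ∥ q - 1`), then `PSL_n(q)` has an element of
order `r * p`. -/
theorem psl_rp_exists (p : ℕ) [Fact p.Prime] [CharP F p] (n : ℕ) (r : ℕ)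
    (hr : r.Prime) (hrp : r ≠ p) (k : ℕ)
    (hk : k = orderOf ((Fintype.card F : ℕ) : ZMod r)) (hkn : k ≤ n - 2)
    (hexc : ¬ (n = 3 ∧ r = 3 ∧ 3 ∣ Fintype.card F - 1 ∧ ¬ 9 ∣ Fintype.card F - 1)) :
    ∃ g : Matrix.ProjectiveSpecialLinearGroup (Fin n) F, orderOf g = r * p := by
  classical
  have hpp : p.Prime := Fact.out
  obtain ⟨q, hq⟩ : ∃ q : ℕ, q = Fintype.card F := ⟨_, rfl⟩
  rw [← hq] at hk hexc
  have hq2 : 2 ≤ q := hq ▸ Fintype.one_lt_card
  have hrq : ¬ r ∣ q := by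
    obtain ⟨f, -, hf⟩ := FiniteField.card F p
    rw [hq, hf]
    intro h
    exact hrp ((Nat.prime_dvd_prime_iff_eq hr hpp).1 (hr.dvd_of_dvd_pow h))
  haveI := Fact.mk hr
  have hkdvd : k ∣ r - 1 := by
    rw [hk]
    apply ZMod.orderOf_dvd_card_sub_one
    rw [Ne, ZMod.natCast_eq_zero_iff]
    exact hrq
  have hk0 : 0 < k := Nat.pos_of_dvd_of_pos hkdvd (by have := hr.two_le; omega)
  have hrk : r ∣ q ^ k - 1 := by
    have h1 : ((q : ℕ) : ZMod r) ^ k = 1 := by
      rw [hk]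
      exact pow_orderOf_eq_one _
    rw [← ZMod.natCast_eq_zero_iff, Nat.cast_sub (Nat.one_le_pow _ _ (by omega)), Nat.cast_pow,
      h1, Nat.cast_one, sub_self]
  rcases Nat.lt_or_ge n 4 with hn4 | hn4
  · have hn3' : n = 3 := by omega
    have hk1 : k = 1 := by omega
    rw [hk1, pow_one] at hrk
    obtain ⟨r', hr'def⟩ : ∃ r' : ℕ, r' = if r = 3 then 9 else r := ⟨_, rfl⟩
    have hr'q : r' ∣ q - 1 := by
      rw [hr'def]
      split_ifs with h3
      · by_contra h9
        exact hexc ⟨hn3', h3, h3 ▸ hrk, h9⟩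
      · exact hrk
    have hr'3 : ∀ j : ℕ, r' ∣ 3 * j ↔ r ∣ j := by
      intro j
      rw [hr'def]
      split_ifs with h3
      · subst h3
        constructor
        · intro h
          omega
        · intro h
          omega
      · constructor
        · intro h
          have hcop : Nat.Coprime r 3 := (Nat.coprime_primes hr Nat.prime_three).mpr h3
          exact hcop.dvd_of_dvd_mul_left h
        · intro h
          exact Dvd.dvd.mul_left h 3
    have hr'0 : r' ≠ 0 := by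
      rw [hr'def]
      split_ifs with h3
      · norm_num
      · exact hr.ne_zero
    obtain ⟨ζu, hζu⟩ : ∃ ζ : Fˣ, orderOf ζ = r' := by
      obtain ⟨gen, hgen⟩ := IsCyclic.exists_ofOrder_eq_natCard (α := Fˣ)
      have hcardu : Nat.card Fˣ = q - 1 := by
        rw [Nat.card_units, Nat.card_eq_fintype_card, hq]
      rw [hcardu] at hgen
      refine ⟨gen ^ ((q - 1) / r'), ?_⟩
      rw [← hgen]
      exact orderOf_pow_orderOf_div (by rw [hgen]; omega) (by rw [hgen]; exact hr'q)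
    obtain ⟨ζ, hζ⟩ : ∃ ζ : F, ζ = (ζu : F) := ⟨_, rfl⟩
    have hζ0 : ζ ≠ 0 := by
      rw [hζ]
      exact ζu.ne_zero
    have hζpow : ∀ j : ℕ, ζ ^ j = 1 ↔ r' ∣ j := by
      intro j
      rw [← hζu, orderOf_dvd_iff_pow_eq_one, hζ, ← Units.val_pow_eq_pow_val, Units.val_eq_one]
    apply psl_exists_of_matrix p n 1 (by omega) r hr hrp
      ((ζ⁻¹ ^ 3) • (1 : Matrix (Fin 1) (Fin 1) F)) ζ
    · rw [Matrix.det_smul, Matrix.det_one, mul_one, Fintype.card_fin, pow_one, hn3', inv_pow,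
        mul_inv_cancel₀ (pow_ne_zero 3 hζ0)]
    · intro j
      rw [_root_.smul_pow, one_pow, ← hr'3 j, ← hζpow]
      constructor
      · intro h
        have h1 := congrFun (congrFun h 0) 0
        simp only [Matrix.smul_apply, Matrix.one_apply_eq, smul_eq_mul, mul_one] at h1
        rw [inv_pow, inv_pow, inv_eq_one, ← pow_mul] at h1
        exact h1
      · intro h
        have h1 : (ζ⁻¹ ^ 3) ^ j = 1 := by rw [inv_pow, inv_pow, ← pow_mul, h, inv_one]
        rw [h1, one_smul]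
  · have hdvd : r ∣ Nat.card (Matrix.SpecialLinearGroup (Fin (n - 2)) F) :=
      Cfsg.Agent.Lib.Helper40.dvd_card_SL_of p (n - 2) (by omega) r
        (Or.inr ⟨k, hk0, hkn, hq ▸ hrk⟩)
    obtain ⟨B, hB⟩ := exists_prime_orderOf_dvd_card' r hdvd
    apply psl_exists_of_matrix p n (n - 2) (by omega) r hr hrp B.1 1
    · rw [one_pow, one_mul]
      exact B.2
    · intro j
      rw [← hB, orderOf_dvd_iff_pow_eq_one, ← Matrix.SpecialLinearGroup.coe_pow]
      constructor
      · intro h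
        exact Subtype.ext h
      · intro h
        rw [h]
        rfl

/-- `PSL_n(q)` has no element of order `r * p` iff `k > n - 2` or `n = 3`, `r = 3` and `3`
divides `q - 1` exactly once. -/
theorem psl_rp_iff (p : ℕ) [Fact p.Prime] [CharP F p] (n : ℕ) (hn : 2 ≤ n) (r : ℕ)
    (hr : r.Prime) (hrp : r ≠ p) (k : ℕ)
    (hk : k = orderOf ((Fintype.card F : ℕ) : ZMod r)) :
    (r * p ∉ Set.range (orderOf : Matrix.ProjectiveSpecialLinearGroup (Fin n) F → ℕ)) ↔
      (n - 2 < k ∨ (n = 3 ∧ r = 3 ∧ 3 ∣ Fintype.card F - 1 ∧ ¬ 9 ∣ Fintype.card F - 1)) := by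
  constructor
  · intro h
    by_contra hcon
    rw [not_or] at hcon
    obtain ⟨g, hg⟩ := psl_rp_exists p n r hr hrp k hk (by omega) hcon.2
    exact h ⟨g, hg⟩
  · rintro h ⟨g, hg⟩
    obtain ⟨h1, h2⟩ := psl_rp_bound p n hn r hr hrp k hk g hg
    rcases h with h | ⟨h3, h4, -, h6⟩
    · omega
    · exact h6 (h2 h3 h4)

end exist

end Cfsg.Agent.Lib.Helper40.PSLRP
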