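import Mathlib
import Cfsg.Agent.Lib.Helper40.PSLRP
import Cfsg.Agent.Lib.Helper40.SLSylow

/-!
# Elements of order `r * s` in `PSL_n(q)`

For odd primes `r ≠ s` different from the characteristic, with `q` of orders `2 ≤ k ≤ l` modulo
`r` and `s`, `PSL_n(q)` has an element of order `r * s` iff `k + l ≤ n` or `k ∣ l`.
-/

set_option autoImplicit false
set_option linter.unusedSectionVars false
set_option linter.style.haveILetI false

namespace Cfsg.Agent.Lib.Helper40.PSLRS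

open Matrix Polynomial Cfsg.Agent.Lib.Helper40.PSLRP

section poly

variable {F : Type*} [Field F]

/-- A squarefree polynomial not dividing `h` has an irreducible factor not dividing `h`. -/
theorem exists_irreducible_dvd_not_dvd (μ h : F[X]) (hsq : Squarefree μ) (hnd : ¬ μ ∣ h) :
    ∃ π : F[X], π.Monic ∧ Irreducible π ∧ π ∣ μ ∧ ¬ π ∣ h := by
  classical
  obtain ⟨e, he⟩ : EuclideanDomain.gcd μ h ∣ μ := EuclideanDomain.gcd_dvd_left μ h
  have heu : ¬ IsUnit e := by
    intro hu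
    apply hnd
    have h1 : μ ∣ EuclideanDomain.gcd μ h := by
      obtain ⟨u, rfl⟩ := hu
      have h2 := (Units.mul_right_dvd (a := EuclideanDomain.gcd μ h) (u := u)
        (b := EuclideanDomain.gcd μ h)).mpr dvd_rfl
      rwa [← he] at h2
    exact h1.trans (EuclideanDomain.gcd_dvd_right μ h)
  have he0 : e ≠ 0 := by
    rintro rfl
    rw [mul_zero] at he
    rw [he] at hsq
    exact not_squarefree_zero hsq
  obtain ⟨π, hπirr, hπe⟩ := WfDvdMonoid.exists_irreducible_factor heu he0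
  have hπμ : π ∣ μ := hπe.trans ⟨_, by rw [he, mul_comm]⟩
  have hπh : ¬ π ∣ h := by
    intro hh
    have hπd : π ∣ EuclideanDomain.gcd μ h := EuclideanDomain.dvd_gcd hπμ hh
    have h2 : π * π ∣ μ := by
      rw [he]
      exact mul_dvd_mul hπd hπe
    exact hπirr.not_isUnit (hsq π h2)
  refine ⟨normalize π, Polynomial.monic_normalize hπirr.ne_zero, ?_, ?_, ?_⟩
  · exact (associated_normalize π).irreducible hπirr
  · exact normalize_dvd_iff.mpr hπμ
  · rw [normalize_dvd_iff]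
    exact hπh

variable [Fintype F]

/-- The field generated by a root of unity whose order is divisible by `r` has order `1` modulo
`r`. -/
theorem dvd_card_pow_sub_one (π : F[X]) (hπ : Irreducible π) (r s : ℕ) (hr : r.Prime)
    (hdvd : π ∣ X ^ (r * s) - 1) (hnd : ¬ π ∣ X ^ s - 1) :
    r ∣ Fintype.card F ^ π.natDegree - 1 := by
  have : Fact (Irreducible π) := ⟨hπ⟩
  let α : AdjoinRoot π := AdjoinRoot.root π
  have hαrs : α ^ (r * s) = 1 := by
    have h := AdjoinRoot.mk_eq_zero.2 hdvd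
    simpa [sub_eq_zero, α] using h
  have hαs : α ^ s ≠ 1 := by
    intro h
    apply hnd
    apply AdjoinRoot.mk_eq_zero.1
    simp only [map_sub, map_pow, AdjoinRoot.mk_X, map_one]
    exact sub_eq_zero.2 h
  obtain ⟨β, hβ⟩ : ∃ β : AdjoinRoot π, β = α ^ s := ⟨_, rfl⟩
  have hβr : β ^ r = 1 := by rw [hβ, ← pow_mul, mul_comm, hαrs]
  have hβ1 : β ≠ 1 := by
    rw [hβ]
    exact hαs
  have hβ0 : β ≠ 0 := by
    intro h
    rw [h, zero_pow hr.ne_zero] at hβr
    exact zero_ne_one hβr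
  have hfinE : Module.Finite F (AdjoinRoot π) := (AdjoinRoot.powerBasis hπ.ne_zero).finite
  have : Finite (AdjoinRoot π) := Module.finite_of_finite F
  have hcard : Nat.card (AdjoinRoot π) = Fintype.card F ^ π.natDegree := by
    rw [Module.natCard_eq_pow_finrank (K := F), (AdjoinRoot.powerBasis hπ.ne_zero).finrank,
      AdjoinRoot.powerBasis_dim, Nat.card_eq_fintype_card]
  have : Fact r.Prime := ⟨hr⟩
  have hord : orderOf (Units.mk0 β hβ0) = r := by
    apply orderOf_eq_prime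
    · apply Units.ext
      simpa using hβr
    · intro h
      apply hβ1
      have := congrArg Units.val h
      simpa using this
  have hdvd' : orderOf (Units.mk0 β hβ0) ∣ Nat.card (AdjoinRoot π)ˣ := orderOf_dvd_natCard _
  rw [hord, Nat.card_units, hcard] at hdvd'
  exact hdvd'

/-- `k = ord_r(q)` divides `j` whenever `r ∣ q ^ j - 1`. -/
theorem ord_dvd_of_dvd (q r k : ℕ) (hq : 1 ≤ q) (hk : k = orderOf ((q : ℕ) : ZMod r)) (j : ℕ)
    (hj : r ∣ q ^ j - 1) : k ∣ j := by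
  rw [hk]
  apply orderOf_dvd_of_pow_eq_one
  have h1 : ((q ^ j - 1 : ℕ) : ZMod r) = 0 := (ZMod.natCast_eq_zero_iff _ _).mpr hj
  rw [Nat.cast_sub (Nat.one_le_pow _ _ hq), Nat.cast_pow, Nat.cast_one, sub_eq_zero] at h1
  exact h1

/-- A matrix of order `r * s` forces `k + l ≤ n` or `k ∣ l`. -/
theorem matrix_rs_bound (p : ℕ) [Fact p.Prime] [CharP F p] (n : ℕ) (r s : ℕ) (hr : r.Prime)
    (hs : s.Prime) (hrp : r ≠ p) (hsp : s ≠ p) (k l : ℕ)
    (hk : k = orderOf ((Fintype.card F : ℕ) : ZMod r))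
    (hl : l = orderOf ((Fintype.card F : ℕ) : ZMod s)) (hkl : k ≤ l)
    (M : Matrix (Fin n) (Fin n) F) (hM : ∀ j : ℕ, M ^ j = 1 ↔ r * s ∣ j) :
    k + l ≤ n ∨ k ∣ l := by
  classical
  have hpp : p.Prime := Fact.out
  obtain ⟨q, hq⟩ : ∃ q : ℕ, q = Fintype.card F := ⟨_, rfl⟩
  rw [← hq] at hk hl
  have hq2 : 2 ≤ q := hq ▸ Fintype.one_lt_card
  have hrF : (r : F) ≠ 0 := by
    intro h
    rw [CharP.cast_eq_zero_iff F p] at h
    exact hrp ((Nat.prime_dvd_prime_iff_eq hpp hr).mp h).symm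
  have hsF : (s : F) ≠ 0 := by
    intro h
    rw [CharP.cast_eq_zero_iff F p] at h
    exact hsp ((Nat.prime_dvd_prime_iff_eq hpp hs).mp h).symm
  have hrsF : ((r * s : ℕ) : F) ≠ 0 := by
    rw [Nat.cast_mul]
    exact mul_ne_zero hrF hsF
  have hMrs : M ^ (r * s) = 1 := (hM _).mpr dvd_rfl
  obtain ⟨μ, hμ⟩ : ∃ μ : F[X], μ = minpoly F M := ⟨_, rfl⟩
  have hμdvd : μ ∣ X ^ (r * s) - 1 := by
    rw [hμ]
    apply minpoly.dvd
    simp [hMrs]
  have hsq : Squarefree μ := by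
    have h1 : Squarefree (X ^ (r * s) - C (1 : F)) :=
      (separable_X_pow_sub_C (1 : F) hrsF one_ne_zero).squarefree
    rw [C_1] at h1
    exact h1.squarefree_of_dvd hμdvd
  have hμχ : μ ∣ M.charpoly := by
    rw [hμ]
    exact Matrix.minpoly_dvd_charpoly M
  have hμs : ¬ μ ∣ X ^ s - 1 := by
    rintro ⟨c, hc⟩
    have h1 : aeval M (X ^ s - 1 : F[X]) = 0 := by rw [hc, map_mul, hμ, minpoly.aeval, zero_mul]
    have h2 : M ^ s = 1 := by simpa [sub_eq_zero] using h1
    have h3 := (hM s).mp h2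
    have h4 : r ∣ 1 := Nat.dvd_of_mul_dvd_mul_right hs.pos (by simpa using h3)
    exact hr.one_lt.ne' (Nat.dvd_one.mp h4)
  have hμr : ¬ μ ∣ X ^ r - 1 := by
    rintro ⟨c, hc⟩
    have h1 : aeval M (X ^ r - 1 : F[X]) = 0 := by rw [hc, map_mul, hμ, minpoly.aeval, zero_mul]
    have h2 : M ^ r = 1 := by simpa [sub_eq_zero] using h1
    have h3 := (hM r).mp h2
    have h4 : s ∣ 1 := Nat.dvd_of_mul_dvd_mul_left hr.pos (by simpa using h3)
    exact hs.one_lt.ne' (Nat.dvd_one.mp h4)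
  obtain ⟨π₁, hm₁, hirr₁, hdvd₁, hnd₁⟩ := exists_irreducible_dvd_not_dvd μ _ hsq hμs
  obtain ⟨π₂, hm₂, hirr₂, hdvd₂, hnd₂⟩ := exists_irreducible_dvd_not_dvd μ _ hsq hμr
  have hk₁ : k ∣ π₁.natDegree := ord_dvd_of_dvd q r k (by omega) hk _
    (hq ▸ dvd_card_pow_sub_one π₁ hirr₁ r s hr (hdvd₁.trans hμdvd) hnd₁)
  have hl₂ : l ∣ π₂.natDegree := ord_dvd_of_dvd q s l (by omega) hl _
    (hq ▸ dvd_card_pow_sub_one π₂ hirr₂ s r hs (by rw [mul_comm]; exact hdvd₂.trans hμdvd) hnd₂)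
  have hχd : M.charpoly.natDegree = n := by
    rw [Matrix.charpoly_natDegree_eq_dim, Fintype.card_fin]
  have hχ0 : M.charpoly ≠ 0 := (Matrix.charpoly_monic M).ne_zero
  have hd₁ : 0 < π₁.natDegree := hirr₁.natDegree_pos
  have hd₂ : 0 < π₂.natDegree := hirr₂.natDegree_pos
  by_cases h12 : π₁ = π₂
  · have hl₁ : l ∣ π₁.natDegree := h12 ▸ hl₂
    have hle : π₁.natDegree ≤ n := by
      rw [← hχd]
      exact Polynomial.natDegree_le_of_dvd (hdvd₁.trans hμχ) hχ0
    by_cases hkl' : k ∣ l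
    · exact Or.inr hkl'
    · left
      have hlcm : Nat.lcm k l ∣ π₁.natDegree := Nat.lcm_dvd hk₁ hl₁
      obtain ⟨t, ht⟩ : l ∣ Nat.lcm k l := Nat.dvd_lcm_right k l
      have hl0 : 0 < l := Nat.pos_of_dvd_of_pos hl₁ hd₁
      have hlcm0 : 0 < Nat.lcm k l := Nat.pos_of_dvd_of_pos hlcm hd₁
      have ht2 : 2 ≤ t := by
        rcases Nat.lt_or_ge t 2 with h | h
        · exfalso
          interval_cases t
          · rw [mul_zero] at ht
            omega
          · rw [mul_one] at ht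
            exact hkl' (ht ▸ Nat.dvd_lcm_left k l)
        · exact h
      have h1 : Nat.lcm k l ≤ π₁.natDegree := Nat.le_of_dvd hd₁ hlcm
      have h2 : 2 * l ≤ l * t := by nlinarith
      omega
  · left
    have hcop : IsCoprime π₁ π₂ := by
      apply (hirr₁.coprime_iff_not_dvd).mpr
      intro h
      exact h12 (eq_of_monic_of_associated hm₁ hm₂ (hirr₁.associated_of_dvd hirr₂ h))
    have hprod : π₁ * π₂ ∣ M.charpoly := (hcop.mul_dvd hdvd₁ hdvd₂).trans hμχ
    have hle := Polynomial.natDegree_le_of_dvd hprod hχ0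
    rw [hm₁.natDegree_mul hm₂, hχd] at hle
    have h1 := Nat.le_of_dvd hd₁ hk₁
    have h2 := Nat.le_of_dvd hd₂ hl₂
    omega

end poly

section psl

variable {F : Type*} [Field F] [Fintype F]

/-- For `N` coprime to `q - 1`, `PSL_n(q)` has an element of order `N` iff some `n × n` matrix has
order `N`. -/
theorem psl_order_iff_matrix (n : ℕ) (hn : 1 ≤ n) (N : ℕ) (hN0 : 0 < N)
    (hN : Nat.Coprime N (Fintype.card F - 1)) :
    (∃ g : Matrix.ProjectiveSpecialLinearGroup (Fin n) F, orderOf g = N) ↔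
      ∃ M : Matrix (Fin n) (Fin n) F, ∀ j : ℕ, M ^ j = 1 ↔ N ∣ j := by
  classical
  constructor
  · rintro ⟨g, hg⟩
    obtain ⟨G₀, hG₀⟩ := QuotientGroup.mk_surjective g
    refine ⟨(G₀ ^ (Fintype.card F - 1)).1, ?_⟩
    intro j
    constructor
    · intro h
      have h1 : (G₀ ^ (Fintype.card F - 1)) ^ j = 1 := by
        apply Subtype.ext
        rw [Matrix.SpecialLinearGroup.coe_pow]
        exact h
      have h2 : g ^ ((Fintype.card F - 1) * j) = 1 := by
        rw [← hG₀, ← QuotientGroup.mk_pow, pow_mul, h1]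
        rfl
      have h3 := orderOf_dvd_of_pow_eq_one h2
      rw [hg] at h3
      exact hN.dvd_of_dvd_mul_left h3
    · rintro ⟨c, rfl⟩
      have h1 : (G₀ ^ (Fintype.card F - 1)) ^ N = 1 :=
        Cfsg.Agent.Lib.Helper40.sl_lift_pow n hn G₀ N (by
          rw [hG₀, ← hg]
          exact pow_orderOf_eq_one g)
      show ((G₀ ^ (Fintype.card F - 1)).1) ^ (N * c) = 1
      rw [← Matrix.SpecialLinearGroup.coe_pow, pow_mul, h1, one_pow]
      rfl
  · rintro ⟨M, hM⟩
    have hMN : M ^ N = 1 := (hM N).mpr dvd_rfl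
    have hdet : M.det = 1 := by
      have h1 : M.det ^ N = 1 := by rw [← Matrix.det_pow, hMN, Matrix.det_one]
      have h0 : M.det ≠ 0 := by
        intro h
        rw [h, zero_pow hN0.ne'] at h1
        exact zero_ne_one h1
      have h2 : M.det ^ (Fintype.card F - 1) = 1 := FiniteField.pow_card_sub_one_eq_one _ h0
      have h3 := pow_gcd_eq_one.2 ⟨h1, h2⟩
      rwa [hN, pow_one] at h3
    obtain ⟨G, hG⟩ : ∃ G : Matrix.SpecialLinearGroup (Fin n) F, G.1 = M := ⟨⟨M, hdet⟩, rfl⟩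
    have key : ∀ j : ℕ, (QuotientGroup.mk G : Matrix.ProjectiveSpecialLinearGroup (Fin n) F) ^ j
        = 1 ↔ N ∣ j := by
      intro j
      rw [← QuotientGroup.mk_pow, QuotientGroup.eq_one_iff,
        Matrix.SpecialLinearGroup.mem_center_iff]
      constructor
      · rintro ⟨c, hcc, hc⟩
        rw [Matrix.SpecialLinearGroup.coe_pow, hG, scalar_eq_smul_one] at hc
        have hcN : c ^ N = 1 := by
          have h1 : (M ^ j) ^ N = 1 := by rw [← pow_mul, mul_comm, pow_mul, hMN, one_pow]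
          rw [← hc, _root_.smul_pow, one_pow] at h1
          have h2 := congrFun (congrFun h1 ⟨0, by omega⟩) ⟨0, by omega⟩
          simpa using h2
        have hc0 : c ≠ 0 := by
          intro h
          rw [h, zero_pow hN0.ne'] at hcN
          exact zero_ne_one hcN
        have hc1 : c = 1 := by
          have h3 := pow_gcd_eq_one.2 ⟨hcN, FiniteField.pow_card_sub_one_eq_one c hc0⟩
          rwa [hN, pow_one] at h3
        rw [hc1, one_smul] at hc
        exact (hM j).mp hc.symm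
      · intro h
        refine ⟨1, one_pow _, ?_⟩
        rw [Matrix.SpecialLinearGroup.coe_pow, hG, (hM j).mpr h, map_one]
    refine ⟨QuotientGroup.mk G, ?_⟩
    apply Nat.dvd_antisymm
    · exact orderOf_dvd_of_pow_eq_one ((key _).mpr dvd_rfl)
    · exact (key _).mp (pow_orderOf_eq_one _)

/-- A Singer cycle: a `d × d` matrix of order `q ^ d - 1`. -/
theorem singer (d : ℕ) (hd : 1 ≤ d) :
    ∃ M : Matrix (Fin d) (Fin d) F, ∀ j : ℕ, M ^ j = 1 ↔ Fintype.card F ^ d - 1 ∣ j := by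
  classical
  obtain ⟨p, hp⟩ := CharP.exists F
  have hpp : Fact p.Prime := ⟨CharP.char_is_prime F p⟩
  have hdz : NeZero d := ⟨by omega⟩
  let K := FiniteField.Extension F p d
  have hfin : Module.finrank F K = d := FiniteField.finrank_extension F p d
  have : Fintype K := Fintype.ofFinite K
  let b : Module.Basis (Fin d) F K := Module.finBasisOfFinrankEq F K hfin
  let L : K →ₐ[F] Matrix (Fin d) (Fin d) F := Algebra.leftMulMatrix b
  have hL : Function.Injective L := Algebra.leftMulMatrix_injective b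
  obtain ⟨ζ, hζ⟩ := IsCyclic.exists_generator (α := Kˣ)
  have hcardK : Fintype.card K = Fintype.card F ^ d := by
    rw [← Nat.card_eq_fintype_card, FiniteField.natCard_extension, Nat.card_eq_fintype_card]
  have hordζ : orderOf ζ = Fintype.card F ^ d - 1 := by
    rw [orderOf_eq_card_of_forall_mem_zpowers hζ, Nat.card_eq_fintype_card, Fintype.card_units,
      hcardK]
  refine ⟨L (ζ : K), ?_⟩
  intro j
  rw [← hordζ, orderOf_dvd_iff_pow_eq_one, ← map_pow]
  constructor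
  · intro h
    apply Units.ext
    rw [Units.val_pow_eq_pow_val, Units.val_one]
    apply hL
    rw [h, map_one]
  · intro h
    rw [← Units.val_pow_eq_pow_val, h, Units.val_one, map_one]

omit [Fintype F] in
/-- Padding a matrix of order `N` by an identity block. -/
theorem pad (a n : ℕ) (han : a ≤ n) (N : ℕ) (M₁ : Matrix (Fin a) (Fin a) F)
    (h₁ : ∀ j : ℕ, M₁ ^ j = 1 ↔ N ∣ j) :
    ∃ M : Matrix (Fin n) (Fin n) F, ∀ j : ℕ, M ^ j = 1 ↔ N ∣ j := by
  classical
  have hcard : Fintype.card (Fin a ⊕ Fin (n - a)) = n := by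
    simp only [Fintype.card_sum, Fintype.card_fin]
    omega
  obtain ⟨φ, -⟩ : ∃ φ : Matrix (Fin a ⊕ Fin (n - a)) (Fin a ⊕ Fin (n - a)) F ≃ₐ[F]
      Matrix (Fin n) (Fin n) F, True :=
    ⟨Matrix.reindexAlgEquiv F F (Fintype.equivFinOfCardEq hcard), trivial⟩
  refine ⟨φ (fromBlocks M₁ 0 0 1), fun j => ?_⟩
  rw [← map_pow, fromBlocks_diagonal_pow, one_pow, ← h₁ j]
  constructor
  · intro h
    have h2 : fromBlocks (M₁ ^ j) 0 0 1 = (1 : Matrix (Fin a ⊕ Fin (n - a)) (Fin a ⊕ Fin (n - a)) F)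
        := by
      apply φ.injective
      rw [h, map_one]
    rw [← fromBlocks_one] at h2
    exact (fromBlocks_inj.mp h2).1
  · intro h
    rw [h, fromBlocks_one, map_one]

omit [Fintype F] in
/-- The block sum of matrices of coprime orders `r`, `s` has order `r * s`. -/
theorem prod_blocks (a b r s : ℕ) (hcop : Nat.Coprime r s) (M₁ : Matrix (Fin a) (Fin a) F)
    (M₂ : Matrix (Fin b) (Fin b) F) (h₁ : ∀ j : ℕ, M₁ ^ j = 1 ↔ r ∣ j)
    (h₂ : ∀ j : ℕ, M₂ ^ j = 1 ↔ s ∣ j) :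
    ∃ M : Matrix (Fin (a + b)) (Fin (a + b)) F, ∀ j : ℕ, M ^ j = 1 ↔ r * s ∣ j := by
  classical
  have hcard : Fintype.card (Fin a ⊕ Fin b) = a + b := by
    simp only [Fintype.card_sum, Fintype.card_fin]
  obtain ⟨φ, -⟩ : ∃ φ : Matrix (Fin a ⊕ Fin b) (Fin a ⊕ Fin b) F ≃ₐ[F]
      Matrix (Fin (a + b)) (Fin (a + b)) F, True :=
    ⟨Matrix.reindexAlgEquiv F F (Fintype.equivFinOfCardEq hcard), trivial⟩
  refine ⟨φ (fromBlocks M₁ 0 0 M₂), fun j => ?_⟩
  rw [← map_pow, fromBlocks_diagonal_pow]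
  constructor
  · intro h
    have h2 : fromBlocks (M₁ ^ j) 0 0 (M₂ ^ j) = (1 : Matrix (Fin a ⊕ Fin b) (Fin a ⊕ Fin b) F) := by
      apply φ.injective
      rw [h, map_one]
    rw [← fromBlocks_one] at h2
    obtain ⟨h11, -, -, h22⟩ := fromBlocks_inj.mp h2
    exact hcop.mul_dvd_of_dvd_of_dvd ((h₁ j).mp h11) ((h₂ j).mp h22)
  · intro h
    rw [(h₁ j).mpr ((dvd_mul_right r s).trans h), (h₂ j).mpr ((dvd_mul_left s r).trans h),
      fromBlocks_one, map_one]

/-- A matrix of prime order `r` in dimension `m ≥ 2` when `r ∣ q ^ j - 1` for some `j ≤ m`. -/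
theorem exists_matrix_prime_order (p : ℕ) [Fact p.Prime] [CharP F p] (m : ℕ) (hm : 2 ≤ m)
    (r : ℕ) (hr : r.Prime) (h : ∃ j, 1 ≤ j ∧ j ≤ m ∧ r ∣ Fintype.card F ^ j - 1) :
    ∃ M : Matrix (Fin m) (Fin m) F, ∀ j : ℕ, M ^ j = 1 ↔ r ∣ j := by
  haveI := Fact.mk hr
  have hdvd : r ∣ Nat.card (Matrix.SpecialLinearGroup (Fin m) F) :=
    Cfsg.Agent.Lib.Helper40.dvd_card_SL_of p m hm r (Or.inr h)
  obtain ⟨B, hB⟩ := exists_prime_orderOf_dvd_card' r hdvd
  refine ⟨B.1, fun j => ?_⟩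
  rw [← hB, orderOf_dvd_iff_pow_eq_one, ← Matrix.SpecialLinearGroup.coe_pow]
  constructor
  · intro h
    exact Subtype.ext h
  · intro h
    rw [h]
    rfl

/-- A prime `s ≠ p` dividing the order of `PSL_n(q)` divides some `q ^ i - 1`, `1 ≤ i ≤ n`. -/
theorem exists_dvd_of_dvd_card_PSL (p : ℕ) [Fact p.Prime] [CharP F p] (n : ℕ) (hn : 1 ≤ n)
    (s : ℕ) (hs : s.Prime) (hsp : s ≠ p)
    (h : s ∣ Nat.card (Matrix.ProjectiveSpecialLinearGroup (Fin n) F)) :
    ∃ i, 1 ≤ i ∧ i ≤ n ∧ s ∣ Fintype.card F ^ i - 1 := by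
  classical
  have hpp : p.Prime := Fact.out
  have h1 : Nat.card (Matrix.ProjectiveSpecialLinearGroup (Fin n) F) ∣
      Nat.card (Matrix.SpecialLinearGroup (Fin n) F) := Subgroup.card_quotient_dvd_card _
  have h2 := Cfsg.Agent.Lib.Helper40.card_GL_eq_card_SL_mul (F := F) n hn
  have h3 : s ∣ Nat.card (Matrix.GeneralLinearGroup (Fin n) F) := by
    rw [h2]
    exact Dvd.dvd.mul_right (h.trans h1) _
  rw [Matrix.card_GL_field] at h3
  obtain ⟨i, -, hi⟩ := (Nat.Prime.prime hs).exists_mem_finset_dvd h3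
  refine ⟨n - i, by omega, by omega, ?_⟩
  have hfac : Fintype.card F ^ n - Fintype.card F ^ (i : ℕ) =
      Fintype.card F ^ (i : ℕ) * (Fintype.card F ^ (n - i) - 1) := by
    rw [Nat.mul_sub, mul_one, ← pow_add]
    congr 2
    omega
  rw [hfac] at hi
  rcases (Nat.Prime.dvd_mul hs).mp hi with h4 | h4
  · exfalso
    obtain ⟨f, -, hf⟩ := FiniteField.card F p
    rw [hf] at h4
    exact hsp ((Nat.prime_dvd_prime_iff_eq hs hpp).1 (hs.dvd_of_dvd_pow (hs.dvd_of_dvd_pow h4)))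
  · exact h4

/-- `PSL_n(q)` has no element of order `r * s` iff `n < k + l` and `k ∤ l`. -/
theorem psl_rs_iff (p : ℕ) [Fact p.Prime] [CharP F p] (n : ℕ) (hn : 2 ≤ n)
    (r s : ℕ) (hr : r.Prime) (hs : s.Prime) (hrp : r ≠ p) (hsp : s ≠ p) (hrs : r ≠ s)
    (hsG : s ∣ Nat.card (Matrix.ProjectiveSpecialLinearGroup (Fin n) F))
    (k l : ℕ) (hk : k = orderOf ((Fintype.card F : ℕ) : ZMod r))
    (hl : l = orderOf ((Fintype.card F : ℕ) : ZMod s)) (h2k : 2 ≤ k) (hkl : k ≤ l) :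
    (r * s ∉ Set.range (orderOf : Matrix.ProjectiveSpecialLinearGroup (Fin n) F → ℕ)) ↔
      (n < k + l ∧ ¬ k ∣ l) := by
  classical
  have hpp : p.Prime := Fact.out
  obtain ⟨q, hq⟩ : ∃ q : ℕ, q = Fintype.card F := ⟨_, rfl⟩
  have hq2 : 2 ≤ q := hq ▸ Fintype.one_lt_card
  have hk' : k = orderOf ((q : ℕ) : ZMod r) := by rw [hq]; exact hk
  have hl' : l = orderOf ((q : ℕ) : ZMod s) := by rw [hq]; exact hl
  have hr1 : ¬ r ∣ q - 1 := by
    intro h
    have h1 := ord_dvd_of_dvd q r k (by omega) hk' 1 (by rwa [pow_one])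
    have := Nat.dvd_one.mp h1
    omega
  have hs1 : ¬ s ∣ q - 1 := by
    intro h
    have h1 := ord_dvd_of_dvd q s l (by omega) hl' 1 (by rwa [pow_one])
    have := Nat.dvd_one.mp h1
    omega
  have hcop : Nat.Coprime (r * s) (Fintype.card F - 1) := by
    rw [← hq]
    exact Nat.Coprime.mul_left ((Nat.Prime.coprime_iff_not_dvd hr).2 hr1)
      ((Nat.Prime.coprime_iff_not_dvd hs).2 hs1)
  have hrscop : Nat.Coprime r s := (Nat.coprime_primes hr hs).mpr hrs
  have hiff := psl_order_iff_matrix (F := F) n (by omega) (r * s) (Nat.mul_pos hr.pos hs.pos) hcop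
  have hrk : r ∣ q ^ k - 1 := by
    have h1 : ((q : ℕ) : ZMod r) ^ k = 1 := by
      rw [hk']
      exact pow_orderOf_eq_one _
    rw [← ZMod.natCast_eq_zero_iff, Nat.cast_sub (Nat.one_le_pow _ _ (by omega)), Nat.cast_pow,
      h1, Nat.cast_one, sub_self]
  have hsl : s ∣ q ^ l - 1 := by
    have h1 : ((q : ℕ) : ZMod s) ^ l = 1 := by
      rw [hl']
      exact pow_orderOf_eq_one _
    rw [← ZMod.natCast_eq_zero_iff, Nat.cast_sub (Nat.one_le_pow _ _ (by omega)), Nat.cast_pow,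
      h1, Nat.cast_one, sub_self]
  constructor
  · intro h
    by_contra hcon
    apply h
    have hcase : k + l ≤ n ∨ k ∣ l := by
      by_cases h1 : k ∣ l
      · exact Or.inr h1
      · left
        by_contra h2
        exact hcon ⟨by omega, h1⟩
    have hmat : ∃ M : Matrix (Fin n) (Fin n) F, ∀ j : ℕ, M ^ j = 1 ↔ r * s ∣ j := by
      rcases hcase with hc | hc
      · obtain ⟨M₁, hM₁⟩ := exists_matrix_prime_order p k h2k r hr ⟨k, by omega, le_refl _, hq ▸ hrk⟩
        obtain ⟨M₂, hM₂⟩ := exists_matrix_prime_order p l (by omega) s hs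
          ⟨l, by omega, le_refl _, hq ▸ hsl⟩
        obtain ⟨M₃, hM₃⟩ := prod_blocks k l r s hrscop M₁ M₂ hM₁ hM₂
        exact pad (k + l) n hc (r * s) M₃ hM₃
      · obtain ⟨i, hi1, hin, hi⟩ := exists_dvd_of_dvd_card_PSL p n (by omega) s hs hsp hsG
        have hli : l ∣ i := ord_dvd_of_dvd q s l (by omega) hl' i (hq ▸ hi)
        have hln : l ≤ n := (Nat.le_of_dvd (by omega) hli).trans hin
        obtain ⟨M₀, hM₀⟩ := singer (F := F) l (by omega)
        rw [← hq] at hM₀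
        have hrl : r ∣ q ^ l - 1 := hrk.trans (Nat.pow_sub_one_dvd_pow_sub_one q hc)
        obtain ⟨c, hc'⟩ : r * s ∣ q ^ l - 1 := hrscop.mul_dvd_of_dvd_of_dvd hrl hsl
        have hQ0 : 0 < q ^ l - 1 := by
          have : 2 ^ l ≤ q ^ l := Nat.pow_le_pow_left hq2 l
          have : 2 ≤ 2 ^ l := by
            calc 2 = 2 ^ 1 := by norm_num
              _ ≤ 2 ^ l := Nat.pow_le_pow_right (by norm_num) (by omega)
          omega
        have hc0 : 0 < c := by
          rcases Nat.eq_zero_or_pos c with h0 | h0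
          · rw [h0, mul_zero] at hc'
            omega
          · exact h0
        apply pad l n hln (r * s) (M₀ ^ c)
        intro j
        rw [← pow_mul, hM₀, hc', mul_comm (r * s) c]
        exact Nat.mul_dvd_mul_iff_left hc0
    obtain ⟨g, hg⟩ := hiff.mpr hmat
    exact ⟨g, hg⟩
  · rintro ⟨h1, h2⟩ ⟨g, hg⟩
    obtain ⟨M, hM⟩ := hiff.mp ⟨g, hg⟩
    rcases matrix_rs_bound p n r s hr hs hrp hsp k l hk hl hkl M hM with h | h
    · omega
    · exact h2 h

end psl

end Cfsg.Agent.Lib.Helper40.PSLRS
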