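import Mathlib
import Cfsg.Agent.Lib.Helper40.PSLRS
import Cfsg.Agent.Lib.Helper40.PSpRP
import Cfsg.Agent.Lib.Helper40.DualFactor

/-!
# Elements of order `r * s` in `PSp_{2n}(q)`

For odd primes `r ≠ s` different from the characteristic, `PSp_{2n}(q)` has an element of order
`r * s` iff `η(k) + η(l) ≤ n` or `l / k` is an odd integer, where `k`, `l` are the orders of `q`
modulo `r`, `s` (and `η(k) ≤ η(l)`).
-/

set_option autoImplicit false
set_option linter.unusedSectionVars false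
set_option linter.style.haveILetI false

namespace Cfsg.Agent.Lib.Helper40.PSpRS

open Matrix Polynomial Cfsg.Agent.Lib.Helper40.DualPoly Cfsg.Agent.Lib.Helper40.SpExist
  Cfsg.Agent.Lib.Helper40.PSLRS Cfsg.Agent.Lib.Helper40.PrimeOrderGL
  Cfsg.Agent.Lib.Helper40.GUPrimeOrder

section hull

variable {F : Type*} [Field F]

/-- Distinct irreducibles separated by a polynomial are coprime. -/
theorem coprime_of_dvd_not_dvd (f g Q : F[X]) (hf : Irreducible f) (hg : Irreducible g)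
    (hfQ : f ∣ Q) (hgQ : ¬ g ∣ Q) : IsCoprime f g := by
  apply (hf.coprime_iff_not_dvd).mpr
  intro h
  exact hgQ ((hf.associated_of_dvd hg h).symm.dvd.trans hfQ)

/-- The dual of a divisor divides the dual. -/
theorem dual_dvd (f g : F[X]) (h : f ∣ g) : dual (RingHom.id F) f ∣ dual (RingHom.id F) g := by
  obtain ⟨c, rfl⟩ := h
  rw [dual_mul]
  exact dvd_mul_right _ _

/-- Values at `x = ±1` of the dual. -/
theorem dual_eval_ne (p : ℕ) [Fact p.Prime] [CharP F p] (π : F[X]) (hm : π.Monic) (h0 : π.coeff 0 ≠ 0) (x : F) (hx : x * x = 1)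
    (h : π.eval x ≠ 0) : (dual (RingHom.id F) π).eval x ≠ 0 := by
  intro hcon
  apply h
  have hx0 : x ≠ 0 := by
    rintro rfl
    rw [mul_zero] at hx
    exact zero_ne_one hx
  have h1 : aeval x (dual (RingHom.id F) π) = 0 := by
    rw [Polynomial.coe_aeval_eq_eval]
    exact hcon
  have h2 := aeval_dual_root (RingHom.id F) p 1 0 (pow_zero p).symm (fun y => (pow_one y).symm)
    (dual (RingHom.id F) π) x hx0 h1
  rw [dual_dual (RingHom.id F) (fun _ => rfl) π hm h0, pow_one, Polynomial.coe_aeval_eq_eval] at h2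
  have h3 : x⁻¹ = x := inv_eq_of_mul_eq_one_right hx
  rw [h3] at h2
  exact h2

open Classical in
/-- The smallest self-dual multiple of an irreducible polynomial. -/
noncomputable def hull (π : F[X]) : F[X] :=
  if dual (RingHom.id F) π = π then π else π * dual (RingHom.id F) π

theorem hull_monic (π : F[X]) (hm : π.Monic) (h0 : π.coeff 0 ≠ 0) : (hull π).Monic := by
  unfold hull
  split_ifs
  · exact hm
  · exact hm.mul (monic_dual _ π h0)

theorem hull_coeff_zero (π : F[X]) (hm : π.Monic) (h0 : π.coeff 0 ≠ 0) :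
    (hull π).coeff 0 ≠ 0 := by
  unfold hull
  split_ifs
  · exact h0
  · rw [mul_coeff_zero]
    exact mul_ne_zero h0 (coeff_zero_dual_ne_zero _ π hm h0)

theorem hull_dual (π : F[X]) (hm : π.Monic) (h0 : π.coeff 0 ≠ 0) :
    dual (RingHom.id F) (hull π) = hull π := by
  unfold hull
  split_ifs with h
  · exact h
  · rw [dual_mul, dual_dual (RingHom.id F) (fun _ => rfl) π hm h0, mul_comm]

theorem dvd_hull (π : F[X]) : π ∣ hull π := by
  unfold hull
  split_ifs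
  · exact dvd_rfl
  · exact dvd_mul_right _ _

theorem hull_dvd (π : F[X]) : hull π ∣ π * dual (RingHom.id F) π := by
  unfold hull
  split_ifs
  · exact dvd_mul_right _ _
  · exact dvd_rfl

theorem hull_eval (p : ℕ) [Fact p.Prime] [CharP F p] (π : F[X]) (hm : π.Monic) (h0 : π.coeff 0 ≠ 0) (x : F) (hx : x * x = 1)
    (h : π.eval x ≠ 0) : (hull π).eval x ≠ 0 := by
  unfold hull
  split_ifs
  · exact h
  · rw [eval_mul]
    exact mul_ne_zero h (dual_eval_ne p π hm h0 x hx h)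

theorem natDegree_hull_of_eq (π : F[X]) (h : dual (RingHom.id F) π = π) :
    (hull π).natDegree = π.natDegree := by
  unfold hull
  rw [if_pos h]

theorem natDegree_hull_of_ne (π : F[X]) (hm : π.Monic) (h0 : π.coeff 0 ≠ 0)
    (h : dual (RingHom.id F) π ≠ π) : (hull π).natDegree = 2 * π.natDegree := by
  unfold hull
  rw [if_neg h, hm.natDegree_mul (monic_dual _ π h0), natDegree_dual _ π h0, two_mul]

theorem natDegree_hull_le (π : F[X]) (hm : π.Monic) (h0 : π.coeff 0 ≠ 0) :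
    (hull π).natDegree ≤ 2 * π.natDegree := by
  by_cases h : dual (RingHom.id F) π = π
  · rw [natDegree_hull_of_eq π h]
    omega
  · rw [natDegree_hull_of_ne π hm h0 h]

theorem hull_coprime (π ρ : F[X]) (h1 : IsCoprime π ρ)
    (h2 : IsCoprime (dual (RingHom.id F) π) ρ) : IsCoprime (hull π) ρ := by
  unfold hull
  split_ifs
  · exact h1
  · exact h1.mul_left h2

theorem hull_dvd_of_dual (π χ : F[X]) (hm : π.Monic) (h0 : π.coeff 0 ≠ 0) (hπ : Irreducible π)
    (hπχ : π ∣ χ) (hχ : dual (RingHom.id F) χ = χ) : hull π ∣ χ := by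
  unfold hull
  split_ifs with h
  · exact hπχ
  · have h1 : dual (RingHom.id F) π ∣ χ := by
      have := dual_dvd π χ hπχ
      rwa [hχ] at this
    have hirr := irreducible_dual (RingHom.id F) (fun _ => rfl) π hm h0 hπ
    have hcop : IsCoprime π (dual (RingHom.id F) π) := by
      apply (hπ.coprime_iff_not_dvd).mpr
      intro hd
      exact h (eq_of_monic_of_associated hm (monic_dual _ π h0) (hπ.associated_of_dvd hirr hd)).symm
    exact hcop.mul_dvd hπχ h1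

end hull

section numtheory

/-- If `r ∣ 1 + q ^ j` then the order `k` of `q` modulo `r` is even and `j` is an odd multiple of
`k / 2`. -/
theorem even_of_dvd_one_add_pow (r : ℕ) (hr : r.Prime) (hr2 : r ≠ 2) (q : ℕ) (hq : ¬ r ∣ q)
    (j : ℕ) (hj : r ∣ 1 + q ^ j) :
    ∃ k' a : ℕ, orderOf (q : ZMod r) = 2 * k' ∧ j = k' * a ∧ Odd a := by
  haveI : Fact r.Prime := ⟨hr⟩
  obtain ⟨hx0, h20, hm1⟩ := zmod_facts r hr hr2 q hq
  obtain ⟨x, hx⟩ : ∃ x : ZMod r, x = (q : ZMod r) := ⟨_, rfl⟩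
  rw [← hx] at hx0 ⊢
  have h1 : x ^ j = -1 := by
    have := (ZMod.natCast_eq_zero_iff (1 + q ^ j) r).mpr hj
    push_cast at this
    rw [← hx] at this
    exact eq_neg_of_add_eq_zero_right this
  have h2 : x ^ (2 * j) = 1 := by rw [mul_comm, pow_mul, h1]; norm_num
  have hk2 : orderOf x ∣ 2 * j := orderOf_dvd_of_pow_eq_one h2
  have hkj : ¬ orderOf x ∣ j := by
    intro h
    have h3 := orderOf_dvd_iff_pow_eq_one.mp h
    rw [h1] at h3
    exact hm1 h3
  have heven : Even (orderOf x) := by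
    by_contra hodd
    rw [Nat.not_even_iff_odd] at hodd
    apply hkj
    rw [mul_comm] at hk2
    exact Nat.Coprime.dvd_of_dvd_mul_right hodd.coprime_two_right hk2
  obtain ⟨k', hk'⟩ := heven
  rw [← two_mul] at hk'
  have hk'j : k' ∣ j := by
    rw [hk'] at hk2
    exact (Nat.mul_dvd_mul_iff_left two_pos).mp hk2
  obtain ⟨a, ha⟩ := hk'j
  refine ⟨k', a, hk', ha, ?_⟩
  by_contra hodd
  rw [Nat.not_odd_iff_even] at hodd
  obtain ⟨a', ha'⟩ := hodd
  apply hkj
  rw [hk', ha, ha']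
  exact ⟨a', by ring⟩

/-- If the order of `q` modulo `r` is `2 k'` then `r ∣ 1 + q ^ k'`. -/
theorem dvd_one_add_pow_half (r : ℕ) (hr : r.Prime) (q : ℕ) (k' : ℕ) (hk0 : 0 < k')
    (hk : orderOf (q : ZMod r) = 2 * k') : r ∣ 1 + q ^ k' := by
  haveI : Fact r.Prime := ⟨hr⟩
  obtain ⟨x, hx⟩ : ∃ x : ZMod r, x = (q : ZMod r) := ⟨_, rfl⟩
  rw [← hx] at hk
  have h1 : x ^ (2 * k') = 1 := by
    rw [← hk]
    exact pow_orderOf_eq_one x
  have h2 : (x ^ k' - 1) * (x ^ k' + 1) = 0 := by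
    have : (x ^ k' - 1) * (x ^ k' + 1) = x ^ (2 * k') - 1 := by ring
    rw [this, h1, sub_self]
  rcases mul_eq_zero.mp h2 with h3 | h3
  · exfalso
    have h4 := orderOf_dvd_of_pow_eq_one (sub_eq_zero.mp h3)
    rw [hk] at h4
    have := Nat.le_of_dvd hk0 h4
    omega
  · rw [← ZMod.natCast_eq_zero_iff]
    push_cast
    rw [← hx, add_comm]
    exact h3

end numtheory

section roots

variable {K : Type*} [Field K]

/-- If a power of the root of `π` is `1`, with `π ∣ X ^ (r * s) - 1` and `π ∤ X ^ s - 1`, then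
`r` divides the exponent. -/
theorem dvd_of_root_pow (π : K[X]) (hπ : Irreducible π) (r s : ℕ) (hr : r.Prime)
    (hdvd : π ∣ X ^ (r * s) - 1) (hnd : ¬ π ∣ X ^ s - 1) (e : ℕ)
    (he : (AdjoinRoot.root π) ^ e = 1) : r ∣ e := by
  have : Fact (Irreducible π) := ⟨hπ⟩
  obtain ⟨α, hα⟩ : ∃ α : AdjoinRoot π, α = AdjoinRoot.root π := ⟨_, rfl⟩
  rw [← hα] at he
  have hαrs : α ^ (r * s) = 1 := by
    have h := AdjoinRoot.mk_eq_zero.2 hdvd
    simpa [sub_eq_zero, hα] using h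
  have hαs : α ^ s ≠ 1 := by
    intro h
    apply hnd
    apply AdjoinRoot.mk_eq_zero.1
    simp only [map_sub, map_pow, AdjoinRoot.mk_X, map_one]
    rw [← hα]
    exact sub_eq_zero.2 h
  by_contra hre
  have hg : α ^ Nat.gcd e (r * s) = 1 := pow_gcd_eq_one.2 ⟨he, hαrs⟩
  have hcop : Nat.Coprime (Nat.gcd e (r * s)) r := by
    rw [Nat.coprime_comm]
    apply (Nat.Prime.coprime_iff_not_dvd hr).2
    intro h
    exact hre (h.trans (Nat.gcd_dvd_left _ _))
  have hgs : Nat.gcd e (r * s) ∣ s := hcop.dvd_of_dvd_mul_left (Nat.gcd_dvd_right _ _)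
  obtain ⟨c, hc⟩ := hgs
  apply hαs
  rw [hc, pow_mul, hg, one_pow]

/-- A common irreducible factor of `X ^ r - 1` and `X ^ s - 1`, `r`, `s` coprime, vanishes at
`1`. -/
theorem eval_one_of_dvd_dvd (π : K[X]) (hπ : Irreducible π) (r s : ℕ) (hcop : Nat.Coprime r s)
    (h1 : π ∣ X ^ r - 1) (h2 : π ∣ X ^ s - 1) : π.eval 1 = 0 := by
  have : Fact (Irreducible π) := ⟨hπ⟩
  obtain ⟨α, hα⟩ : ∃ α : AdjoinRoot π, α = AdjoinRoot.root π := ⟨_, rfl⟩
  have hαr : α ^ r = 1 := by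
    have h := AdjoinRoot.mk_eq_zero.2 h1
    simpa [sub_eq_zero, hα] using h
  have hαs : α ^ s = 1 := by
    have h := AdjoinRoot.mk_eq_zero.2 h2
    simpa [sub_eq_zero, hα] using h
  have hg : α ^ Nat.gcd r s = 1 := pow_gcd_eq_one.2 ⟨hαr, hαs⟩
  rw [hcop, pow_one] at hg
  have h3 : π ∣ X - C (1 : K) := by
    apply AdjoinRoot.mk_eq_zero.1
    simp only [map_sub, AdjoinRoot.mk_X, map_one]
    rw [← hα]
    exact sub_eq_zero.2 hg
  have h4 := (hπ.associated_of_dvd (irreducible_X_sub_C 1) h3).symm.dvd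
  exact (dvd_iff_isRoot.mp h4)

variable [Fintype K]

/-- A self-dual irreducible polynomial has a root `ζ` with `ζ ^ (1 + q ^ j) = 1`. -/
theorem exists_pow_of_dual_eq_self (p : ℕ) [Fact p.Prime] [CharP K p] (π : K[X]) (hm : π.Monic)
    (hπ : Irreducible π) (h0 : π.coeff 0 ≠ 0) (hd : dual (RingHom.id K) π = π) :
    ∃ j : ℕ, (AdjoinRoot.root π) ^ (1 + Fintype.card K ^ j) = 1 := by
  haveI : Fact (Irreducible π) := ⟨hπ⟩
  haveI := hm.finite_adjoinRoot
  haveI : Finite (AdjoinRoot π) := Module.finite_of_finite K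
  obtain ⟨ζ, hζdef⟩ : ∃ ζ : AdjoinRoot π, ζ = AdjoinRoot.root π := ⟨_, rfl⟩
  have hζ : aeval ζ π = 0 := by rw [hζdef, AdjoinRoot.aeval_eq, AdjoinRoot.mk_self]
  have hζ0 : ζ ≠ 0 := by
    intro h
    rw [h, aeval_def, eval₂_at_zero] at hζ
    exact h0 ((map_eq_zero _).mp hζ)
  have hroot := aeval_dual_root (RingHom.id K) p 1 0 (pow_zero p).symm
    (fun x => (pow_one x).symm) π ζ hζ0 hζ
  rw [hd] at hroot
  obtain ⟨ψ, hψ⟩ : ∃ ψ : AdjoinRoot π →ₐ[K] AdjoinRoot π, ψ (AdjoinRoot.root π) = (ζ ^ 1)⁻¹ :=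
    ⟨AdjoinRoot.liftAlgHom π (Algebra.ofId K _) ((ζ ^ 1)⁻¹) hroot,
      AdjoinRoot.liftAlgHom_root _ _ _ _⟩
  obtain ⟨n, hn⟩ := (FiniteField.bijective_frobeniusAlgHom_pow K (AdjoinRoot π)).2 ψ
  have hfrob : ∀ j : ℕ, ((FiniteField.frobeniusAlgHom K (AdjoinRoot π)) ^ j) ζ =
      ζ ^ (Fintype.card K ^ j) := by
    intro j
    rw [AlgHom.coe_pow, FiniteField.coe_frobeniusAlgHom, pow_iterate]
  have h1 := congrArg (fun f : AdjoinRoot π →ₐ[K] AdjoinRoot π => f ζ) hn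
  simp only at h1
  rw [hfrob, hζdef, hψ, ← hζdef] at h1
  refine ⟨n.1, ?_⟩
  rw [← hζdef, pow_add, h1, mul_inv_cancel₀ (pow_ne_zero _ hζ0)]

/-- An irreducible polynomial with a root `ζ` such that `ζ ^ (1 + q ^ j) = 1` is self-dual. -/
theorem dual_eq_self_of_pow (p : ℕ) [Fact p.Prime] [CharP K p] (π : K[X]) (hm : π.Monic)
    (hπ : Irreducible π) (h0 : π.coeff 0 ≠ 0) (j : ℕ)
    (hj : (AdjoinRoot.root π) ^ (1 + Fintype.card K ^ j) = 1) :
    dual (RingHom.id K) π = π := by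
  haveI : Fact (Irreducible π) := ⟨hπ⟩
  haveI := hm.finite_adjoinRoot
  haveI : Finite (AdjoinRoot π) := Module.finite_of_finite K
  obtain ⟨ζ, hζdef⟩ : ∃ ζ : AdjoinRoot π, ζ = AdjoinRoot.root π := ⟨_, rfl⟩
  rw [← hζdef] at hj
  have hζ : aeval ζ π = 0 := by rw [hζdef, AdjoinRoot.aeval_eq, AdjoinRoot.mk_self]
  have hζ0 : ζ ≠ 0 := by
    intro h
    rw [h, aeval_def, eval₂_at_zero] at hζ
    exact h0 ((map_eq_zero _).mp hζ)
  have hroot := aeval_dual_root (RingHom.id K) p 1 0 (pow_zero p).symm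
    (fun x => (pow_one x).symm) π ζ hζ0 hζ
  have hfrob : ∀ j : ℕ, ((FiniteField.frobeniusAlgHom K (AdjoinRoot π)) ^ j) ζ =
      ζ ^ (Fintype.card K ^ j) := by
    intro j
    rw [AlgHom.coe_pow, FiniteField.coe_frobeniusAlgHom, pow_iterate]
  have h2 : (ζ ^ 1)⁻¹ = ζ ^ (Fintype.card K ^ j) := by
    rw [pow_add] at hj
    exact inv_eq_of_mul_eq_one_right hj
  rw [h2, ← hfrob] at hroot
  have h3 : aeval (((FiniteField.frobeniusAlgHom K (AdjoinRoot π)) ^ j) ζ) π = 0 := by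
    rw [aeval_algHom_apply, hζ, map_zero]
  exact eq_of_common_root (dual (RingHom.id K) π) π (monic_dual _ π h0) hm
    (irreducible_dual (RingHom.id K) (fun _ => rfl) π hm h0 hπ) hπ _ hroot h3

end roots

section matrix

variable {F : Type*} [Field F] {ι : Type*} [Fintype ι] [DecidableEq ι]

/-- Irreducible factors of the characteristic polynomial divide any annihilating polynomial. -/
theorem irr_dvd_of_aeval (M : Matrix ι ι F) (Q : F[X]) (h : aeval M Q = 0) (π : F[X])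
    (hirr : Irreducible π) (hdvd : π ∣ M.charpoly) : π ∣ Q := by
  have hdvd' : π ∣ (Matrix.toLin' M).charpoly := by
    rw [Matrix.charpoly_toLin']
    exact hdvd
  obtain ⟨v, hv, hv0⟩ :=
    Cfsg.Agent.Lib.Helper40.exists_ne_zero_aeval_eq_zero (Matrix.toLin' M) π hirr hdvd'
  have hπ0 : aeval (Matrix.toLin' M) Q = 0 := by
    have e := Polynomial.aeval_algHom_apply
      (Matrix.toLinAlgEquiv' (R := F) (n := ι)).toAlgHom M Q
    rw [h, map_zero] at e
    exact e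
  by_contra hnd
  obtain ⟨a, b, hab⟩ := (hirr.coprime_iff_not_dvd).2 hnd
  apply hv
  have h5 := congrArg (fun p => aeval (Matrix.toLin' M) p v) hab
  simp only [map_add, map_mul, map_one, LinearMap.add_apply, Module.End.mul_apply,
    Module.End.one_apply] at h5
  rw [hv0, hπ0, map_zero, LinearMap.zero_apply, map_zero, add_zero] at h5
  exact h5.symm

/-- A matrix of order `r * s` has irreducible factors of its characteristic polynomial whose
roots have order divisible by `r`, resp. by `s`. -/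
theorem exists_factors_of_order (p : ℕ) [Fact p.Prime] [CharP F p] (r s : ℕ) (hr : r.Prime)
    (hs : 0 < s) (hrp : r ≠ p) (hsF : (s : F) ≠ 0) (M : Matrix ι ι F)
    (hM : ∀ j : ℕ, M ^ j = 1 ↔ r * s ∣ j) :
    ∃ π : F[X], π.Monic ∧ Irreducible π ∧ π ∣ M.charpoly ∧ π ∣ X ^ (r * s) - 1 ∧
      ¬ π ∣ X ^ s - 1 := by
  classical
  have hpp : p.Prime := Fact.out
  have hrF : (r : F) ≠ 0 := by
    intro h
    rw [CharP.cast_eq_zero_iff F p] at h
    exact hrp ((Nat.prime_dvd_prime_iff_eq hpp hr).mp h).symm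
  have hrsF : ((r * s : ℕ) : F) ≠ 0 := by
    rw [Nat.cast_mul]
    exact mul_ne_zero hrF hsF
  have hMrs : M ^ (r * s) = 1 := (hM _).mpr dvd_rfl
  obtain ⟨μ, hμ⟩ : ∃ μ : F[X], μ = minpoly F M := ⟨_, rfl⟩
  have hμdvd : μ ∣ X ^ (r * s) - 1 := by
    rw [hμ]
    apply minpoly.dvd
    simp [hMrs]
  have hsq : Squarefree μ := by
    have h1 : Squarefree (X ^ (r * s) - C (1 : F)) :=
      (separable_X_pow_sub_C (1 : F) hrsF one_ne_zero).squarefree
    rw [C_1] at h1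
    exact h1.squarefree_of_dvd hμdvd
  have hμχ : μ ∣ M.charpoly := by
    rw [hμ]
    exact Matrix.minpoly_dvd_charpoly M
  have hμs : ¬ μ ∣ X ^ s - 1 := by
    rintro ⟨c, hc⟩
    have h1 : aeval M (X ^ s - 1 : F[X]) = 0 := by rw [hc, map_mul, hμ, minpoly.aeval, zero_mul]
    have h2 : M ^ s = 1 := by simpa [sub_eq_zero] using h1
    have h3 := (hM s).mp h2
    have h4 : r ∣ 1 := Nat.dvd_of_mul_dvd_mul_right hs (by simpa using h3)
    exact hr.one_lt.ne' (Nat.dvd_one.mp h4)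
  obtain ⟨π₁, hm₁, hirr₁, hdvd₁, hnd₁⟩ := exists_irreducible_dvd_not_dvd μ _ hsq hμs
  exact ⟨π₁, hm₁, hirr₁, hdvd₁.trans hμχ, hdvd₁.trans hμdvd, hnd₁⟩

end matrix

section bound

variable {F : Type*} [Field F] [Fintype F]

/-- Contribution of a prime `r` to the degree of a self-dual polynomial. -/
theorem two_eta_le_hull (p : ℕ) [Fact p.Prime] [CharP F p] (r s : ℕ) (hr : r.Prime)
    (hr2 : r ≠ 2) (hrp : r ≠ p) (k ηk : ℕ) (hk : k = orderOf ((Fintype.card F : ℕ) : ZMod r))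
    (hηk : (Odd k ∧ ηk = k) ∨ (Even k ∧ 2 * ηk = k))
    (π : F[X]) (hm : π.Monic) (hπ : Irreducible π) (h0 : π.coeff 0 ≠ 0)
    (hdvd : π ∣ X ^ (r * s) - 1) (hnd : ¬ π ∣ X ^ s - 1) :
    2 * ηk ≤ (hull π).natDegree := by
  have hpp : p.Prime := Fact.out
  obtain ⟨q, hq⟩ : ∃ q : ℕ, q = Fintype.card F := ⟨_, rfl⟩
  rw [← hq] at hk
  have hq2 : 2 ≤ q := hq ▸ Fintype.one_lt_card
  have hrq : ¬ r ∣ q := by
    obtain ⟨f, -, hf⟩ := FiniteField.card F p
    rw [hq, hf]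
    intro h
    exact hrp ((Nat.prime_dvd_prime_iff_eq hr hpp).1 (hr.dvd_of_dvd_pow h))
  have hkd : k ∣ π.natDegree := ord_dvd_of_dvd q r k (by omega) hk _
    (hq ▸ dvd_card_pow_sub_one π hπ r s hr hdvd hnd)
  have hd0 : 0 < π.natDegree := hπ.natDegree_pos
  have hkle : k ≤ π.natDegree := Nat.le_of_dvd hd0 hkd
  by_cases hd : dual (RingHom.id F) π = π
  · rw [natDegree_hull_of_eq π hd]
    obtain ⟨j, hj⟩ := exists_pow_of_dual_eq_self p π hm hπ h0 hd
    have hrj : r ∣ 1 + q ^ j := by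
      rw [hq]
      exact dvd_of_root_pow π hπ r s hr hdvd hnd _ hj
    obtain ⟨k', a, hk', -, -⟩ := even_of_dvd_one_add_pow r hr hr2 q hrq j hrj
    rw [← hk] at hk'
    rcases hηk with ⟨hodd, -⟩ | ⟨-, h2⟩
    · exfalso
      rw [hk'] at hodd
      exact (Nat.not_odd_iff_even.mpr (even_two_mul k')) hodd
    · omega
  · rw [natDegree_hull_of_ne π hm h0 hd]
    rcases hηk with ⟨-, h2⟩ | ⟨-, h2⟩ <;> omega

/-- If `Sp_{2n}(q)` has an element of order `r * s` then `η(k) + η(l) ≤ n` or `l / k` is an odd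
integer. -/
theorem sp_rs_bound (p : ℕ) [Fact p.Prime] [CharP F p] (n : ℕ) (r s : ℕ) (hr : r.Prime)
    (hs : s.Prime) (hr2 : r ≠ 2) (hs2 : s ≠ 2) (hrp : r ≠ p) (hsp : s ≠ p) (k l ηk ηl : ℕ)
    (hk : k = orderOf ((Fintype.card F : ℕ) : ZMod r))
    (hl : l = orderOf ((Fintype.card F : ℕ) : ZMod s))
    (hηk : (Odd k ∧ ηk = k) ∨ (Even k ∧ 2 * ηk = k))
    (hηl : (Odd l ∧ ηl = l) ∨ (Even l ∧ 2 * ηl = l)) (hkl : ηk ≤ ηl)
    (S : Matrix.symplecticGroup (Fin n) F) (hS : ∀ j : ℕ, S ^ j = 1 ↔ r * s ∣ j) :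
    ηk + ηl ≤ n ∨ ∃ t : ℕ, Odd t ∧ l = k * t := by
  classical
  have hpp : p.Prime := Fact.out
  obtain ⟨q, hq⟩ : ∃ q : ℕ, q = Fintype.card F := ⟨_, rfl⟩
  have hk' : k = orderOf ((q : ℕ) : ZMod r) := by rw [hq]; exact hk
  have hl' : l = orderOf ((q : ℕ) : ZMod s) := by rw [hq]; exact hl
  have hq2 : 2 ≤ q := hq ▸ Fintype.one_lt_card
  have hrq : ¬ r ∣ q := by
    obtain ⟨f, -, hf⟩ := FiniteField.card F p
    rw [hq, hf]
    intro h
    exact hrp ((Nat.prime_dvd_prime_iff_eq hr hpp).1 (hr.dvd_of_dvd_pow h))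
  have hsq : ¬ s ∣ q := by
    obtain ⟨f, -, hf⟩ := FiniteField.card F p
    rw [hq, hf]
    intro h
    exact hsp ((Nat.prime_dvd_prime_iff_eq hs hpp).1 (hs.dvd_of_dvd_pow h))
  have hrF : (r : F) ≠ 0 := by
    intro h
    rw [CharP.cast_eq_zero_iff F p] at h
    exact hrp ((Nat.prime_dvd_prime_iff_eq hpp hr).mp h).symm
  have hsF : (s : F) ≠ 0 := by
    intro h
    rw [CharP.cast_eq_zero_iff F p] at h
    exact hsp ((Nat.prime_dvd_prime_iff_eq hpp hs).mp h).symm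
  obtain ⟨M, hMdef⟩ : ∃ M : Matrix (Fin n ⊕ Fin n) (Fin n ⊕ Fin n) F, M = S.1 := ⟨_, rfl⟩
  have hM : ∀ j : ℕ, M ^ j = 1 ↔ r * s ∣ j := by
    intro j
    rw [← hS j, hMdef]
    constructor
    · intro h
      apply Subtype.ext
      rw [SubmonoidClass.coe_pow, h]
      rfl
    · intro h
      rw [← SubmonoidClass.coe_pow, h]
      rfl
  have hM' : ∀ j : ℕ, M ^ j = 1 ↔ s * r ∣ j := by
    intro j
    rw [mul_comm]
    exact hM j
  have hχd : M.charpoly.natDegree = 2 * n := by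
    rw [Matrix.charpoly_natDegree_eq_dim, Fintype.card_sum, Fintype.card_fin, two_mul]
  have hχ0 : M.charpoly ≠ 0 := (Matrix.charpoly_monic M).ne_zero
  have hχdual : dual (RingHom.id F) M.charpoly = M.charpoly := by
    rw [hMdef]
    exact dual_charpoly_sp S
  obtain ⟨π₁, hm₁, hirr₁, hχ₁, hdvd₁, hnd₁⟩ :=
    exists_factors_of_order p r s hr hs.pos hrp hsF M hM
  obtain ⟨π₂, hm₂, hirr₂, hχ₂, hdvd₂, hnd₂⟩ :=
    exists_factors_of_order p s r hs hr.pos hsp hrF M hM'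
  have hcoeff : ∀ π : F[X], π ∣ X ^ (r * s) - 1 → π.coeff 0 ≠ 0 := by
    intro π hπ h0
    obtain ⟨c, hc⟩ := hπ
    have h1 := congrArg (fun f : F[X] => f.coeff 0) hc
    simp only [mul_coeff_zero, h0, zero_mul, coeff_sub, coeff_one_zero] at h1
    rw [coeff_X_pow, if_neg (Nat.mul_pos hr.pos hs.pos).ne] at h1
    simp at h1
  have h0₁ := hcoeff π₁ hdvd₁
  have h0₂ := hcoeff π₂ (by rw [mul_comm]; exact hdvd₂)
  have hl0 : 0 < l := by
    rcases Nat.eq_zero_or_pos l with h | h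
    · exfalso
      have h1 := dvd_card_pow_sub_one π₂ hirr₂ s r hs hdvd₂ hnd₂
      have h2 := ord_dvd_of_dvd q s l (by omega) hl' _ (hq ▸ h1)
      rw [h] at h2
      have := hirr₂.natDegree_pos
      rw [Nat.eq_zero_of_zero_dvd h2] at this
      omega
    · exact h
  have hηll : ηl ≤ l := by
    rcases hηl with ⟨-, h2⟩ | ⟨-, h2⟩ <;> omega
  -- the case of a factor with roots of order `r * s`
  have caseA : ∀ π : F[X], π.Monic → Irreducible π → π ∣ M.charpoly → π ∣ X ^ (r * s) - 1 →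
      ¬ π ∣ X ^ s - 1 → ¬ π ∣ X ^ r - 1 → (ηk + ηl ≤ n ∨ ∃ t : ℕ, Odd t ∧ l = k * t) := by
    intro π hm hirr hχ hdvd hns hnr
    have hdvd' : π ∣ X ^ (s * r) - 1 := by rw [mul_comm]; exact hdvd
    have h0 := hcoeff π hdvd
    have hkd : k ∣ π.natDegree := ord_dvd_of_dvd q r k (by omega) hk' _
      (hq ▸ dvd_card_pow_sub_one π hirr r s hr hdvd hns)
    have hld : l ∣ π.natDegree := ord_dvd_of_dvd q s l (by omega) hl' _
      (hq ▸ dvd_card_pow_sub_one π hirr s r hs hdvd' hnr)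
    have hd0 : 0 < π.natDegree := hirr.natDegree_pos
    have hlcm : Nat.lcm k l ∣ π.natDegree := Nat.lcm_dvd hkd hld
    have hlcmle : Nat.lcm k l ≤ π.natDegree := Nat.le_of_dvd hd0 hlcm
    have hlcm2 : ¬ k ∣ l → 2 * l ≤ Nat.lcm k l := by
      intro hkl'
      obtain ⟨t, ht⟩ : l ∣ Nat.lcm k l := Nat.dvd_lcm_right k l
      have hlcm0 : 0 < Nat.lcm k l := Nat.pos_of_dvd_of_pos hlcm hd0
      have ht2 : 2 ≤ t := by
        rcases Nat.lt_or_ge t 2 with h | h
        · exfalso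
          interval_cases t
          · rw [mul_zero] at ht
            omega
          · rw [mul_one] at ht
            exact hkl' (ht ▸ Nat.dvd_lcm_left k l)
        · exact h
      rw [ht]
      nlinarith
    have hhull := hull_dvd_of_dual π M.charpoly hm h0 hirr hχ hχdual
    have hhle := Polynomial.natDegree_le_of_dvd hhull hχ0
    rw [hχd] at hhle
    by_cases hd : dual (RingHom.id F) π = π
    · rw [natDegree_hull_of_eq π hd] at hhle
      obtain ⟨j, hj⟩ := exists_pow_of_dual_eq_self p π hm hirr h0 hd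
      have hrj : r ∣ 1 + q ^ j := by
        rw [hq]
        exact dvd_of_root_pow π hirr r s hr hdvd hns _ hj
      have hsj : s ∣ 1 + q ^ j := by
        rw [hq]
        exact dvd_of_root_pow π hirr s r hs hdvd' hnr _ hj
      obtain ⟨k₂, a, hk₂, hja, ha⟩ := even_of_dvd_one_add_pow r hr hr2 q hrq j hrj
      obtain ⟨l₂, b, hl₂, hjb, hb⟩ := even_of_dvd_one_add_pow s hs hs2 q hsq j hsj
      rw [← hk'] at hk₂
      rw [← hl'] at hl₂
      have hηk' : ηk = k₂ := by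
        rcases hηk with ⟨hodd, -⟩ | ⟨-, h2⟩
        · exfalso
          rw [hk₂] at hodd
          exact (Nat.not_odd_iff_even.mpr (even_two_mul k₂)) hodd
        · omega
      have hηl' : ηl = l₂ := by
        rcases hηl with ⟨hodd, -⟩ | ⟨-, h2⟩
        · exfalso
          rw [hl₂] at hodd
          exact (Nat.not_odd_iff_even.mpr (even_two_mul l₂)) hodd
        · omega
      by_cases hkl' : k ∣ l
      · right
        obtain ⟨t, ht⟩ := hkl'
        refine ⟨t, ?_, ht⟩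
        have h1 : l₂ = k₂ * t := by
          rw [hk₂, hl₂, mul_assoc] at ht
          exact Nat.eq_of_mul_eq_mul_left two_pos ht
        have hk₂0 : 0 < k₂ := by
          rcases Nat.eq_zero_or_pos k₂ with h | h
          · exfalso
            rw [h, zero_mul] at h1
            omega
          · exact h
        have h2 : a = t * b := by
          have h3 : k₂ * a = k₂ * (t * b) := by rw [← hja, hjb, h1, mul_assoc]
          exact Nat.eq_of_mul_eq_mul_left hk₂0 h3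
        rw [h2] at ha
        exact (Nat.odd_mul.mp ha).1
      · left
        have := hlcm2 hkl'
        omega
    · rw [natDegree_hull_of_ne π hm h0 hd] at hhle
      by_cases hkl' : k ∣ l
      · obtain ⟨t, ht⟩ := hkl'
        rcases Nat.even_or_odd t with hte | hto
        · left
          obtain ⟨t', ht'⟩ := hte
          have hl2 : l = 2 * (k * t') := by rw [ht, ht']; ring
          have hηl' : ηl = k * t' := by
            rcases hηl with ⟨hodd, -⟩ | ⟨-, h2⟩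
            · exfalso
              rw [hl2] at hodd
              exact (Nat.not_odd_iff_even.mpr (even_two_mul _)) hodd
            · omega
          have ht'0 : 0 < t' := by
            rcases Nat.eq_zero_or_pos t' with h | h
            · exfalso
              rw [h, mul_zero] at hηl'
              omega
            · exact h
          have hηkk : ηk ≤ k := by
            rcases hηk with ⟨-, h2⟩ | ⟨-, h2⟩ <;> omega
          have hkt : k ≤ k * t' := Nat.le_mul_of_pos_right k ht'0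
          have hll : l ≤ Nat.lcm k l := Nat.le_of_dvd (Nat.pos_of_dvd_of_pos hlcm hd0)
            (Nat.dvd_lcm_right k l)
          omega
        · exact Or.inr ⟨t, hto, ht⟩
      · left
        have := hlcm2 hkl'
        omega
  by_cases hA₁ : π₁ ∣ X ^ r - 1
  · by_cases hA₂ : π₂ ∣ X ^ s - 1
    · left
      have hh₁ := hull_dvd_of_dual π₁ M.charpoly hm₁ h0₁ hirr₁ hχ₁ hχdual
      have hh₂ := hull_dvd_of_dual π₂ M.charpoly hm₂ h0₂ hirr₂ hχ₂ hχdual
      have hd₁ := two_eta_le_hull p r s hr hr2 hrp k ηk hk hηk π₁ hm₁ hirr₁ h0₁ hdvd₁ hnd₁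
      have hd₂ := two_eta_le_hull p s r hs hs2 hsp l ηl hl hηl π₂ hm₂ hirr₂ h0₂ hdvd₂ hnd₂
      have hirr₁' := irreducible_dual (RingHom.id F) (fun _ => rfl) π₁ hm₁ h0₁ hirr₁
      have hirr₂' := irreducible_dual (RingHom.id F) (fun _ => rfl) π₂ hm₂ h0₂ hirr₂
      have hdual₁ : dual (RingHom.id F) π₁ ∣ X ^ r - 1 := by
        have := dual_dvd π₁ _ hA₁
        rwa [dual_X_pow_sub_one (RingHom.id F) r hr.pos] at this
      have hdual₂ : dual (RingHom.id F) π₂ ∣ X ^ s - 1 := by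
        have := dual_dvd π₂ _ hA₂
        rwa [dual_X_pow_sub_one (RingHom.id F) s hs.pos] at this
      have hdual₂' : ¬ dual (RingHom.id F) π₂ ∣ X ^ r - 1 := by
        intro h
        have := dual_dvd _ _ h
        rw [dual_X_pow_sub_one (RingHom.id F) r hr.pos,
          dual_dual (RingHom.id F) (fun _ => rfl) π₂ hm₂ h0₂] at this
        exact hnd₂ this
      have c1 : IsCoprime π₁ π₂ := coprime_of_dvd_not_dvd π₁ π₂ _ hirr₁ hirr₂ hA₁ hnd₂
      have c2 : IsCoprime (dual (RingHom.id F) π₁) π₂ :=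
        coprime_of_dvd_not_dvd _ π₂ _ hirr₁' hirr₂ hdual₁ hnd₂
      have c3 : IsCoprime π₁ (dual (RingHom.id F) π₂) :=
        coprime_of_dvd_not_dvd π₁ _ _ hirr₁ hirr₂' hA₁ hdual₂'
      have c4 : IsCoprime (dual (RingHom.id F) π₁) (dual (RingHom.id F) π₂) :=
        coprime_of_dvd_not_dvd _ _ _ hirr₁' hirr₂' hdual₁ hdual₂'
      have c5 : IsCoprime (hull π₂) π₁ := hull_coprime π₂ π₁ c1.symm c3.symm
      have c6 : IsCoprime (hull π₂) (dual (RingHom.id F) π₁) :=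
        hull_coprime π₂ _ c2.symm c4.symm
      have c7 : IsCoprime (hull π₁) (hull π₂) := hull_coprime π₁ _ c5.symm c6.symm
      have hprod := c7.mul_dvd hh₁ hh₂
      have hle := Polynomial.natDegree_le_of_dvd hprod hχ0
      rw [(hull_monic π₁ hm₁ h0₁).natDegree_mul (hull_monic π₂ hm₂ h0₂), hχd] at hle
      omega
    · exact caseA π₂ hm₂ hirr₂ hχ₂ (by rw [mul_comm]; exact hdvd₂) hA₂ hnd₂
  · exact caseA π₁ hm₁ hirr₁ hχ₁ hdvd₁ hnd₁ hA₁

end bound

section exist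

variable {F : Type*} [Field F] [Fintype F]

/-- A self-dual polynomial without roots `±1` of degree at most `2 n` gives a semisimple element of
`Sp_{2n}(q)` with this characteristic polynomial up to a power of `X - 1`. -/
theorem exists_sp_of_poly (p : ℕ) [Fact p.Prime] [CharP F p] (n : ℕ) (f₀ : F[X]) (hm : f₀.Monic)
    (h0 : f₀.coeff 0 ≠ 0) (hd : dual (RingHom.id F) f₀ = f₀) (h1 : f₀.eval 1 ≠ 0)
    (hm1 : f₀.eval (-1) ≠ 0) (hdeg : f₀.natDegree ≤ 2 * n) :
    ∃ (S : Matrix.symplecticGroup (Fin n) F) (e : ℕ), S.1.charpoly = (X - C 1) ^ e * f₀ ∧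
      ∃ N : ℕ, 0 < N ∧ N.Coprime p ∧ S ^ N = 1 := by
  have hG₀ := good_of_no_pm p f₀ hm h0 hd h1 hm1
  obtain ⟨m₀, hdeg₀, -⟩ := sp_of_good hG₀
  have hG : Good p (((X - C (1 : F)) ^ 2) ^ (n - m₀) * f₀) :=
    ((good_X_sub_one_sq p).pow (n - m₀)).mul hG₀
  obtain ⟨m, hdegm, S, hχ, hN⟩ := sp_of_good hG
  have hmn : m = n := by
    have h2 : (((X - C (1 : F)) ^ 2) ^ (n - m₀) * f₀).natDegree = 2 * (n - m₀) + f₀.natDegree := by
      rw [← pow_mul, ((monic_X_sub_C (1 : F)).pow _).natDegree_mul hm,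
        (monic_X_sub_C (1 : F)).natDegree_pow, natDegree_X_sub_C, mul_one]
    rw [h2] at hdegm
    omega
  subst hmn
  exact ⟨S, 2 * (m - m₀), by rw [hχ, pow_mul], hN⟩

/-- The order of a semisimple symplectic matrix read off its characteristic polynomial. -/
theorem sp_pow_eq_one_iff (p : ℕ) [Fact p.Prime] [CharP F p] (n : ℕ) (r s : ℕ) (hr : r.Prime)
    (hs : s.Prime) (hrs : r ≠ s) (S : Matrix.symplecticGroup (Fin n) F) (N : ℕ)
    (hNp : N.Coprime p) (hSN : S ^ N = 1) (m : ℕ)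
    (hχ : S.1.charpoly ∣ (X ^ (r * s) - 1) ^ m)
    (π₁ π₂ : F[X]) (hirr₁ : Irreducible π₁) (hirr₂ : Irreducible π₂)
    (hχ₁ : π₁ ∣ S.1.charpoly) (hχ₂ : π₂ ∣ S.1.charpoly)
    (hdvd₁ : π₁ ∣ X ^ (r * s) - 1) (hnd₁ : ¬ π₁ ∣ X ^ s - 1)
    (hdvd₂ : π₂ ∣ X ^ (s * r) - 1) (hnd₂ : ¬ π₂ ∣ X ^ r - 1) :
    ∀ j : ℕ, S ^ j = 1 ↔ r * s ∣ j := by
  classical
  have hNF : (N : F) ≠ 0 := Cfsg.Agent.Lib.Helper40.natCast_ne_zero_of_coprime p N hNp
  have hMN : S.1 ^ N = 1 := by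
    rw [← SubmonoidClass.coe_pow, hSN]
    rfl
  have hMrs : S.1 ^ (r * s) = 1 := pow_eq_one_of_charpoly_dvd' S.1 N hNF hMN (r * s) m hχ
  intro j
  constructor
  · intro h
    have hMj : S.1 ^ j = 1 := by
      rw [← SubmonoidClass.coe_pow, h]
      rfl
    have hae : aeval S.1 (X ^ j - 1 : F[X]) = 0 := by simp [hMj]
    have h1 := irr_dvd_of_aeval S.1 _ hae π₁ hirr₁ hχ₁
    have h2 := irr_dvd_of_aeval S.1 _ hae π₂ hirr₂ hχ₂
    have hrj : r ∣ j := by
      haveI : Fact (Irreducible π₁) := ⟨hirr₁⟩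
      apply dvd_of_root_pow π₁ hirr₁ r s hr hdvd₁ hnd₁ j
      have := AdjoinRoot.mk_eq_zero.2 h1
      simpa [sub_eq_zero] using this
    have hsj : s ∣ j := by
      haveI : Fact (Irreducible π₂) := ⟨hirr₂⟩
      apply dvd_of_root_pow π₂ hirr₂ s r hs hdvd₂ hnd₂ j
      have := AdjoinRoot.mk_eq_zero.2 h2
      simpa [sub_eq_zero] using this
    exact ((Nat.coprime_primes hr hs).mpr hrs).mul_dvd_of_dvd_of_dvd hrj hsj
  · rintro ⟨c, rfl⟩
    apply Subtype.ext
    rw [SubmonoidClass.coe_pow, pow_mul, hMrs, one_pow]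
    rfl

/-- For odd `N`, `PSp_{2n}(q)` has an element of order `N` iff `Sp_{2n}(q)` has one. -/
theorem psp_order_iff_sp (p : ℕ) [Fact p.Prime] [CharP F p] (n : ℕ) (hn : 1 ≤ n) (N : ℕ)
    (hN : Odd N) :
    (∃ g : Cfsg.PSp n F, orderOf g = N) ↔
      ∃ S : Matrix.symplecticGroup (Fin n) F, ∀ j : ℕ, S ^ j = 1 ↔ N ∣ j := by
  have hcenter : ∀ C ∈ Subgroup.center ↥(Matrix.symplecticGroup (Fin n) F), C ^ 2 = 1 := by
    intro C hC
    have h := Cfsg.Agent.Lib.Helper40.PSpRP.sp_center_pow p n hn C hC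
    split_ifs at h with h2
    · rw [pow_one] at h
      rw [h, one_pow]
    · exact h
  have hcop : Nat.Coprime N 2 := hN.coprime_two_right
  constructor
  · rintro ⟨g, hg⟩
    obtain ⟨G₀, hG₀⟩ := QuotientGroup.mk_surjective g
    refine ⟨G₀ ^ 2, fun j => ?_⟩
    constructor
    · intro h
      have h2 : g ^ (2 * j) = 1 := by
        rw [← hG₀, ← QuotientGroup.mk_pow, pow_mul, h]
        rfl
      have h3 := orderOf_dvd_of_pow_eq_one h2
      rw [hg] at h3
      exact hcop.dvd_of_dvd_mul_left h3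
    · rintro ⟨c, rfl⟩
      have h1 : G₀ ^ N ∈ Subgroup.center ↥(Matrix.symplecticGroup (Fin n) F) := by
        rw [← QuotientGroup.eq_one_iff, QuotientGroup.mk_pow, hG₀, ← hg]
        exact pow_orderOf_eq_one g
      have h2 := hcenter _ h1
      calc (G₀ ^ 2) ^ (N * c) = ((G₀ ^ N) ^ 2) ^ c := by
            rw [← pow_mul, ← pow_mul, ← pow_mul]
            congr 1
            ring
        _ = 1 := by rw [h2, one_pow]
  · rintro ⟨S, hS⟩
    have key : ∀ j : ℕ, (QuotientGroup.mk S : Cfsg.PSp n F) ^ j = 1 ↔ N ∣ j := by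
      intro j
      rw [← QuotientGroup.mk_pow, QuotientGroup.eq_one_iff]
      constructor
      · intro hcen
        have h1 := hcenter _ hcen
        rw [← pow_mul] at h1
        have h2 := (hS _).mp h1
        rw [mul_comm] at h2
        exact hcop.dvd_of_dvd_mul_left h2
      · intro h
        rw [(hS j).mpr h]
        exact Subgroup.one_mem _
    refine ⟨QuotientGroup.mk S, ?_⟩
    apply Nat.dvd_antisymm
    · exact orderOf_dvd_of_pow_eq_one ((key _).mpr dvd_rfl)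
    · exact (key _).mp (pow_orderOf_eq_one _)

/-- An irreducible factor of `X ^ r - 1` with its duality behaviour. -/
theorem exists_prime_factor (p : ℕ) [Fact p.Prime] [CharP F p] (r k : ℕ) (hr : r.Prime)
    (hr2 : r ≠ 2) (hrp : r ≠ p) (hk : k = orderOf ((Fintype.card F : ℕ) : ZMod r)) :
    ∃ π : F[X], π.Monic ∧ Irreducible π ∧ π ∣ X ^ r - 1 ∧ π.natDegree = k ∧ π.coeff 0 ≠ 0 ∧
      π.eval 1 ≠ 0 ∧ π.eval (-1) ≠ 0 ∧ (dual (RingHom.id F) π = π ↔ Even k) := by
  classical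
  obtain ⟨S, dg, hS, hSne, hrF, hk0, hdg, hdd, hfix⟩ :=
    Cfsg.Agent.Lib.Helper40.PSpRP.exists_sp_data p r k hr hr2 hrp hk
  obtain ⟨π, hπ⟩ := hSne
  refine ⟨π, hS.monic π hπ, hS.irred π hπ, hS.dvd π hπ, hS.deg π hπ,
    Factors.coeff_zero_ne hS hr.pos π hπ, eval_one_ne hS π hπ,
    eval_neg_one_ne hS (hr.odd_of_ne_two hr2) π hπ, ?_⟩
  rw [← hfix ⟨π, hπ⟩, ← hdg ⟨π, hπ⟩]
  constructor
  · intro h
    exact Subtype.ext h
  · intro h
    rw [h]

/-- An irreducible polynomial of degree `l` whose roots have order `r * s`. -/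
theorem exists_rs_factor (p : ℕ) [Fact p.Prime] [CharP F p] (r s l : ℕ) (hr : r.Prime)
    (hs : s.Prime) (hrs : r ≠ s) (hl : l = orderOf ((Fintype.card F : ℕ) : ZMod s))
    (hl0 : 0 < l) (hrl : r ∣ Fintype.card F ^ l - 1) (hsl : s ∣ Fintype.card F ^ l - 1) :
    ∃ π : F[X], π.Monic ∧ Irreducible π ∧ π ∣ X ^ (r * s) - 1 ∧ ¬ π ∣ X ^ r - 1 ∧
      ¬ π ∣ X ^ s - 1 ∧ π.natDegree = l := by
  classical
  have hdz : NeZero l := ⟨by omega⟩
  let K := FiniteField.Extension F p l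
  have hfin : Module.finrank F K = l := FiniteField.finrank_extension F p l
  have : Fintype K := Fintype.ofFinite K
  obtain ⟨ζ, hζ⟩ := IsCyclic.exists_generator (α := Kˣ)
  have hcardK : Fintype.card K = Fintype.card F ^ l := by
    rw [← Nat.card_eq_fintype_card, FiniteField.natCard_extension, Nat.card_eq_fintype_card]
  have hordζ : orderOf ζ = Fintype.card F ^ l - 1 := by
    rw [orderOf_eq_card_of_forall_mem_zpowers hζ, Nat.card_eq_fintype_card, Fintype.card_units,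
      hcardK]
  have hrscop : Nat.Coprime r s := (Nat.coprime_primes hr hs).mpr hrs
  have hrsdvd : r * s ∣ Fintype.card F ^ l - 1 := hrscop.mul_dvd_of_dvd_of_dvd hrl hsl
  obtain ⟨αu, hαu⟩ : ∃ α : Kˣ, orderOf α = r * s := by
    refine ⟨ζ ^ ((Fintype.card F ^ l - 1) / (r * s)), ?_⟩
    rw [← hordζ]
    exact orderOf_pow_orderOf_div (orderOf_pos ζ).ne' (by rw [hordζ]; exact hrsdvd)
  obtain ⟨α, hα⟩ : ∃ α : K, α = (αu : K) := ⟨_, rfl⟩
  have hαpow : ∀ j : ℕ, α ^ j = 1 ↔ r * s ∣ j := by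
    intro j
    rw [← hαu, orderOf_dvd_iff_pow_eq_one, hα, ← Units.val_pow_eq_pow_val, Units.val_eq_one]
  have hint : IsIntegral F α := Algebra.IsIntegral.isIntegral α
  obtain ⟨π, hπ⟩ : ∃ π : F[X], π = minpoly F α := ⟨_, rfl⟩
  have hirr : Irreducible π := hπ ▸ minpoly.irreducible hint
  have hdvd : π ∣ X ^ (r * s) - 1 := by
    rw [hπ]
    apply minpoly.dvd
    simp [(hαpow _).mpr dvd_rfl]
  have hnr : ¬ π ∣ X ^ r - 1 := by
    rintro ⟨c, hc⟩
    have h1 : aeval α (X ^ r - 1 : F[X]) = 0 := by rw [hc, map_mul, hπ, minpoly.aeval, zero_mul]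
    have h2 : α ^ r = 1 := by simpa [sub_eq_zero] using h1
    have h3 := (hαpow r).mp h2
    have h4 : s ∣ 1 := Nat.dvd_of_mul_dvd_mul_left hr.pos (by simpa using h3)
    exact hs.one_lt.ne' (Nat.dvd_one.mp h4)
  have hns : ¬ π ∣ X ^ s - 1 := by
    rintro ⟨c, hc⟩
    have h1 : aeval α (X ^ s - 1 : F[X]) = 0 := by rw [hc, map_mul, hπ, minpoly.aeval, zero_mul]
    have h2 : α ^ s = 1 := by simpa [sub_eq_zero] using h1
    have h3 := (hαpow s).mp h2
    have h4 : r ∣ 1 := Nat.dvd_of_mul_dvd_mul_right hs.pos (by simpa using h3)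
    exact hr.one_lt.ne' (Nat.dvd_one.mp h4)
  refine ⟨π, hπ ▸ minpoly.monic hint, hirr, hdvd, hnr, hns, ?_⟩
  have hle : π.natDegree ≤ l := by
    have h1 := minpoly.natDegree_le (A := F) α
    rw [hfin] at h1
    rw [hπ]
    exact h1
  have hq1 : 1 ≤ Fintype.card F := Fintype.card_pos
  have hld : l ∣ π.natDegree := ord_dvd_of_dvd (Fintype.card F) s l hq1 hl _
    (dvd_card_pow_sub_one π hirr s r hs (by rw [mul_comm]; exact hdvd) hnr)
  exact Nat.le_antisymm hle (Nat.le_of_dvd hirr.natDegree_pos hld)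

/-- A prime `s` dividing the order of `PSp_{2n}(q)` has `η(l) ≤ n`. -/
theorem eta_le_of_dvd_card (p : ℕ) [Fact p.Prime] [CharP F p] (n : ℕ) (hn : 1 ≤ n) (s : ℕ)
    (hs : s.Prime) (hs2 : s ≠ 2) (hsp : s ≠ p) (l ηl : ℕ)
    (hl : l = orderOf ((Fintype.card F : ℕ) : ZMod s))
    (hηl : (Odd l ∧ ηl = l) ∨ (Even l ∧ 2 * ηl = l))
    (hsG : s ∣ Nat.card (Cfsg.PSp n F)) : ηl ≤ n := by
  classical
  haveI := Fact.mk hs
  obtain ⟨g, hg⟩ := exists_prime_orderOf_dvd_card' s hsG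
  obtain ⟨S, hS⟩ := (psp_order_iff_sp p n hn s (hs.odd_of_ne_two hs2)).mp ⟨g, hg⟩
  obtain ⟨M, hMdef⟩ : ∃ M : Matrix (Fin n ⊕ Fin n) (Fin n ⊕ Fin n) F, M = S.1 := ⟨_, rfl⟩
  have hM : ∀ j : ℕ, M ^ j = 1 ↔ s * 1 ∣ j := by
    intro j
    rw [mul_one, ← hS j, hMdef]
    constructor
    · intro h
      apply Subtype.ext
      rw [SubmonoidClass.coe_pow, h]
      rfl
    · intro h
      rw [← SubmonoidClass.coe_pow, h]
      rfl
  obtain ⟨π, hm, hirr, hχ, hdvd, hnd⟩ :=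
    exists_factors_of_order p s 1 hs Nat.one_pos hsp (by simp) M hM
  have h0 : π.coeff 0 ≠ 0 := by
    intro h0
    obtain ⟨c, hc⟩ := hdvd
    have h1 := congrArg (fun f : F[X] => f.coeff 0) hc
    simp only [mul_coeff_zero, h0, zero_mul, coeff_sub, coeff_one_zero] at h1
    rw [coeff_X_pow, if_neg (Nat.mul_pos hs.pos Nat.one_pos).ne] at h1
    simp at h1
  have hd := two_eta_le_hull p s 1 hs hs2 hsp l ηl hl hηl π hm hirr h0 hdvd hnd
  have hh := hull_dvd_of_dual π M.charpoly hm h0 hirr hχ (hMdef ▸ dual_charpoly_sp S)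
  have hle := Polynomial.natDegree_le_of_dvd hh (Matrix.charpoly_monic M).ne_zero
  rw [Matrix.charpoly_natDegree_eq_dim, Fintype.card_sum, Fintype.card_fin] at hle
  omega

end exist

section final

variable {F : Type*} [Field F] [Fintype F]

/-- If `η(k) + η(l) ≤ n` or `l / k` is an odd integer then `Sp_{2n}(q)` has an element of order
`r * s`. -/
theorem sp_rs_exists (p : ℕ) [Fact p.Prime] [CharP F p] (n : ℕ) (hn : 1 ≤ n) (r s : ℕ)
    (hr : r.Prime) (hs : s.Prime) (hr2 : r ≠ 2) (hs2 : s ≠ 2) (hrp : r ≠ p) (hsp : s ≠ p)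
    (hrs : r ≠ s) (hsG : s ∣ Nat.card (Cfsg.PSp n F)) (k l ηk ηl : ℕ)
    (hk : k = orderOf ((Fintype.card F : ℕ) : ZMod r))
    (hl : l = orderOf ((Fintype.card F : ℕ) : ZMod s))
    (hηk : (Odd k ∧ ηk = k) ∨ (Even k ∧ 2 * ηk = k))
    (hηl : (Odd l ∧ ηl = l) ∨ (Even l ∧ 2 * ηl = l))
    (h : ηk + ηl ≤ n ∨ ∃ t : ℕ, Odd t ∧ l = k * t) :
    ∃ S : Matrix.symplecticGroup (Fin n) F, ∀ j : ℕ, S ^ j = 1 ↔ r * s ∣ j := by
  classical
  have hpp : p.Prime := Fact.out
  obtain ⟨q, hq⟩ : ∃ q : ℕ, q = Fintype.card F := ⟨_, rfl⟩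
  have hk' : k = orderOf ((q : ℕ) : ZMod r) := by rw [hq]; exact hk
  have hl' : l = orderOf ((q : ℕ) : ZMod s) := by rw [hq]; exact hl
  have hq2 : 2 ≤ q := hq ▸ Fintype.one_lt_card
  have hrscop : Nat.Coprime r s := (Nat.coprime_primes hr hs).mpr hrs
  have hrsdvd_r : (X ^ r - 1 : F[X]) ∣ X ^ (r * s) - 1 := by
    rw [pow_mul]
    exact sub_one_dvd_pow_sub_one (X ^ r) s
  have hrsdvd_s : (X ^ s - 1 : F[X]) ∣ X ^ (r * s) - 1 := by
    rw [mul_comm, pow_mul]
    exact sub_one_dvd_pow_sub_one (X ^ s) r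
  have hdualrs : ∀ π : F[X], π ∣ X ^ (r * s) - 1 →
      dual (RingHom.id F) π ∣ X ^ (r * s) - 1 := by
    intro π hπ
    have := dual_dvd π _ hπ
    rwa [dual_X_pow_sub_one (RingHom.id F) (r * s) (Nat.mul_pos hr.pos hs.pos)] at this
  have hhullrs : ∀ π : F[X], π ∣ X ^ (r * s) - 1 → hull π ∣ (X ^ (r * s) - 1) ^ 2 := by
    intro π hπ
    rw [sq]
    exact (hull_dvd π).trans (mul_dvd_mul hπ (hdualrs π hπ))
  have hX1 : (X - C (1 : F)) ∣ X ^ (r * s) - 1 := by
    rw [C_1]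
    exact sub_one_dvd_pow_sub_one X (r * s)
  have hone : (1 : F) * 1 = 1 := one_mul 1
  have hneg : (-1 : F) * (-1) = 1 := by ring
  have main : ∀ (f₀ : F[X]) (m : ℕ), f₀.Monic → f₀.coeff 0 ≠ 0 →
      dual (RingHom.id F) f₀ = f₀ → f₀.eval 1 ≠ 0 → f₀.eval (-1) ≠ 0 →
      f₀.natDegree ≤ 2 * n → f₀ ∣ (X ^ (r * s) - 1) ^ m →
      ∀ π₁ π₂ : F[X], Irreducible π₁ → Irreducible π₂ → π₁ ∣ f₀ → π₂ ∣ f₀ →
        π₁ ∣ X ^ (r * s) - 1 → ¬ π₁ ∣ X ^ s - 1 → π₂ ∣ X ^ (s * r) - 1 → ¬ π₂ ∣ X ^ r - 1 →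
      ∃ S : Matrix.symplecticGroup (Fin n) F, ∀ j : ℕ, S ^ j = 1 ↔ r * s ∣ j := by
    intro f₀ m hm h0 hd h1 hm1 hdeg hdvdm π₁ π₂ hirr₁ hirr₂ hf₁ hf₂ hdvd₁ hnd₁ hdvd₂ hnd₂
    obtain ⟨S, e, hχ, N, hN0, hNp, hSN⟩ := exists_sp_of_poly p n f₀ hm h0 hd h1 hm1 hdeg
    refine ⟨S, sp_pow_eq_one_iff p n r s hr hs hrs S N hNp hSN (e + m) ?_ π₁ π₂ hirr₁ hirr₂
      ?_ ?_ hdvd₁ hnd₁ hdvd₂ hnd₂⟩
    · rw [hχ, pow_add]
      exact mul_dvd_mul (pow_dvd_pow_of_dvd hX1 e) hdvdm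
    · rw [hχ]
      exact hf₁.trans (dvd_mul_left _ _)
    · rw [hχ]
      exact hf₂.trans (dvd_mul_left _ _)
  rcases h with h | ⟨t, ht, hlt⟩
  · obtain ⟨π₁, hm₁, hirr₁, hdvd₁, hdeg₁, h0₁, h1₁, hm1₁, hd₁⟩ :=
      exists_prime_factor p r k hr hr2 hrp hk
    obtain ⟨π₂, hm₂, hirr₂, hdvd₂, hdeg₂, h0₂, h1₂, hm1₂, hd₂⟩ :=
      exists_prime_factor p s l hs hs2 hsp hl
    have hdeg₁' : (hull π₁).natDegree = 2 * ηk := by
      by_cases hd : dual (RingHom.id F) π₁ = π₁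
      · rw [natDegree_hull_of_eq π₁ hd, hdeg₁]
        have hev := hd₁.mp hd
        rcases hηk with ⟨hodd, -⟩ | ⟨-, h2⟩
        · exact absurd hev (Nat.not_even_iff_odd.mpr hodd)
        · omega
      · rw [natDegree_hull_of_ne π₁ hm₁ h0₁ hd, hdeg₁]
        have hev : ¬ Even k := fun h => hd (hd₁.mpr h)
        rcases hηk with ⟨-, h2⟩ | ⟨heven, -⟩
        · omega
        · exact absurd heven hev
    have hdeg₂' : (hull π₂).natDegree = 2 * ηl := by
      by_cases hd : dual (RingHom.id F) π₂ = π₂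
      · rw [natDegree_hull_of_eq π₂ hd, hdeg₂]
        have hev := hd₂.mp hd
        rcases hηl with ⟨hodd, -⟩ | ⟨-, h2⟩
        · exact absurd hev (Nat.not_even_iff_odd.mpr hodd)
        · omega
      · rw [natDegree_hull_of_ne π₂ hm₂ h0₂ hd, hdeg₂]
        have hev : ¬ Even l := fun h => hd (hd₂.mpr h)
        rcases hηl with ⟨-, h2⟩ | ⟨heven, -⟩
        · omega
        · exact absurd heven hev
    apply main (hull π₁ * hull π₂) 4 ((hull_monic π₁ hm₁ h0₁).mul (hull_monic π₂ hm₂ h0₂))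
    · rw [mul_coeff_zero]
      exact mul_ne_zero (hull_coeff_zero π₁ hm₁ h0₁) (hull_coeff_zero π₂ hm₂ h0₂)
    · rw [dual_mul, hull_dual π₁ hm₁ h0₁, hull_dual π₂ hm₂ h0₂]
    · rw [eval_mul]
      exact mul_ne_zero (hull_eval p π₁ hm₁ h0₁ 1 hone h1₁) (hull_eval p π₂ hm₂ h0₂ 1 hone h1₂)
    · rw [eval_mul]
      exact mul_ne_zero (hull_eval p π₁ hm₁ h0₁ (-1) hneg hm1₁)
        (hull_eval p π₂ hm₂ h0₂ (-1) hneg hm1₂)
    · rw [(hull_monic π₁ hm₁ h0₁).natDegree_mul (hull_monic π₂ hm₂ h0₂), hdeg₁', hdeg₂']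
      omega
    · have e4 : (X ^ (r * s) - 1 : F[X]) ^ 4 = (X ^ (r * s) - 1) ^ 2 * (X ^ (r * s) - 1) ^ 2 := by
        ring
      rw [e4]
      exact mul_dvd_mul (hhullrs π₁ (hdvd₁.trans hrsdvd_r)) (hhullrs π₂ (hdvd₂.trans hrsdvd_s))
    · exact hirr₁
    · exact hirr₂
    · exact (dvd_hull π₁).trans (dvd_mul_right _ _)
    · exact (dvd_hull π₂).trans (dvd_mul_left _ _)
    · exact hdvd₁.trans hrsdvd_r
    · intro h'
      exact h1₁ (eval_one_of_dvd_dvd π₁ hirr₁ r s hrscop hdvd₁ h')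
    · rw [mul_comm]
      exact hdvd₂.trans hrsdvd_s
    · intro h'
      exact h1₂ (eval_one_of_dvd_dvd π₂ hirr₂ s r hrscop.symm hdvd₂ h')
  · have hηln : ηl ≤ n := eta_le_of_dvd_card p n hn s hs hs2 hsp l ηl hl hηl hsG
    have hrq : ¬ r ∣ q := by
      obtain ⟨f, -, hf⟩ := FiniteField.card F p
      rw [hq, hf]
      intro h
      exact hrp ((Nat.prime_dvd_prime_iff_eq hr hpp).1 (hr.dvd_of_dvd_pow h))
    have hsq : ¬ s ∣ q := by
      obtain ⟨f, -, hf⟩ := FiniteField.card F p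
      rw [hq, hf]
      intro h
      exact hsp ((Nat.prime_dvd_prime_iff_eq hs hpp).1 (hs.dvd_of_dvd_pow h))
    haveI := Fact.mk hr
    have hk0 : 0 < k := by
      have hkdvd : k ∣ r - 1 := by
        rw [hk']
        apply ZMod.orderOf_dvd_card_sub_one
        rw [Ne, ZMod.natCast_eq_zero_iff]
        exact hrq
      exact Nat.pos_of_dvd_of_pos hkdvd (by have := hr.two_le; omega)
    have hl0 : 0 < l := by
      haveI := Fact.mk hs
      have hldvd : l ∣ s - 1 := by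
        rw [hl']
        apply ZMod.orderOf_dvd_card_sub_one
        rw [Ne, ZMod.natCast_eq_zero_iff]
        exact hsq
      exact Nat.pos_of_dvd_of_pos hldvd (by have := hs.two_le; omega)
    have hrk : r ∣ q ^ k - 1 := by
      have h1 : ((q : ℕ) : ZMod r) ^ k = 1 := by
        rw [hk']
        exact pow_orderOf_eq_one _
      rw [← ZMod.natCast_eq_zero_iff, Nat.cast_sub (Nat.one_le_pow _ _ (by omega)), Nat.cast_pow,
        h1, Nat.cast_one, sub_self]
    have hsl : s ∣ q ^ l - 1 := by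
      have h1 : ((q : ℕ) : ZMod s) ^ l = 1 := by
        rw [hl']
        exact pow_orderOf_eq_one _
      rw [← ZMod.natCast_eq_zero_iff, Nat.cast_sub (Nat.one_le_pow _ _ (by omega)), Nat.cast_pow,
        h1, Nat.cast_one, sub_self]
    have hrl : r ∣ q ^ l - 1 := hrk.trans (Nat.pow_sub_one_dvd_pow_sub_one q ⟨t, hlt⟩)
    obtain ⟨π, hm, hirr, hdvd, hnr, hns, hdeg⟩ :=
      exists_rs_factor p r s l hr hs hrs hl hl0 (hq ▸ hrl) (hq ▸ hsl)
    have h0 : π.coeff 0 ≠ 0 := by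
      intro h0
      obtain ⟨c, hc⟩ := hdvd
      have h1 := congrArg (fun f : F[X] => f.coeff 0) hc
      simp only [mul_coeff_zero, h0, zero_mul, coeff_sub, coeff_one_zero] at h1
      rw [coeff_X_pow, if_neg (Nat.mul_pos hr.pos hs.pos).ne] at h1
      simp at h1
    have h1 : π.eval 1 ≠ 0 := by
      intro h
      have hd : (X - C 1 : F[X]) ∣ π := dvd_iff_isRoot.mpr h
      have hass := (irreducible_X_sub_C (1 : F)).associated_of_dvd hirr hd
      apply hnr
      refine hass.symm.dvd.trans ?_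
      rw [C_1]
      exact sub_one_dvd_pow_sub_one X r
    have hm1 : π.eval (-1) ≠ 0 := by
      intro h
      have h2 : (X ^ (r * s) - 1 : F[X]).eval (-1) = 0 := by
        obtain ⟨c, hc⟩ := hdvd
        rw [hc, eval_mul, h, zero_mul]
      have hodd : Odd (r * s) := (hr.odd_of_ne_two hr2).mul (hs.odd_of_ne_two hs2)
      rw [eval_sub, eval_pow, eval_X, eval_one, hodd.neg_one_pow] at h2
      have h3 : (-1 : F) = 1 := by linear_combination h2
      rw [h3] at h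
      exact h1 h
    have hdegh : (hull π).natDegree ≤ 2 * ηl := by
      rcases hηl with ⟨hodd, hη⟩ | ⟨heven, hη⟩
      · have := natDegree_hull_le π hm h0
        rw [hdeg] at this
        omega
      · have hdual : dual (RingHom.id F) π = π := by
          have hkeven : Even k := by
            rw [hlt] at heven
            rcases Nat.even_mul.mp heven with h | h
            · exact h
            · exact absurd h (Nat.not_even_iff_odd.mpr ht)
          obtain ⟨l₂, hl₂⟩ := heven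
          obtain ⟨k₂, hk₂⟩ := hkeven
          have hl₂' : l₂ = k₂ * t := by
            have h3 : 2 * l₂ = 2 * (k₂ * t) := by
              rw [two_mul, ← hl₂, hlt, hk₂]
              ring
            exact Nat.eq_of_mul_eq_mul_left two_pos h3
          have hr1 : r ∣ 1 + q ^ k₂ :=
            dvd_one_add_pow_half r hr q k₂ (by omega) (by rw [← hk', hk₂, two_mul])
          have hs1 : s ∣ 1 + q ^ l₂ :=
            dvd_one_add_pow_half s hs q l₂ (by omega) (by rw [← hl', hl₂, two_mul])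
          have hr2' : r ∣ 1 + q ^ l₂ := by
            rw [hl₂', pow_mul]
            have h4 := Odd.nat_add_dvd_pow_add_pow 1 (q ^ k₂) ht
            rw [one_pow] at h4
            exact hr1.trans h4
          obtain ⟨c, hc⟩ : r * s ∣ 1 + q ^ l₂ := hrscop.mul_dvd_of_dvd_of_dvd hr2' hs1
          apply dual_eq_self_of_pow p π hm hirr h0 l₂
          haveI : Fact (Irreducible π) := ⟨hirr⟩
          have hroot : (AdjoinRoot.root π) ^ (r * s) = 1 := by
            have := AdjoinRoot.mk_eq_zero.2 hdvd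
            simpa [sub_eq_zero] using this
          rw [← hq, hc, pow_mul, hroot, one_pow]
        rw [natDegree_hull_of_eq π hdual, hdeg]
        omega
    exact main (hull π) 2 (hull_monic π hm h0) (hull_coeff_zero π hm h0) (hull_dual π hm h0)
      (hull_eval p π hm h0 1 hone h1) (hull_eval p π hm h0 (-1) hneg hm1) (by omega)
      (hhullrs π hdvd) π π hirr hirr (dvd_hull π) (dvd_hull π) hdvd hns
      (by rw [mul_comm]; exact hdvd) hnr

/-- `PSp_{2n}(q)` has no element of order `r * s` iff `n < η(k) + η(l)` and `l / k` is not an odd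
integer. -/
theorem psp_rs_iff (p : ℕ) [Fact p.Prime] [CharP F p] (n : ℕ) (hn : 2 ≤ n) (r s : ℕ)
    (hr : r.Prime) (hs : s.Prime) (hr2 : r ≠ 2) (hs2 : s ≠ 2) (hrp : r ≠ p) (hsp : s ≠ p)
    (hrs : r ≠ s) (hsG : s ∣ Nat.card (Cfsg.PSp n F)) (k l ηk ηl : ℕ)
    (hk : k = orderOf ((Fintype.card F : ℕ) : ZMod r))
    (hl : l = orderOf ((Fintype.card F : ℕ) : ZMod s))
    (hηk : (Odd k ∧ ηk = k) ∨ (Even k ∧ 2 * ηk = k))
    (hηl : (Odd l ∧ ηl = l) ∨ (Even l ∧ 2 * ηl = l)) (hkl : ηk ≤ ηl) :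
    (r * s ∉ Set.range (orderOf : Cfsg.PSp n F → ℕ)) ↔
      (n < ηk + ηl ∧ ¬ ∃ t : ℕ, Odd t ∧ l = k * t) := by
  have hodd : Odd (r * s) := (hr.odd_of_ne_two hr2).mul (hs.odd_of_ne_two hs2)
  have hiff := psp_order_iff_sp (F := F) p n (by omega) (r * s) hodd
  constructor
  · intro h
    by_contra hcon
    apply h
    have hcase : ηk + ηl ≤ n ∨ ∃ t : ℕ, Odd t ∧ l = k * t := by
      by_cases h1 : ∃ t : ℕ, Odd t ∧ l = k * t
      · exact Or.inr h1
      · left
        by_contra h2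
        exact hcon ⟨by omega, h1⟩
    obtain ⟨g, hg⟩ := hiff.mpr (sp_rs_exists p n (by omega) r s hr hs hr2 hs2 hrp hsp hrs hsG
      k l ηk ηl hk hl hηk hηl hcase)
    exact ⟨g, hg⟩
  · rintro ⟨h1, h2⟩ ⟨g, hg⟩
    obtain ⟨S, hS⟩ := hiff.mp ⟨g, hg⟩
    rcases sp_rs_bound p n r s hr hs hr2 hs2 hrp hsp k l ηk ηl hk hl hηk hηl hkl S hS with h | h
    · omega
    · exact h2 h

end final

end Cfsg.Agent.Lib.Helper40.PSpRS
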