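-- Orders of semisimple elements of SL_2(q) (helper40).
import Mathlib
import Cfsg.Agent.Lib.Helper40.Semisimple

set_option autoImplicit false

namespace Cfsg.Agent.Lib.Helper40

open Polynomial

universe u

variable {F : Type u} [Field F]

theorem quadratic_form (χ : F[X]) (hmonic : χ.Monic) (hdeg : χ.natDegree = 2)
    (hc0 : χ.coeff 0 = 1) : χ = X ^ 2 + C (χ.coeff 1) * X + 1 := by
  have h := hmonic.as_sum
  rw [hdeg, Finset.sum_range_succ, Finset.sum_range_one, hc0] at h
  calc χ = X ^ 2 + (C 1 * X ^ 0 + C (χ.coeff 1) * X ^ 1) := h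
    _ = X ^ 2 + C (χ.coeff 1) * X + 1 := by
      rw [C_1, pow_zero, pow_one]
      ring

variable [Fintype F]

/-- An irreducible monic quadratic with constant term one divides `X^(q+1) - 1`. -/
theorem irreducible_quadratic_dvd (p : ℕ) [Fact p.Prime] [CharP F p] (χ : F[X]) (hmonic : χ.Monic)
    (hdeg : χ.natDegree = 2) (hc0 : χ.coeff 0 = 1) (hirr : Irreducible χ) :
    χ ∣ X ^ (Fintype.card F + 1) - 1 := by
  classical
  have : Fact (Irreducible χ) := ⟨hirr⟩
  set q := Fintype.card F with hq
  obtain ⟨k, hk⟩ : ∃ k : ℕ, q = p ^ k := by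
    obtain ⟨n, _, h⟩ := FiniteField.card F p
    exact ⟨n, h⟩
  have hq0 : q ≠ 0 := Fintype.card_ne_zero
  have hform := quadratic_form χ hmonic hdeg hc0
  set c := χ.coeff 1 with hc
  let α : AdjoinRoot χ := AdjoinRoot.root χ
  let c' : AdjoinRoot χ := AdjoinRoot.of χ c
  have hα : α ^ 2 + c' * α + 1 = 0 := by
    have h2 : AdjoinRoot.mk χ (X ^ 2 + C c * X + 1) = 0 := by
      rw [← hform]
      exact AdjoinRoot.mk_self
    simpa [α, c'] using h2
  have : CharP (AdjoinRoot χ) p :=
    charP_of_injective_algebraMap (algebraMap F (AdjoinRoot χ)).injective p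
  have hc'q : c' ^ q = c' := by
    simp only [c']
    rw [← map_pow, FiniteField.pow_card]
  have hβ : (α ^ q) ^ 2 + c' * α ^ q + 1 = 0 := by
    have h : (α ^ 2 + c' * α + 1) ^ q = 0 ^ q := by rw [hα]
    rw [hk, add_pow_char_pow, add_pow_char_pow, ← hk, mul_pow, hc'q, one_pow, zero_pow hq0] at h
    rw [← h]
    ring
  have hprod : (α ^ q - α) * (α ^ q + α + c') = 0 := by
    linear_combination hβ - hα
  rcases mul_eq_zero.1 hprod with h1 | h1
  · exfalso
    have hdvd : χ ∣ X ^ q - X := by
      rw [← AdjoinRoot.mk_eq_zero]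
      simp only [map_sub, map_pow, AdjoinRoot.mk_X]
      exact h1
    have hsplit : (X ^ q - X : F[X]).Splits := by
      rw [splits_iff_card_roots, FiniteField.roots_X_pow_card_sub_X,
        FiniteField.X_pow_card_sub_X_natDegree_eq F Fintype.one_lt_card]
      rfl
    have h2 := (hsplit.of_dvd (FiniteField.X_pow_card_sub_X_ne_zero F Fintype.one_lt_card)
      hdvd).degree_eq_one_of_irreducible hirr
    rw [degree_eq_natDegree hmonic.ne_zero, hdeg] at h2
    norm_num at h2
  · rw [← AdjoinRoot.mk_eq_zero]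
    simp only [map_sub, map_pow, AdjoinRoot.mk_X, map_one]
    have h3 : α ^ (q + 1) = 1 := by
      rw [pow_succ]
      linear_combination α * h1 - hα
    rw [sub_eq_zero]
    exact h3

/-- A matrix of determinant one in `M_2(F_q)` of order prime to the characteristic has order
dividing `q - 1` or `q + 1`. -/
theorem sl2_pow_eq_one (p : ℕ) [Fact p.Prime] [CharP F p]
    (M : Matrix (Fin 2) (Fin 2) F) (hdet : M.det = 1) (k : ℕ) (hk : (k : F) ≠ 0) (hMk : M ^ k = 1) :
    M ^ (Fintype.card F - 1) = 1 ∨ M ^ (Fintype.card F + 1) = 1 := by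
  classical
  set q := Fintype.card F with hq
  have hmonic : M.charpoly.Monic := Matrix.charpoly_monic M
  have hdeg : M.charpoly.natDegree = 2 := by
    rw [Matrix.charpoly_natDegree_eq_dim]
    simp
  have hc0 : M.charpoly.coeff 0 = 1 := by
    have h := Matrix.det_eq_sign_charpoly_coeff M
    rw [hdet] at h
    simpa using h.symm
  have hCH : aeval M M.charpoly = 0 := Matrix.aeval_self_charpoly M
  have key : ∀ (ψ : F[X]) (e : ℕ), ψ ∣ X ^ e - 1 → aeval M ψ = 0 → M ^ e = 1 := by
    intro ψ e hdvd h0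
    obtain ⟨r, hr⟩ := hdvd
    have h := congrArg (aeval M) hr
    rw [map_mul, h0, zero_mul, map_sub, map_pow, aeval_X, map_one] at h
    exact sub_eq_zero.1 h
  by_cases hirr : Irreducible M.charpoly
  · right
    exact key _ _ (irreducible_quadratic_dvd p _ hmonic hdeg hc0 hirr) hCH
  · left
    rw [hmonic.irreducible_iff_roots_eq_zero_of_degree_le_three (by omega) (by omega)] at hirr
    obtain ⟨a, ha⟩ := Multiset.exists_mem_of_ne_zero hirr
    have hroot : M.charpoly.IsRoot a := isRoot_of_mem_roots ha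
    have ha0 : a ≠ 0 := by
      rintro rfl
      have h1 : M.charpoly.eval 0 = 1 := by rw [← coeff_zero_eq_eval_zero, hc0]
      rw [IsRoot.def, h1] at hroot
      exact one_ne_zero hroot
    have hform := quadratic_form M.charpoly hmonic hdeg hc0
    set c := M.charpoly.coeff 1 with hc
    have hac : a ^ 2 + c * a + 1 = 0 := by
      have h1 := hroot
      rw [IsRoot.def, hform] at h1
      simpa using h1
    have hfac : M.charpoly = (X - C a) * (X - C a⁻¹) := by
      have hc' : c = -(a + a⁻¹) := by
        field_simp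
        linear_combination hac
      have h1 : (C a * C a⁻¹ : F[X]) = 1 := by rw [← C_mul, mul_inv_cancel₀ ha0, C_1]
      rw [hform, hc']
      simp only [map_neg, map_add]
      linear_combination (-1 : F[X]) * h1
    have hqa : a ^ (q - 1) = 1 := FiniteField.pow_card_sub_one_eq_one a ha0
    have hqb : a⁻¹ ^ (q - 1) = 1 := FiniteField.pow_card_sub_one_eq_one _ (inv_ne_zero ha0)
    have hda : X - C a ∣ (X ^ (q - 1) - 1 : F[X]) := by
      rw [dvd_iff_isRoot]
      simp [hqa]
    have hdb : X - C a⁻¹ ∣ (X ^ (q - 1) - 1 : F[X]) := by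
      rw [dvd_iff_isRoot]
      simp [hqb]
    by_cases hab : a = a⁻¹
    · have hss := isSemisimple_of_pow_eq_one M k hk hMk
      have hsq : Squarefree (minpoly F M) := by
        rw [← Matrix.minpoly_toLin']
        exact hss.minpoly_squarefree
      have hd1 : minpoly F M ∣ (X - C a) ^ 2 := by
        have h1 := Matrix.minpoly_dvd_charpoly M
        rw [hfac, ← hab, ← sq] at h1
        exact h1
      have hd2 : minpoly F M ∣ X - C a := (hsq.dvd_pow_iff_dvd (by norm_num)).1 hd1
      exact key _ _ (hd2.trans hda) (minpoly.aeval F M)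
    · have hcop : IsCoprime (X - C a) (X - C a⁻¹) :=
        isCoprime_X_sub_C_of_isUnit_sub (sub_ne_zero.2 hab).isUnit
      have h1 : M.charpoly ∣ X ^ (q - 1) - 1 := by
        rw [hfac]
        exact hcop.mul_dvd hda hdb
      exact key _ _ h1 hCH

end Cfsg.Agent.Lib.Helper40
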