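-- PSL_3(4) has no element of order 15 (helper40).
import Mathlib
import Cfsg.Agent.Lib.Helper40.Semisimple
import Cfsg.Agent.Lib.Helper40.SL2Order

set_option autoImplicit false

namespace Cfsg.Agent.Lib.Helper40

open Polynomial

universe u v

section aux

variable {F : Type u} [Field F] [Fintype F]

theorem X_pow_card_sub_X_splits : (X ^ Fintype.card F - X : F[X]).Splits := by
  rw [splits_iff_card_roots, FiniteField.roots_X_pow_card_sub_X,
    FiniteField.X_pow_card_sub_X_natDegree_eq F Fintype.one_lt_card]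
  rfl

theorem X_pow_card_sub_X_eq_prod : (X ^ Fintype.card F - X : F[X]) = ∏ c : F, (X - C c) := by
  have hmonic : (X ^ Fintype.card F - X : F[X]).Monic := by
    apply monic_X_pow_sub
    rw [degree_X]
    exact_mod_cast Fintype.one_lt_card
  have hprod := (X_pow_card_sub_X_splits (F := F)).eq_prod_roots
  rw [hmonic.leadingCoeff, C_1, one_mul, FiniteField.roots_X_pow_card_sub_X] at hprod
  exact hprod

/-- An element of an extension fixed by the `q`-power map lies in the base field. -/
theorem mem_range_of_pow_card_eq {K : Type v} [Field K] [Algebra F K] (β : K)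
    (h : β ^ Fintype.card F = β) : ∃ c : F, algebraMap F K c = β := by
  classical
  have h2 := congrArg (aeval β) (X_pow_card_sub_X_eq_prod (F := F))
  rw [map_sub, map_pow, aeval_X, h, sub_self, map_prod] at h2
  obtain ⟨c, -, hc⟩ := Finset.prod_eq_zero_iff.1 h2.symm
  rw [map_sub, aeval_X, aeval_C, sub_eq_zero] at hc
  exact ⟨c, hc.symm⟩

/-- An irreducible monic quadratic `X² + sX + t` over `F_q` divides `X^(q+1) - t`. -/
theorem irreducible_quadratic_dvd_C (p : ℕ) [Fact p.Prime] [CharP F p] (χ : F[X]) (hmonic : χ.Monic)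
    (hdeg : χ.natDegree = 2) (hirr : Irreducible χ) :
    χ ∣ X ^ (Fintype.card F + 1) - C (χ.coeff 0) := by
  classical
  have : Fact (Irreducible χ) := ⟨hirr⟩
  set q := Fintype.card F with hq
  obtain ⟨k, hk⟩ : ∃ k : ℕ, q = p ^ k := by
    obtain ⟨n, _, h⟩ := FiniteField.card F p
    exact ⟨n, h⟩
  have hq0 : q ≠ 0 := Fintype.card_ne_zero
  have hform : χ = X ^ 2 + C (χ.coeff 1) * X + C (χ.coeff 0) := by
    have h := hmonic.as_sum
    rw [hdeg, Finset.sum_range_succ, Finset.sum_range_one] at h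
    calc χ = X ^ 2 + (C (χ.coeff 0) * X ^ 0 + C (χ.coeff 1) * X ^ 1) := h
      _ = X ^ 2 + C (χ.coeff 1) * X + C (χ.coeff 0) := by
        rw [pow_zero, pow_one]
        ring
  set s := χ.coeff 1 with hs
  set t := χ.coeff 0 with ht
  let α : AdjoinRoot χ := AdjoinRoot.root χ
  let s' : AdjoinRoot χ := AdjoinRoot.of χ s
  let t' : AdjoinRoot χ := AdjoinRoot.of χ t
  have hα : α ^ 2 + s' * α + t' = 0 := by
    have h2 : AdjoinRoot.mk χ (X ^ 2 + C s * X + C t) = 0 := by
      rw [← hform]
      exact AdjoinRoot.mk_self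
    simpa [α, s', t'] using h2
  have : CharP (AdjoinRoot χ) p :=
    charP_of_injective_algebraMap (algebraMap F (AdjoinRoot χ)).injective p
  have hs'q : s' ^ q = s' := by
    simp only [s']
    rw [← map_pow, FiniteField.pow_card]
  have ht'q : t' ^ q = t' := by
    simp only [t']
    rw [← map_pow, FiniteField.pow_card]
  have hβ : (α ^ q) ^ 2 + s' * α ^ q + t' = 0 := by
    have h : (α ^ 2 + s' * α + t') ^ q = 0 ^ q := by rw [hα]
    rw [hk, add_pow_char_pow, add_pow_char_pow, ← hk, mul_pow, hs'q, ht'q, zero_pow hq0] at h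
    rw [← h]
    ring
  have hprod : (α ^ q - α) * (α ^ q + α + s') = 0 := by
    linear_combination hβ - hα
  rcases mul_eq_zero.1 hprod with h1 | h1
  · exfalso
    have hdvd : χ ∣ X ^ q - X := by
      rw [← AdjoinRoot.mk_eq_zero]
      simp only [map_sub, map_pow, AdjoinRoot.mk_X]
      exact h1
    have h2 := (X_pow_card_sub_X_splits.of_dvd
      (FiniteField.X_pow_card_sub_X_ne_zero F Fintype.one_lt_card) hdvd).degree_eq_one_of_irreducible hirr
    rw [degree_eq_natDegree hmonic.ne_zero, hdeg] at h2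
    norm_num at h2
  · rw [← AdjoinRoot.mk_eq_zero]
    simp only [map_sub, map_pow, AdjoinRoot.mk_X, AdjoinRoot.mk_C]
    have h3 : α ^ (q + 1) = t' := by
      rw [pow_succ]
      linear_combination α * h1 - hα
    rw [sub_eq_zero]
    exact h3

end aux

section main

variable {F : Type u} [Field F] [Fintype F]

omit [Fintype F] in
theorem key_scalar {n : ℕ} (M : Matrix (Fin n) (Fin n) F) (ψ : F[X]) (e : ℕ) (c : F)
    (hdvd : ψ ∣ X ^ e - C c) (h0 : aeval M ψ = 0) : M ^ e = c • 1 := by
  obtain ⟨r, hr⟩ := hdvd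
  have h := congrArg (aeval M) hr
  rw [map_mul, h0, zero_mul, map_sub, map_pow, aeval_X, aeval_C,
    Algebra.algebraMap_eq_smul_one] at h
  exact sub_eq_zero.1 h

theorem sl3_four_scalar (hF : Fintype.card F = 4) (M : Matrix (Fin 3) (Fin 3) F)
    (hdet : M.det = 1) (hM : M ^ 45 = 1) :
    (∃ c : F, M ^ 3 = c • 1) ∨ (∃ c : F, M ^ 5 = c • 1) := by
  classical
  obtain ⟨p, hp⟩ := CharP.exists F
  have : Fact p.Prime := ⟨CharP.char_is_prime F p⟩
  have hpp : p.Prime := Fact.out
  have hp2 : p = 2 := by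
    obtain ⟨n, -, hq⟩ := FiniteField.card F p
    rw [hF] at hq
    have h1 : p ∣ 4 := by
      rw [hq]
      exact dvd_pow_self p n.ne_zero
    have h2 : p ∣ 2 := by
      have h4 : (4 : ℕ) = 2 ^ 2 := by norm_num
      rw [h4] at h1
      exact hpp.dvd_of_dvd_pow h1
    exact (Nat.prime_dvd_prime_iff_eq hpp Nat.prime_two).1 h2
  subst hp2
  have h20 : (2 : F) = 0 := by
    have h := CharP.cast_eq_zero F 2
    exact_mod_cast h
  have hneg : ∀ x : F, -x = x := by
    intro x
    rw [neg_eq_iff_add_eq_zero, ← two_mul, h20, zero_mul]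
  have hmonic : M.charpoly.Monic := Matrix.charpoly_monic M
  have hdeg : M.charpoly.natDegree = 3 := by
    rw [Matrix.charpoly_natDegree_eq_dim]
    simp
  have hc0 : M.charpoly.coeff 0 = 1 := by
    have h := Matrix.det_eq_sign_charpoly_coeff M
    rw [hdet] at h
    simp only [Fintype.card_fin] at h
    rw [h]
    have h3 : ((-1 : F)) ^ 3 = 1 := by
      rw [hneg]
      simp
    rw [h3, one_mul]
  have hCH : aeval M M.charpoly = 0 := Matrix.aeval_self_charpoly M
  have hmin : minpoly F M ∣ M.charpoly := Matrix.minpoly_dvd_charpoly M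
  have hmin45 : minpoly F M ∣ X ^ 45 - 1 := by
    apply minpoly.dvd
    simp [hM]
  by_cases hirr : Irreducible M.charpoly
  · left
    have hχmin : M.charpoly ∣ minpoly F M := by
      obtain ⟨r, hr⟩ := hmin
      rcases hirr.isUnit_or_isUnit hr with h | h
      · exact absurd h (minpoly.not_isUnit F M)
      · obtain ⟨u, rfl⟩ := h
        exact ⟨↑u⁻¹, by rw [hr, mul_assoc, Units.mul_inv, mul_one]⟩
    have hχ45 : M.charpoly ∣ X ^ 45 - 1 := hχmin.trans hmin45
    have : Fact (Irreducible M.charpoly) := ⟨hirr⟩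
    let α : AdjoinRoot M.charpoly := AdjoinRoot.root M.charpoly
    have hα45 : α ^ 45 = 1 := by
      have h := AdjoinRoot.mk_eq_zero.2 hχ45
      simpa [sub_eq_zero, α] using h
    have hα63 : α ^ 63 = 1 := by
      have hfin : Module.Finite F (AdjoinRoot M.charpoly) :=
        (AdjoinRoot.powerBasis hmonic.ne_zero).finite
      have : Finite (AdjoinRoot M.charpoly) := Module.finite_of_finite F
      have hcard : Nat.card (AdjoinRoot M.charpoly) = 64 := by
        rw [Module.natCard_eq_pow_finrank (K := F),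
          (AdjoinRoot.powerBasis hmonic.ne_zero).finrank, AdjoinRoot.powerBasis_dim, hdeg,
          Nat.card_eq_fintype_card, hF]
        norm_num
      have hα0 : α ≠ 0 := by
        intro h
        rw [h, zero_pow (by norm_num)] at hα45
        exact zero_ne_one hα45
      have h1 : (Units.mk0 α hα0) ^ Nat.card (AdjoinRoot M.charpoly)ˣ = 1 := pow_card_eq_one'
      rw [Nat.card_units, hcard] at h1
      have h2 := congrArg Units.val h1
      simpa using h2
    have hα9 : α ^ 9 = 1 := by
      have h := pow_gcd_eq_one.2 ⟨hα45, hα63⟩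
      simpa using h
    have hβ : (α ^ 3) ^ Fintype.card F = α ^ 3 := by
      rw [hF, ← pow_mul]
      calc α ^ (3 * 4) = α ^ 9 * α ^ 3 := by rw [← pow_add]
        _ = α ^ 3 := by rw [hα9, one_mul]
    obtain ⟨c, hc⟩ := mem_range_of_pow_card_eq (F := F) (α ^ 3) hβ
    refine ⟨c, key_scalar M M.charpoly 3 c ?_ hCH⟩
    rw [← AdjoinRoot.mk_eq_zero]
    simp only [map_sub, map_pow, AdjoinRoot.mk_X, AdjoinRoot.mk_C]
    rw [sub_eq_zero, ← AdjoinRoot.algebraMap_eq, hc]
  · rw [hmonic.irreducible_iff_roots_eq_zero_of_degree_le_three (by omega) (by omega)] at hirr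
    obtain ⟨a, ha⟩ := Multiset.exists_mem_of_ne_zero hirr
    have hroot : M.charpoly.IsRoot a := isRoot_of_mem_roots ha
    obtain ⟨ψ, hψ⟩ := dvd_iff_isRoot.2 hroot
    have hψmonic : ψ.Monic := by
      have h := hmonic
      rw [hψ] at h
      exact (monic_X_sub_C a).of_mul_monic_left h
    have hψdeg : ψ.natDegree = 2 := by
      have h := hdeg
      rw [hψ, (monic_X_sub_C a).natDegree_mul hψmonic, natDegree_X_sub_C] at h
      omega
    have hat : a * ψ.coeff 0 = 1 := by
      have h1 : M.charpoly.coeff 0 = (X - C a : F[X]).coeff 0 * ψ.coeff 0 := by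
        rw [hψ, mul_coeff_zero]
      rw [hc0] at h1
      simp only [coeff_sub, coeff_X_zero, coeff_C_zero, zero_sub] at h1
      rw [hneg] at h1
      exact h1.symm
    have ha0 : a ≠ 0 := left_ne_zero_of_mul_eq_one hat
    have ha3 : a ^ 3 = 1 := by
      have h := FiniteField.pow_card_sub_one_eq_one a ha0
      rwa [hF] at h
    have hkey4 : ∀ b : F, X - C b ∣ (X ^ 4 - X : F[X]) := by
      intro b
      rw [dvd_iff_isRoot]
      have h := FiniteField.pow_card b
      rw [hF] at h
      simp [h]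
    by_cases hirr2 : Irreducible ψ
    · right
      refine ⟨ψ.coeff 0, key_scalar M M.charpoly 5 _ ?_ hCH⟩
      have h1 : ψ ∣ X ^ 5 - C (ψ.coeff 0) := by
        have h := irreducible_quadratic_dvd_C 2 ψ hψmonic hψdeg hirr2
        rwa [hF] at h
      have h2 : X - C a ∣ X ^ 5 - C (ψ.coeff 0) := by
        rw [dvd_iff_isRoot]
        simp only [IsRoot.def, eval_sub, eval_pow, eval_X, eval_C]
        have h5 : a ^ 5 = a ^ 3 * (a * a) := by ring
        rw [h5, ha3, one_mul, sub_eq_zero]
        calc a * a = a * a * (a * ψ.coeff 0) := by rw [hat, mul_one]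
          _ = a ^ 3 * ψ.coeff 0 := by ring
          _ = ψ.coeff 0 := by rw [ha3, one_mul]
      have hcop : IsCoprime (X - C a) ψ := by
        apply IsCoprime.symm
        apply (Irreducible.coprime_iff_not_dvd hirr2).2
        intro hd
        have h := natDegree_le_of_dvd hd (X_sub_C_ne_zero a)
        rw [hψdeg, natDegree_X_sub_C] at h
        omega
      rw [hψ]
      exact hcop.mul_dvd h2 h1
    · left
      rw [hψmonic.irreducible_iff_roots_eq_zero_of_degree_le_three (by omega) (by omega)] at hirr2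
      obtain ⟨b, hb⟩ := Multiset.exists_mem_of_ne_zero hirr2
      obtain ⟨ψ₂, hψ₂⟩ := dvd_iff_isRoot.2 (isRoot_of_mem_roots hb)
      have hψ₂monic : ψ₂.Monic := by
        have h := hψmonic
        rw [hψ₂] at h
        exact (monic_X_sub_C b).of_mul_monic_left h
      have hψ₂deg : ψ₂.natDegree = 1 := by
        have h := hψdeg
        rw [hψ₂, (monic_X_sub_C b).natDegree_mul hψ₂monic, natDegree_X_sub_C] at h
        omega
      have hψ₂form : ψ₂ = X - C (-(ψ₂.coeff 0)) := by
        have h := hψ₂monic.as_sum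
        rw [hψ₂deg, Finset.sum_range_one] at h
        rw [map_neg, sub_neg_eq_add]
        calc ψ₂ = X ^ 1 + C (ψ₂.coeff 0) * X ^ 0 := h
          _ = X + C (ψ₂.coeff 0) := by rw [pow_one, pow_zero, mul_one]
      have hχdvd : M.charpoly ∣ (X ^ 4 - X) ^ 3 := by
        have h3 : ((X ^ 4 - X : F[X])) ^ 3 = (X ^ 4 - X) * ((X ^ 4 - X) * (X ^ 4 - X)) := by ring
        rw [hψ, hψ₂, hψ₂form, h3]
        exact mul_dvd_mul (hkey4 a) (mul_dvd_mul (hkey4 b) (hkey4 _))
      have hss : Squarefree (minpoly F M) := by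
        rw [← Matrix.minpoly_toLin']
        apply Module.End.IsSemisimple.minpoly_squarefree
        apply isSemisimple_of_pow_eq_one M 45 _ hM
        intro h
        have h' : ((45 : ℕ) : F) = 0 := by exact_mod_cast h
        rw [CharP.cast_eq_zero_iff F 2] at h'
        omega
      have hmin4 : minpoly F M ∣ X ^ 4 - X :=
        (hss.dvd_pow_iff_dvd (by norm_num)).1 (hmin.trans hχdvd)
      have hM4 : M ^ 4 = M := by
        obtain ⟨r, hr⟩ := hmin4
        have h := congrArg (aeval M) hr
        rw [map_mul, minpoly.aeval, zero_mul, map_sub, map_pow, aeval_X] at h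
        exact sub_eq_zero.1 h
      refine ⟨1, ?_⟩
      rw [one_smul]
      calc M ^ 3 = M ^ 45 * M ^ 3 := by rw [hM, one_mul]
        _ = M ^ 44 * M ^ 4 := by rw [← pow_add, ← pow_add]
        _ = M ^ 44 * M := by rw [hM4]
        _ = 1 := by rw [← pow_succ, hM]

theorem psl3_four_orderOf_ne (hF : Fintype.card F = 4)
    (g : Matrix.ProjectiveSpecialLinearGroup (Fin 3) F) : orderOf g ≠ 15 := by
  classical
  intro h15
  obtain ⟨A, rfl⟩ := QuotientGroup.mk_surjective g
  have h1 : ((A : Matrix.ProjectiveSpecialLinearGroup (Fin 3) F)) ^ 15 = 1 := by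
    rw [← h15]
    exact pow_orderOf_eq_one _
  rw [← QuotientGroup.mk_pow, QuotientGroup.eq_one_iff,
    Matrix.SpecialLinearGroup.mem_center_iff] at h1
  obtain ⟨r, hr, hrA⟩ := h1
  have hr3 : r ^ 3 = 1 := by simpa using hr
  have hM45 : (A : Matrix (Fin 3) (Fin 3) F) ^ 45 = 1 := by
    have h2 : (A : Matrix (Fin 3) (Fin 3) F) ^ 45 =
        ((A ^ 15 : Matrix.SpecialLinearGroup (Fin 3) F) : Matrix (Fin 3) (Fin 3) F) ^ 3 := by
      rw [Matrix.SpecialLinearGroup.coe_pow, ← pow_mul]
    rw [h2, ← hrA, ← map_pow, hr3, map_one]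
  have hcent : ∀ (k : ℕ) (c : F), (A : Matrix (Fin 3) (Fin 3) F) ^ k = c • 1 →
      ((A : Matrix.ProjectiveSpecialLinearGroup (Fin 3) F)) ^ k = 1 := by
    intro k c hc
    rw [← QuotientGroup.mk_pow, QuotientGroup.eq_one_iff, Matrix.SpecialLinearGroup.mem_center_iff]
    refine ⟨c, ?_, ?_⟩
    · have hd : ((A ^ k : Matrix.SpecialLinearGroup (Fin 3) F) : Matrix (Fin 3) (Fin 3) F).det = 1 :=
        (A ^ k).2
      rw [Matrix.SpecialLinearGroup.coe_pow, hc, Matrix.det_smul, Matrix.det_one, mul_one] at hd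
      exact hd
    · rw [Matrix.SpecialLinearGroup.coe_pow, hc, Matrix.smul_one_eq_diagonal]
      rfl
  rcases sl3_four_scalar hF (A : Matrix (Fin 3) (Fin 3) F) A.2 hM45 with ⟨c, hc⟩ | ⟨c, hc⟩
  · have h3 := orderOf_dvd_of_pow_eq_one (hcent 3 c hc)
    rw [h15] at h3
    omega
  · have h5 := orderOf_dvd_of_pow_eq_one (hcent 5 c hc)
    rw [h15] at h5
    omega

end main

end Cfsg.Agent.Lib.Helper40
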