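-- Orders of PSL_4(2) and PSL_3(4), and their non-isomorphism (helper40).
import Mathlib
import Cfsg.Agent.Lib.Helper40.GLSylow
import Cfsg.Agent.Lib.Helper40.SLSylow
import Cfsg.Agent.Lib.Helper40.PSL34

set_option autoImplicit false

namespace Cfsg.Agent.Lib.Helper40

universe u v

section orders

variable {F : Type u} [Field F] [Fintype F]

omit [Fintype F] in
/-- `|SL_n(F)| = |PSL_n(F)| * |μ_n(F)|`. -/
theorem card_SL_eq_card_PSL_mul (n : ℕ) (hn : 0 < n) :
    Nat.card (Matrix.SpecialLinearGroup (Fin n) F) =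
      Nat.card (Matrix.ProjectiveSpecialLinearGroup (Fin n) F) * Nat.card (rootsOfUnity n F) := by
  classical
  have h1 := Subgroup.card_eq_card_quotient_mul_card_subgroup
    (Subgroup.center (Matrix.SpecialLinearGroup (Fin n) F))
  rw [h1]
  congr 1
  have e := Matrix.SpecialLinearGroup.center_equiv_rootsOfUnity (n := Fin n) (R := F)
  rw [Nat.card_congr e.toEquiv]
  simp only [Fintype.card_fin]
  rw [max_eq_left hn]

theorem card_PSL_four_two (hF : Fintype.card F = 2) :
    Nat.card (Matrix.ProjectiveSpecialLinearGroup (Fin 4) F) = 20160 := by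
  classical
  have h1 := card_GL_eq_card_SL_mul (F := F) 4 (by norm_num)
  have h2 := card_SL_eq_card_PSL_mul (F := F) 4 (by norm_num)
  rw [Matrix.card_GL_field, hF] at h1
  have hu : Nat.card Fˣ = 1 := by
    rw [Nat.card_units, Nat.card_eq_fintype_card, hF]
  have hsub : Subsingleton Fˣ := (Nat.card_eq_one_iff_unique.1 hu).1
  have hr : Nat.card (rootsOfUnity 4 F) = 1 := by
    rw [Nat.card_eq_one_iff_unique]
    exact ⟨⟨fun a b => Subtype.ext (Subsingleton.elim _ _)⟩, ⟨1⟩⟩
  rw [hr, mul_one] at h2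
  rw [← h2]
  have hprod : ∏ i : Fin 4, (2 ^ 4 - 2 ^ (i : ℕ)) = 20160 := by
    simp [Fin.prod_univ_succ]
  rw [hprod] at h1
  omega

theorem card_PSL_three_four (hF : Fintype.card F = 4) :
    Nat.card (Matrix.ProjectiveSpecialLinearGroup (Fin 3) F) = 20160 := by
  classical
  have h1 := card_GL_eq_card_SL_mul (F := F) 3 (by norm_num)
  have h2 := card_SL_eq_card_PSL_mul (F := F) 3 (by norm_num)
  rw [Matrix.card_GL_field, hF] at h1
  have hu : Nat.card Fˣ = 3 := by
    rw [Nat.card_units, Nat.card_eq_fintype_card, hF]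
  have hr : Nat.card (rootsOfUnity 3 F) = 3 := by
    have htop : rootsOfUnity 3 F = ⊤ := by
      rw [eq_top_iff]
      intro x _
      rw [mem_rootsOfUnity]
      have := pow_card_eq_one' (G := Fˣ) (x := x)
      rwa [hu] at this
    rw [htop, Subgroup.card_top, hu]
  rw [hr] at h2
  have hprod : ∏ i : Fin 3, (4 ^ 3 - 4 ^ (i : ℕ)) = 181440 := by
    simp [Fin.prod_univ_succ]
  rw [hprod] at h1
  omega

theorem exists_orderOf_PSL_four_two (hF : Fintype.card F = 2) :
    ∃ x : Matrix.ProjectiveSpecialLinearGroup (Fin 4) F, orderOf x = 15 := by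
  classical
  have hu : Nat.card Fˣ = 1 := by
    rw [Nat.card_units, Nat.card_eq_fintype_card, hF]
  have hsub : Subsingleton Fˣ := (Nat.card_eq_one_iff_unique.1 hu).1
  obtain ⟨j, hj⟩ := exists_injective_torus (F := F) 4 1 4 15 (by norm_num) (by norm_num)
    (by rw [hF]; norm_num)
  let c : Multiplicative (ZMod 15) →* (Fin 1 → Multiplicative (ZMod 15)) :=
    (MulEquiv.funUnique (Fin 1) (Multiplicative (ZMod 15))).symm.toMonoidHom
  have hc : Function.Injective c := (MulEquiv.funUnique (Fin 1) (Multiplicative (ZMod 15))).symm.injective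
  let z : Multiplicative (ZMod 15) := Multiplicative.ofAdd (1 : ZMod 15)
  have hz : orderOf z = 15 := by
    rw [orderOf_ofAdd_eq_addOrderOf, ZMod.addOrderOf_one]
  let g : Matrix.GeneralLinearGroup (Fin 4) F := j (c z)
  have hg : orderOf g = 15 := by
    rw [orderOf_injective j hj, orderOf_injective c hc, hz]
  have hdet : (g : Matrix (Fin 4) (Fin 4) F).det = 1 := by
    have h1 : Matrix.GeneralLinearGroup.det g = 1 := Subsingleton.elim _ _
    have h2 := congrArg (fun u : Fˣ => (u : F)) h1
    simpa [Matrix.GeneralLinearGroup.det] using h2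
  let A : Matrix.SpecialLinearGroup (Fin 4) F := ⟨(g : Matrix (Fin 4) (Fin 4) F), hdet⟩
  have hA : orderOf A = 15 := by
    rw [← orderOf_injective (Matrix.SpecialLinearGroup.toGL (n := Fin 4) (R := F))
      Matrix.SpecialLinearGroup.toGL_injective A]
    have hAg : Matrix.SpecialLinearGroup.toGL A = g := Units.ext rfl
    rw [hAg, hg]
  have hcenter : Subgroup.center (Matrix.SpecialLinearGroup (Fin 4) F) = ⊥ := by
    apply Subgroup.eq_bot_of_card_eq
    have e := Matrix.SpecialLinearGroup.center_equiv_rootsOfUnity (n := Fin 4) (R := F)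
    rw [Nat.card_congr e.toEquiv, Nat.card_eq_one_iff_unique]
    exact ⟨⟨fun a b => Subtype.ext (Subsingleton.elim _ _)⟩, ⟨1⟩⟩
  have hinj : Function.Injective
      (QuotientGroup.mk' (Subgroup.center (Matrix.SpecialLinearGroup (Fin 4) F))) := by
    rw [← MonoidHom.ker_eq_bot_iff, QuotientGroup.ker_mk', hcenter]
  refine ⟨QuotientGroup.mk' _ A, ?_⟩
  rw [orderOf_injective _ hinj, hA]

theorem not_nonempty_mulEquiv_PSL {K : Type v} [Field K] [Fintype K] (hF : Fintype.card F = 2)
    (hK : Fintype.card K = 4) :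
    ¬ Nonempty (Matrix.ProjectiveSpecialLinearGroup (Fin 4) F ≃*
      Matrix.ProjectiveSpecialLinearGroup (Fin 3) K) := by
  rintro ⟨φ⟩
  obtain ⟨x, hx⟩ := exists_orderOf_PSL_four_two hF
  apply psl3_four_orderOf_ne hK (φ x)
  rw [MulEquiv.orderOf_eq, hx]

end orders

end Cfsg.Agent.Lib.Helper40
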