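-- Degrees of the unipotent characters of GL_n(q) (helper40).
import Mathlib
import Cfsg.Prelude.Def_LinearParabolics
import Cfsg.Agent.Lib.Helper40.Parabolic

set_option autoImplicit false

namespace Cfsg.Agent.Lib.Helper40

open Finset

universe u

section qint

/-- The `q`-integer `1 + q + ⋯ + q^(m-1)` as a complex number. -/
noncomputable def qInt (q m : ℕ) : ℂ := ((∑ l ∈ range m, q ^ l : ℕ) : ℂ)

theorem qInt_zero (q : ℕ) : qInt q 0 = 0 := by simp [qInt]

theorem qInt_sub (q m t : ℕ) (h : t ≤ m) : (q : ℂ) ^ t * qInt q (m - t) = qInt q m - qInt q t := by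
  have h1 : ∑ l ∈ range m, q ^ l = ∑ l ∈ range t, q ^ l + q ^ t * ∑ l ∈ range (m - t), q ^ l := by
    have e : m = t + (m - t) := by omega
    conv_lhs => rw [e]
    rw [Finset.sum_range_add, Finset.mul_sum]
    congr 1
    apply Finset.sum_congr rfl
    intro x _
    rw [pow_add]
  unfold qInt
  rw [h1]
  push_cast
  ring

theorem prod_qInt_sub (q m k : ℕ) :
    (q : ℂ) ^ (k.choose 2) * ∏ t ∈ range k, qInt q (m - t) = ∏ t ∈ range k, (qInt q m - qInt q t) := by
  by_cases hk : k ≤ m
  · have h1 : ∀ t ∈ range k, qInt q m - qInt q t = (q : ℂ) ^ t * qInt q (m - t) := by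
      intro t ht
      have := Finset.mem_range.1 ht
      rw [qInt_sub q m t (by omega)]
    rw [Finset.prod_congr rfl h1, Finset.prod_mul_distrib, Finset.prod_pow_eq_pow_sum,
      Finset.sum_range_id, ← Nat.choose_two_right]
  · have hm : m ∈ range k := Finset.mem_range.2 (by omega)
    rw [Finset.prod_eq_zero hm (by rw [Nat.sub_self, qInt_zero]),
      Finset.prod_eq_zero hm (sub_self _), mul_zero]

theorem qFact_split (q m k : ℕ) (h : k ≤ m) :
    qFact q m = qFact q (m - k) * ∏ t ∈ range k, ∑ l ∈ range (m - t), q ^ l := by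
  induction k with
  | zero => simp
  | succ k ih =>
    have e : qFact q (m - k) = qFact q (m - (k + 1)) * ∑ l ∈ range (m - k), q ^ l := by
      have e' : m - k = (m - (k + 1)) + 1 := by omega
      conv_lhs => rw [qFact, e', Finset.prod_range_succ]
      rw [← e']
      rfl
    rw [ih (by omega), e, Finset.prod_range_succ]
    ring

theorem six_mul_sum_choose_two : ∀ n : ℕ,
    6 * ∑ j ∈ range n, j.choose 2 = n * (n - 1) * (n - 2)
  | 0 => by simp
  | 1 => by simp
  | 2 => by simp [Finset.sum_range_succ]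
  | (n + 3) => by
    have ih := six_mul_sum_choose_two (n + 2)
    rw [Finset.sum_range_succ, mul_add, ih]
    have h := two_mul_choose_two_add (n + 2)
    have e1 : n + 2 - 1 = n + 1 := rfl
    have e2 : n + 2 - 2 = n := rfl
    have e3 : n + 3 - 1 = n + 2 := rfl
    have e4 : n + 3 - 2 = n + 1 := rfl
    rw [e1, e2, e3, e4]
    nlinarith

theorem sum_choose_two (n : ℕ) : ∑ j ∈ range n, j.choose 2 = n * (n - 1) * (n - 2) / 6 := by
  rw [← six_mul_sum_choose_two]
  simp

end qint

section main

/-- The monic polynomial `∏_{t<j} (X - Q(t))`. -/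
noncomputable def pPoly (q j : ℕ) : Polynomial ℂ :=
  ∏ t ∈ range j, (Polynomial.X - Polynomial.C (qInt q t))

theorem pPoly_monic (q j : ℕ) : (pPoly q j).Monic :=
  Polynomial.monic_prod_of_monic _ _ (fun _ _ => Polynomial.monic_X_sub_C _)

theorem pPoly_natDegree (q j : ℕ) : (pPoly q j).natDegree = j := by
  rw [pPoly, Polynomial.natDegree_prod_of_monic _ _ (fun _ _ => Polynomial.monic_X_sub_C _)]
  simp

theorem pPoly_eval (q j : ℕ) (x : ℂ) :
    (pPoly q j).eval x = ∏ t ∈ range j, (x - qInt q t) := by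
  simp [pPoly, Polynomial.eval_prod]

theorem fixedPointCharacter_one {G : Type*} [Group G] (H : Subgroup G) :
    Cfsg.fixedPointCharacter H 1 = (Nat.card (G ⧸ H) : ℂ) := by
  unfold Cfsg.fixedPointCharacter
  rw [MulAction.fixedBy_one_eq_univ]
  congr 1
  exact Nat.card_congr (Equiv.Set.univ _)

variable {F : Type u} [Field F] [Fintype F]

theorem unipotent_degree {n : ℕ} (ν : Fin n → ℕ) (hsum : ∑ i, ν i = n) :
    Cfsg.unipotentCharacterGL n F ν 1 *
        ((Fintype.card F : ℕ) : ℂ) ^ (n * (n - 1) * (n - 2) / 6) *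
        ∏ i : Fin n, ∏ j ∈ Finset.range (ν i + i.val),
          ((∑ l ∈ Finset.range (j + 1), Fintype.card F ^ l : ℕ) : ℂ) =
      (∏ j ∈ Finset.range n, ((∑ l ∈ Finset.range (j + 1), Fintype.card F ^ l : ℕ) : ℂ)) *
        ∏ i : Fin n, ∏ j ∈ Finset.univ.filter (fun j : Fin n => i < j),
          (((∑ l ∈ Finset.range (ν j + j.val), Fintype.card F ^ l : ℕ) : ℂ) -
            ((∑ l ∈ Finset.range (ν i + i.val), Fintype.card F ^ l : ℕ) : ℂ)) := by
  classical
  set q := Fintype.card F with hqdef
  have hF : ∀ m, ∏ j ∈ range m, ((∑ l ∈ range (j + 1), q ^ l : ℕ) : ℂ) = (qFact q m : ℂ) := by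
    intro m
    rw [qFact, Nat.cast_prod]
  simp only [hF]
  change _ = (qFact q n : ℂ) * ∏ i : Fin n, ∏ j ∈ univ.filter (fun j : Fin n => i < j),
    (qInt q (ν j + j.val) - qInt q (ν i + i.val))
  rw [← sum_choose_two]
  have hterm : ∀ κ : Equiv.Perm (Fin n),
      (if ∀ i : Fin n, (κ i).val ≤ ν i + i.val then
        ((Equiv.Perm.sign κ : ℤ) : ℂ) *
          Cfsg.fixedPointCharacter (Cfsg.parabolicGL n F fun i => ν i + i.val - (κ i).val) 1
      else 0) * (q : ℂ) ^ (∑ j ∈ range n, j.choose 2) * ∏ i : Fin n, (qFact q (ν i + i.val) : ℂ) =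
      (qFact q n : ℂ) * (((Equiv.Perm.sign κ : ℤ) : ℂ) *
        ∏ i : Fin n, (pPoly q (κ i).val).eval (qInt q (ν i + i.val))) := by
    intro κ
    have hT : ∑ j ∈ range n, j.choose 2 = ∑ i : Fin n, ((κ i).val).choose 2 := by
      rw [← Fin.sum_univ_eq_sum_range (fun j => j.choose 2) n]
      exact (Equiv.sum_comp κ (fun j : Fin n => (j.val).choose 2)).symm
    split_ifs with hc
    · have hμ : ∑ i : Fin n, (ν i + i.val - (κ i).val) = n := by
        rw [Finset.sum_tsub_distrib _ (fun i _ => hc i), Finset.sum_add_distrib, hsum,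
          Equiv.sum_comp κ (fun j : Fin n => j.val)]
        omega
      have hidx := parabolic_index (F := F) (fun i => ν i + i.val - (κ i).val) hμ
      have hidx' : (Nat.card (Matrix.GeneralLinearGroup (Fin n) F ⧸
          Cfsg.parabolicGL n F fun i => ν i + i.val - (κ i).val) : ℂ) *
          ∏ i : Fin n, (qFact q (ν i + i.val - (κ i).val) : ℂ) = (qFact q n : ℂ) := by
        rw [← hidx]
        push_cast
        rfl
      rw [fixedPointCharacter_one, ← hidx', hT, ← Finset.prod_pow_eq_pow_sum]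
      have hsplit : ∀ i : Fin n, (qFact q (ν i + i.val) : ℂ) =
          (qFact q (ν i + i.val - (κ i).val) : ℂ) *
            ∏ t ∈ range (κ i).val, qInt q (ν i + i.val - t) := by
        intro i
        rw [qFact_split q (ν i + i.val) (κ i).val (hc i), Nat.cast_mul, Nat.cast_prod]
        rfl
      have hev : ∀ i : Fin n, (pPoly q (κ i).val).eval (qInt q (ν i + i.val)) =
          (q : ℂ) ^ ((κ i).val.choose 2) * ∏ t ∈ range (κ i).val, qInt q (ν i + i.val - t) := by
        intro i
        rw [pPoly_eval, prod_qInt_sub]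
      rw [Finset.prod_congr rfl (fun i _ => hsplit i), Finset.prod_congr rfl (fun i _ => hev i)]
      simp only [Finset.prod_mul_distrib]
      ring
    · push Not at hc
      obtain ⟨i, hi⟩ := hc
      rw [zero_mul, zero_mul]
      have h0 : (pPoly q (κ i).val).eval (qInt q (ν i + i.val)) = 0 := by
        rw [pPoly_eval]
        exact Finset.prod_eq_zero (Finset.mem_range.2 hi) (sub_self _)
      rw [Finset.prod_eq_zero (Finset.mem_univ i) h0, mul_zero, mul_zero]
  unfold Cfsg.unipotentCharacterGL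
  rw [Finset.sum_mul, Finset.sum_mul, Finset.sum_congr rfl (fun κ _ => hterm κ), ← Finset.mul_sum]
  congr 1
  have hdet := Matrix.det_eval_matrixOfPolynomials_eq_det_vandermonde
    (fun i : Fin n => qInt q (ν i + i.val)) (fun j : Fin n => pPoly q j.val)
    (fun j => pPoly_natDegree q j.val) (fun j => pPoly_monic q j.val)
  rw [Matrix.det_vandermonde] at hdet
  have hfil : ∀ i : Fin n, univ.filter (fun j : Fin n => i < j) = Finset.Ioi i := by
    intro i
    ext j
    simp
  simp only [hfil]
  rw [hdet, ← Matrix.det_transpose, Matrix.det_apply']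
  rfl

end main

end Cfsg.Agent.Lib.Helper40
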